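import Groth.Agent.H24GE.PushLocal

/-!
# Systems which become algebraic after a proper modification

If the inverse image of a coherent formal module under a proper map which is an isomorphism outside the
support of `K` is the completion of a coherent module `F`, the formal module maps to the completion of the
direct image of `F` with kernels and cokernels killed by a power of `K`.
-/

set_option autoImplicit false
set_option linter.style.haveILetI false
set_option linter.unusedSectionVars false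
universe u

open CategoryTheory CategoryTheory.Limits AlgebraicGeometry Opposite

namespace Groth.Agent.H24GE

open Groth.Agent.H24Formal Groth.Agent.H24Formal.HomC

theorem isIso_restrict_of_le {X Y : Scheme.{u}} (f : X ⟶ Y) {U W : Y.Opens} (h : W ≤ U) [IsIso (f ∣_ U)] :
    IsIso (f ∣_ W) := by
  have hW : U.ι ''ᵁ (U.ι ⁻¹ᵁ W) = W := by
    rw [Scheme.Hom.image_preimage_eq_opensRange_inf, Scheme.Opens.opensRange_ι]
    exact inf_eq_right.2 h
  have h1 : IsIso (f ∣_ U ∣_ (U.ι ⁻¹ᵁ W)) :=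
    IsZariskiLocalAtTarget.restrict (P := MorphismProperty.isomorphisms Scheme) (f := f ∣_ U) ‹_› _
  have h2 : IsIso (f ∣_ U.ι ''ᵁ (U.ι ⁻¹ᵁ W)) :=
    ((MorphismProperty.isomorphisms Scheme).arrow_mk_iso_iff (morphismRestrictRestrict f U _)).1 h1
  rwa [hW] at h2

theorem disjoint_support {Y : Scheme.{u}} (K : Y.IdealSheafData) (V : Y.affineOpens) {k : Γ(Y, V.1)}
    (hk : k ∈ K.ideal V) : Y.basicOpen k ≤ K.support.compl := fun y hy hys => by
  have h1 : y ∈ (K.support : Set Y) ∩ (V.1 : Set Y) := ⟨hys, Y.basicOpen_le k hy⟩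
  rw [K.coe_support_inter] at h1
  exact (Scheme.mem_zeroLocus_iff Y _ y).1 h1.1 k hk hy

variable {A : Type u} [CommRing A] {X Y : Scheme.{u}} [X.Over (Spec (CommRingCat.of A))]
  [Y.Over (Spec (CommRingCat.of A))] [IsNoetherian Y] [IsLocallyNoetherian X] (f : X ⟶ Y) [IsProper f]
  (hf : f ≫ (Y ↘ Spec (CommRingCat.of A)) = X ↘ Spec (CommRingCat.of A)) {J : Ideal A} {F : X.Modules}
  {G : ℕᵒᵖ ⥤ Y.Modules} (β : (G ⋙ Scheme.Modules.pullback f) ≅ Formal.completion J F)

include hf in
/-- Over an affine open a power of the ideal kills kernels and cokernels of all levels. -/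
theorem exists_pow_level (hJ : J.FG) (hF : Coh.IsCoh F) (hG : Formal.IsCohFormal J G)
    (α : G ⟶ Formal.completion J ((Scheme.Modules.pushforward f).obj F))
    (hα : α ≫ pushCmp f hf J F = pushUnit f J F β) (K : Y.IdealSheafData) (hK : IsIso (f ∣_ K.support.compl))
    (V : Y.affineOpens) :
    ∃ T : ℕ, ∀ n : ℕ,
      (∀ z : Γ(G.obj (op n), V.1), (α.app (op n)).app V.1 z = 0 → ∀ a ∈ K.ideal V ^ T, a • z = 0) ∧
      ∀ y, ∀ a ∈ K.ideal V ^ T, ∃ z : Γ(G.obj (op n), V.1), (α.app (op n)).app V.1 z = a • y := by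
  obtain ⟨V, hV⟩ := V
  haveI := hK
  haveI := isNoetherianRing_sections (X := Y) hV
  have hH := isCoh_pushforward f hF
  let SM := secSys hJ hG hV
  let SN := secSys hJ (isCohFormal_compl (I := J) hH) hV
  let φ := appL (limMap α) V
  let T₀ : Ideal Γ(Y, V) :=
    Module.annihilator Γ(Y, V) (LinearMap.ker φ) ⊓ Module.annihilator Γ(Y, V) (_ ⧸ LinearMap.range φ)
  have hrad : K.ideal ⟨V, hV⟩ ≤ T₀.radical := fun k hk => by
    haveI : IsIso (f ∣_ Y.basicOpen k) := isIso_restrict_of_le f (disjoint_support K ⟨V, hV⟩ hk)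
    obtain ⟨N, hN₁, hN₂⟩ := exists_pow_local f hf J β hV hJ hF hG α hα k
    refine ⟨N, Module.mem_annihilator.2 fun m => Subtype.ext (hN₁ m.1 m.2), Module.mem_annihilator.2 fun y => ?_⟩
    obtain ⟨y, rfl⟩ := Submodule.Quotient.mk_surjective _ y
    obtain ⟨m, hm⟩ := hN₂ y
    exact (Submodule.Quotient.mk_eq_zero _).2 ⟨m, hm⟩
  obtain ⟨T, hT⟩ := Ideal.exists_pow_le_of_le_radical_of_fg hrad (IsNoetherian.noetherian _)
  have hker : ∀ a ∈ K.ideal ⟨V, hV⟩ ^ T, ∀ x, φ x = 0 → a • x = 0 := fun a ha x hx =>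
    congrArg Subtype.val (Module.mem_annihilator.1 (hT ha).1 ⟨x, hx⟩)
  have hcok : ∀ a ∈ K.ideal ⟨V, hV⟩ ^ T, ∀ y, ∃ x, φ x = a • y := fun a ha y =>
    (Submodule.Quotient.mk_eq_zero _).1 (Module.mem_annihilator.1 (hT ha).2 (Submodule.Quotient.mk y))
  refine ⟨T + T, fun n => ⟨fun z hz a ha => ?_, fun y a ha => ?_⟩⟩
  · obtain ⟨x, rfl⟩ := SM.π_surjective n z
    have h1 : φ x ∈ secIdeal J V ^ (n + 1) • (⊤ : Submodule Γ(Y, V) _) := by
      rw [← SN.ker_eq_of_fg (IsNoetherian.noetherian _) n, LinearMap.mem_ker]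
      exact (limMap_π_app α n V x).trans hz
    rw [pow_add] at ha
    refine Submodule.mul_induction_on ha (fun d hd c hc => ?_) fun a b h1 h2 => by rw [add_smul, h1, h2, add_zero]
    have h2 : ∃ w ∈ secIdeal J V ^ (n + 1) • (⊤ : Submodule Γ(Y, V) Γ(limit G, V)), φ w = c • φ x := by
      refine Submodule.smul_induction_on (p := fun q => ∃ w ∈ secIdeal J V ^ (n + 1) •
        (⊤ : Submodule Γ(Y, V) Γ(limit G, V)), φ w = c • q) h1 (fun b hb q _ => ?_) fun p q hp hq => ?_
      · obtain ⟨w, hw⟩ := hcok c hc q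
        exact ⟨b • w, Submodule.smul_mem_smul hb trivial, by rw [map_smul, hw, smul_comm]⟩
      · obtain ⟨w₁, hw₁, e₁⟩ := hp
        obtain ⟨w₂, hw₂, e₂⟩ := hq
        exact ⟨w₁ + w₂, add_mem hw₁ hw₂, by rw [map_add, e₁, e₂, smul_add]⟩
    obtain ⟨w, hw, hwx⟩ := h2
    have h3 : d • (c • x - w) = 0 := hker d hd _ (by rw [map_sub, map_smul, hwx, sub_self])
    rw [smul_sub, sub_eq_zero, smul_smul] at h3
    rw [← map_smul, h3, map_smul, show SM.π n w = 0 from ?_, smul_zero]
    rwa [← LinearMap.mem_ker, SM.ker_eq_of_fg (IsNoetherian.noetherian _) n]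
  · obtain ⟨y, rfl⟩ := SN.π_surjective n y
    obtain ⟨x, hx⟩ := hcok a (Ideal.pow_le_pow_right (Nat.le_add_right T T) ha) y
    refine ⟨SM.π n x, ?_⟩
    rw [← map_smul]
    exact (limMap_π_app α n V x).symm.trans (congrArg (SN.π n) hx)

/-- Vanishing on a finite affine cover of the action of an ideal sheaf. -/
theorem killedByIdeal_of_cover (K : Y.IdealSheafData) {M : Y.Modules} (hM : Coh.IsQCoh M) {ι : Type*}
    (U : ι → Y.affineOpens) (hU : ∀ x, ∃ i, x ∈ (U i).1)
    (h : ∀ i, ∀ a ∈ K.ideal (U i), ∀ m : Γ(M, (U i).1), a • m = 0) : ClSub.KilledByIdeal K M := by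
  haveI : Mono (qmη K M) := by
    refine Abelian.mono_of_kernel_ι_eq_zero _ ?_
    haveI : M.IsQuasicoherent := hM
    haveI : ((qm K).obj M).IsQuasicoherent := isQCoh_qm K hM
    refine eq_zero_on_cover (H10Coh.isQuasicoherent_kernel _) _ (fun i => (U i).1) (fun i => (U i).2) hU fun i z => ?_
    have h1 : (qmη K M).app (U i).1 ((kernel.ι (qmη K M)).app (U i).1 z) = 0 :=
      app_congr (kernel.condition (qmη K M)) _ z
    have h2 := (qmη_eq_zero_iff K hM (U i).2 _).1 h1
    exact Submodule.smul_induction_on (p := fun q => q = 0) h2 (fun a ha q _ => h i a ha q)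
      fun p q hp hq => by rw [hp, hq, add_zero]
  exact killedByIdeal_of_mono (qmη K M) (killed_qm K M)

include hf in
/-- The kernels and cokernels are killed by one power of the ideal sheaf. -/
theorem kerCoker_killed (hJ : J.FG) (hF : Coh.IsCoh F) (hG : Formal.IsCohFormal J G)
    (α : G ⟶ Formal.completion J ((Scheme.Modules.pushforward f).obj F))
    (hα : α ≫ pushCmp f hf J F = pushUnit f J F β) (K : Y.IdealSheafData) (hK : IsIso (f ∣_ K.support.compl)) :
    Formal2.KerCokerKilledByPow K α := by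
  obtain ⟨r, U, hU, -, hcov⟩ := H10Coh.exists_finite_affine_cover (X := Y) (W := ⊤) isCompact_univ
  choose T hT using fun i => exists_pow_level f hf β hJ hF hG α hα K hK ⟨U i, hU i⟩
  refine ⟨Finset.univ.sup T, fun n => ?_⟩
  have hH := isCohFormal_compl (I := J) (isCoh_pushforward f hF)
  haveI := (hG.1 n).1
  haveI := (hH.1 n).1
  have hcov' : ∀ x, ∃ i, x ∈ (⟨U i, hU i⟩ : Y.affineOpens).1 :=
    fun x => TopologicalSpace.Opens.mem_iSup.1 (hcov trivial)
  have hmem : ∀ i a, a ∈ (K ^ (Finset.univ.sup T + 1)).ideal ⟨U i, hU i⟩ → a ∈ K.ideal ⟨U i, hU i⟩ ^ T i :=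
    fun i a ha => by
      rw [Scheme.IdealSheafData.ideal_pow, Pi.pow_apply] at ha
      exact Ideal.pow_le_pow_right ((Finset.le_sup (Finset.mem_univ i)).trans (Nat.le_succ _)) ha
  refine ⟨killedByIdeal_of_cover _ (H10Coh.isQuasicoherent_kernel _) (fun i => ⟨U i, hU i⟩) hcov' fun i a ha m => ?_,
    killedByIdeal_of_cover _ (H10Coh.isQuasicoherent_cokernel _) (fun i => ⟨U i, hU i⟩) hcov' fun i a ha m => ?_⟩
  · refine H10Coh.injective_app_of_mono' (kernel.ι (α.app (op n))) (U i) ?_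
    rw [Scheme.Modules.Hom.app_smul, map_zero]
    exact (hT i n).1 _ (app_congr (kernel.condition (α.app (op n))) _ m) a (hmem i a ha)
  · haveI := H10Coh.isQuasicoherent_cokernel (α.app (op n))
    obtain ⟨y, rfl⟩ := H10Coh.surjective_app_of_epi (cokernel.π (α.app (op n))) (hU i) m
    obtain ⟨z, hz⟩ := (hT i n).2 y a (hmem i a ha)
    refine (Scheme.Modules.Hom.app_smul _ a y).symm.trans ?_
    refine (congrArg ((cokernel.π (α.app (op n))).app (U i)) hz).symm.trans ?_
    exact app_congr (cokernel.condition (α.app (op n))) _ z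

omit [IsLocallyNoetherian X] in
include hf in
/-- A system which becomes algebraic after a proper modification outside `K`. -/
theorem push_pull (K : Y.IdealSheafData) (hK : IsIso (f ∣_ K.support.compl)) (hF : Coh.IsCoh F)
    (hG : Formal.IsCohFormal J G) (β : (G ⋙ Scheme.Modules.pullback f) ≅ Formal.completion J F) :
    ∃ α : G ⟶ Formal.completion J ((Scheme.Modules.pushforward f).obj F), Formal2.KerCokerKilledByPow K α := by
  haveI : IsLocallyNoetherian X := LocallyOfFiniteType.isLocallyNoetherian f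
  haveI : CompactSpace X := QuasiCompact.compactSpace_of_compactSpace f
  haveI : IsNoetherian X := {}
  obtain ⟨J₀, hJ₀, he⟩ := exists_idealOf_eq_fg (X := Y) J
  have heX : idealOf X J₀ = idealOf X J := by
    have hex : ∀ x : X, ∃ W : X.affineOpens, x ∈ W.1 ∧ (idealOf X J₀).ideal W = (idealOf X J).ideal W := fun x => by
      obtain ⟨V, hV, hxV, -⟩ := exists_isAffineOpen_mem_and_subset (x := f x) (U := ⊤) trivial
      obtain ⟨U, hU, hxU, hUV⟩ := exists_isAffineOpen_mem_and_subset (x := x) (U := f ⁻¹ᵁ V) hxV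
      refine ⟨⟨U, hU⟩, hxU, ?_⟩
      have := congrArg (fun I => I.ideal ⟨V, hV⟩) he
      simp only [ideal_idealOf] at this ⊢
      rw [← secIdeal_map f hf J₀ hUV, ← secIdeal_map f hf J hUV, this]
    choose W hxW hW using hex
    refine Scheme.IdealSheafData.ext_of_iSup_eq_top W ?_ hW
    exact eq_top_iff.2 fun x _ => TopologicalSpace.Opens.mem_iSup.2 ⟨x, hxW x⟩
  have hY : SameKill (X := Y) J J₀ := fun n M => by rw [← killedByIdeal_iff, ← killedByIdeal_iff, he]
  have hX : SameKill (X := X) J J₀ := fun n M => by rw [← killedByIdeal_iff, ← killedByIdeal_iff, heX]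
  let β₀ := β ≪≫ complCongr hX F
  have hG₀ := isCohFormal_congr hY hG
  obtain ⟨α, hα⟩ := exists_alpha f hf J₀ F hJ₀ hF hG₀ β₀
  obtain ⟨t, ht⟩ := kerCoker_killed f hf β₀ hJ₀ hF hG₀ α hα K hK
  have hiso : ∀ n, IsIso ((complCongr hY ((Scheme.Modules.pushforward f).obj F)).inv.app (op n)) :=
    fun n => inferInstance
  exact ⟨α ≫ (complCongr hY _).inv, t, fun n =>
    ⟨killedByIdeal_kernel_comp (α.app (op n)) _ (@IsIso.mono_of_iso _ _ _ _ _ (hiso n)) (ht n).1,
      killedByIdeal_cokernel_comp (α.app (op n)) _ (hiso n) (ht n).2⟩⟩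

end Groth.Agent.H24GE
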