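import Groth.Agent.H24GE.Boundary

/-!
# Grothendieck's existence theorem for formal modules with proper support

A formal module whose first level is killed by an ideal sheaf with proper zero locus is killed as a whole by
such an ideal sheaf: Noetherian induction along closed subschemes, Chow's lemma, and kernels of formal modules.
-/

set_option autoImplicit false
set_option linter.style.haveILetI false
set_option linter.unusedSectionVars false
universe u

open CategoryTheory CategoryTheory.Limits AlgebraicGeometry Opposite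

namespace Groth.Agent.H24GE

open Groth.Agent.H24Formal Groth.Agent.H24Formal.HomC

variable {A : Type u} [CommRing A] {X : Scheme.{u}} [X.Over (Spec (CommRingCat.of A))] {I : Ideal A}

/-- Kernels killed by `K` of a map into a completion killed by `L₁`, with the kernel system killed by `L₂`. -/
theorem killed_mul [IsNoetherian X] (hI : I.FG) {G P : ℕᵒᵖ ⥤ X.Modules} (hG : Formal.IsCohFormal I G)
    (hP : Formal.IsCohFormal I P) (α : G ⟶ P) {L₁ L₂ : X.IdealSheafData}
    (h₁ : ∀ n, ClSub.KilledByIdeal L₁ (P.obj (op n)))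
    (h₂ : ∀ n, ClSub.KilledByIdeal L₂ ((Formal.completion I (kernel (limMap α))).obj (op n))) (n : ℕ) :
    ClSub.KilledByIdeal (L₁ * L₂) (G.obj (op n)) := by
  obtain ⟨c, hc⟩ := exists_lift_kernel α hI hG hP
  intro V a ha g
  haveI := isNoetherianRing_sections (X := X) V.2
  haveI := finite_sections' (hG.1 0) V.2
  obtain ⟨x, rfl⟩ := (secSys hI hG V.2).π_surjective n g
  rw [Scheme.IdealSheafData.ideal_mul, Pi.mul_apply] at ha
  refine Submodule.mul_induction_on ha (fun a ha b hb => ?_)
    fun p q (hp : p • _ = 0) (hq : q • _ = 0) => (add_smul p q _).trans ((congrArg₂ (· + ·) hp hq).trans (add_zero _))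
  let z : Γ(G.obj (op (n + c)), V.1) := a • (limit.π G (op (n + c))).app V.1 x
  have hz : (α.app (op (n + c))).app V.1 z = 0 := by
    rw [Scheme.Modules.Hom.app_smul]
    exact h₁ (n + c) V a ha _
  obtain ⟨q, hq0, hq⟩ := hc n (n + c) le_rfl V z hz
  obtain ⟨s, hs⟩ := exists_kernel_section (limMap α) V.1 q hq0
  have h4 : (G.map (homOfLE (Nat.le_add_right n c)).op).app V.1 z = a • (secSys hI hG V.2).π n x := by
    rw [Scheme.Modules.Hom.app_smul]
    exact congrArg (a • ·) (app_congr (limit.w G (homOfLE (Nat.le_add_right n c)).op) V.1 x)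
  have h5 : (limit.π G (op n)).app V.1 q =
      ((kerι α hG).app (op n)).app V.1 ((Formal.modPowπ I (n + 1) (kernel (limMap α))).app V.1 s) := by
    rw [← hs]
    exact (app_congr (π_kerι α hG n) V.1 s).symm
  have h6 : b • a • (secSys hI hG V.2).π n x = 0 := by
    rw [← h4, ← hq, h5]
    exact ((((kerι α hG).app (op n)).app_smul b _).symm).trans
      ((congrArg (((kerι α hG).app (op n)).app V.1) (h₂ n V b hb _)).trans (map_zero _))
  rw [mul_comm a b]
  exact (mul_smul b a _).trans h6

variable [IsNoetherianRing A] [IsAdicComplete I A]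

/-- The kernel system of a map with kernels killed by `K` is killed by `K`. -/
theorem killed_kerSys [IsNoetherian X] {G P : ℕᵒᵖ ⥤ X.Modules} (hG : Formal.IsCohFormal I G)
    (hP : Formal.IsCohFormal I P) (α : G ⟶ P) {K : X.IdealSheafData}
    (hk : ∀ n, ClSub.KilledByIdeal K (kernel (α.app (op n)))) (n : ℕ) :
    ClSub.KilledByIdeal K ((Formal.completion I (kernel (limMap α))).obj (op n)) := fun V a ha y => by
  have hI : I.FG := IsNoetherian.noetherian I
  obtain ⟨s, rfl⟩ := surjective_modPowπ_kernel α hI hG hP n V y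
  have h1 : a • s = 0 := by
    refine H10Coh.injective_app_of_mono' (kernel.ι (limMap α)) V.1 ?_
    rw [Scheme.Modules.Hom.app_smul, map_zero]
    refine limit_section_ext G V.1 _ _ fun m => ?_
    rw [Scheme.Modules.Hom.app_smul, map_zero]
    refine smul_eq_zero_of_ker (α.app (op m)) (hk m) V _ ?_ ha
    rw [← limMap_π_app]
    exact (congrArg ((limit.π P (op m)).app V.1) (app_congr (kernel.condition (limMap α)) V.1 s)).trans (map_zero _)
  exact ((Formal.modPowπ I (n + 1) (kernel (limMap α))).app_smul a s).symm.trans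
    ((congrArg ((Formal.modPowπ I (n + 1) (kernel (limMap α))).app V.1) h1).trans (map_zero _))

variable (I X)

/-- Formal modules with proper support are killed by one ideal sheaf with proper zero locus. -/
def KillerAll : Prop :=
  ∀ G : ℕᵒᵖ ⥤ X.Modules, Formal.IsCohFormal I G → ∀ L₀ : X.IdealSheafData,
    ProperIdeal (X ↘ Spec (CommRingCat.of A)) L₀ → ClSub.KilledByIdeal L₀ (G.obj (op 0)) →
    ∃ L : X.IdealSheafData, ProperIdeal (X ↘ Spec (CommRingCat.of A)) L ∧
      ∀ k : ℕ, ClSub.KilledByIdeal L (G.obj (op k))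

theorem killerAll_of_separated [IsSeparated (X ↘ Spec (CommRingCat.of A))]
    [LocallyOfFiniteType (X ↘ Spec (CommRingCat.of A))] [QuasiCompact (X ↘ Spec (CommRingCat.of A))] :
    KillerAll X I := by
  haveI : IsLocallyNoetherian X := LocallyOfFiniteType.isLocallyNoetherian (X ↘ Spec (CommRingCat.of A))
  haveI : CompactSpace X := QuasiCompact.compactSpace_of_compactSpace (X ↘ Spec (CommRingCat.of A))
  haveI : IsNoetherian X := {}
  haveI := S4362.result X
  have hI : I.FG := IsNoetherian.noetherian I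
  suffices h : ∀ (K : X.IdealSheafData) (Z : Scheme.{u}) [Z.Over (Spec (CommRingCat.of A))] (i : Z ⟶ X)
      [IsClosedImmersion i], i ≫ (X ↘ Spec (CommRingCat.of A)) = Z ↘ Spec (CommRingCat.of A) → i.ker = K →
      KillerAll Z I from h _ X (𝟙 X) (Category.id_comp _) rfl
  intro K
  induction K using WellFoundedGT.induction with
  | _ K ih =>
  intro Z _ i _ hi hK G hG L₀ hL₀ h0
  haveI : IsSeparated (Z ↘ Spec (CommRingCat.of A)) := hi ▸ inferInstance
  haveI : LocallyOfFiniteType (Z ↘ Spec (CommRingCat.of A)) := hi ▸ inferInstance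
  haveI : QuasiCompact (Z ↘ Spec (CommRingCat.of A)) := hi ▸ inferInstance
  haveI : IsLocallyNoetherian Z := LocallyOfFiniteType.isLocallyNoetherian i
  haveI : CompactSpace Z := QuasiCompact.compactSpace_of_compactSpace i
  haveI : IsNoetherian Z := {}
  rcases isEmpty_or_nonempty Z with hZ | hZ
  · exact ⟨L₀, hL₀, fun k U a _ m => H11Tilde.eq_of_locally _ _ fun x _ => isEmptyElim x⟩
  obtain ⟨n, Z', π, j, hj, hjS, hπ, -, U, hU, hiso⟩ := S0025.result (Z ↘ Spec (CommRingCat.of A))
  haveI := hπ
  letI : Z'.Over (Spec (CommRingCat.of A)) := ⟨π ≫ (Z ↘ Spec (CommRingCat.of A))⟩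
  haveI : IsSeparated (Z' ↘ Spec (CommRingCat.of A)) :=
    inferInstanceAs (IsSeparated (π ≫ (Z ↘ Spec (CommRingCat.of A))))
  haveI : LocallyOfFiniteType (Z' ↘ Spec (CommRingCat.of A)) :=
    inferInstanceAs (LocallyOfFiniteType (π ≫ (Z ↘ Spec (CommRingCat.of A))))
  haveI : IsLocallyNoetherian Z' := LocallyOfFiniteType.isLocallyNoetherian π
  haveI : CompactSpace Z' := QuasiCompact.compactSpace_of_compactSpace π
  haveI : IsNoetherian Z' := {}
  -- algebraize on the quasi-projective modification
  have hG' := H24Formal.isCohFormal_pullback π rfl I hG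
  obtain ⟨L', hL', hk'⟩ := exists_killer_of_immersion (I := I) n j hjS hG' (properIdeal_comap π rfl hL₀)
    (killedByIdeal_pullback π (hG.1 0).1 h0)
  obtain ⟨F, hF, hFk, ⟨e⟩⟩ := exists_algebraization_of_killer hL' hG' hk'
  let K' : Z.IdealSheafData :=
    Scheme.IdealSheafData.vanishingIdeal ⟨(U : Set Z)ᶜ, U.2.isClosed_compl⟩
  have hsupp : (K'.support : Set Z) = (U : Set Z)ᶜ := Scheme.IdealSheafData.coe_support_vanishingIdeal _
  have hc : K'.support.compl = U := TopologicalSpace.Opens.ext (by
    show (K'.support : Set Z)ᶜ = U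
    rw [hsupp, compl_compl])
  have hiso' : IsIso (π ∣_ K'.support.compl) := by rw [hc]; exact hiso
  obtain ⟨α, t, hα⟩ := push_pull π rfl K' hiso' hF hG e.symm
  have hH := isCoh_pushforward π hF
  have hP := isCohFormal_compl (I := I) hH
  -- the ideal killing the direct image
  let L₁ := (L'.subschemeι ≫ π).ker
  have hL₁ : ProperIdeal (Z ↘ Spec (CommRingCat.of A)) L₁ := by
    haveI : IsProper ((L'.subschemeι ≫ π) ≫ (Z ↘ Spec (CommRingCat.of A))) := by
      rw [Category.assoc]; exact hL'
    exact properIdeal_ker (L'.subschemeι ≫ π) _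
  have hk₁ : ∀ k, ClSub.KilledByIdeal L₁ ((Formal.completion I ((Scheme.Modules.pushforward π).obj F)).obj (op k)) :=
    killedByIdeal_compl hH (killedByIdeal_pushforward π hF.1 hFk)
  -- the kernel system lives on a smaller closed subscheme
  let C := Formal.completion I (kernel (limMap α))
  have hC : Formal.IsCohFormal I C := isCohFormal_kerSys α hI hG hP
  have hCk : ∀ k, ClSub.KilledByIdeal (K' ^ (t + 1)) (C.obj (op k)) :=
    killed_kerSys hG hP α fun k => (hα k).1
  obtain ⟨d, c, hd, hdiso, -⟩ := exists_isIso_modPowMap α hI hG hP 0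
  have hC0 : ClSub.KilledByIdeal (L₀ ^ (d + 1)) (C.obj (op 0)) := by
    haveI : IsIso (modPowMap I (0 + 1) (toImLevel α d c)) := hdiso
    have h1 : ClSub.KilledByIdeal (L₀ ^ (d + 1)) (imLevel α d c) :=
      killedByIdeal_of_mono (imι α d c) (killed_level hI hG h0 d)
    exact killedByIdeal_of_iso (@asIso _ _ _ _ _ hdiso)
      (@killedByIdeal_of_epi _ _ _ _ hd.1 (isCoh_modPow I (0 + 1) hd).1 (Formal.modPowπ I (0 + 1) (imLevel α d c))
        coequalizer.π_epi h1)
  let W := (K' ^ (t + 1)).subscheme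
  let w := (K' ^ (t + 1)).subschemeι
  letI : W.Over (Spec (CommRingCat.of A)) := ⟨w ≫ (Z ↘ Spec (CommRingCat.of A))⟩
  haveI : LocallyOfFiniteType (W ↘ Spec (CommRingCat.of A)) :=
    inferInstanceAs (LocallyOfFiniteType (w ≫ (Z ↘ Spec (CommRingCat.of A))))
  haveI : IsLocallyNoetherian W := LocallyOfFiniteType.isLocallyNoetherian w
  haveI : CompactSpace W := QuasiCompact.compactSpace_of_compactSpace w
  haveI : IsNoetherian W := {}
  obtain ⟨z, hz⟩ := hU.nonempty
  have hlt : K < (w ≫ i).ker := by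
    rw [← hK]
    refine lt_of_le_of_ne (w.le_ker_comp i) fun h => ?_
    have hs := congrArg (fun L => (L.support : Set X)) h
    simp only [Scheme.Hom.support_ker] at hs
    have h1 : i z ∈ closure (Set.range (w ≫ i)) := hs ▸ subset_closure ⟨z, rfl⟩
    rw [(w ≫ i).isClosedEmbedding.isClosed_range.closure_eq] at h1
    obtain ⟨y, hy⟩ := h1
    have h2 : w y = z := i.isClosedEmbedding.injective hy
    refine notMem_support_pow K' (fun h3 => ?_) (t + 1) (?_ : z ∈ (K' ^ (t + 1)).support)
    · exact (hsupp.subset h3) hz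
    · rw [← h2, ← SetLike.mem_coe, ← Scheme.IdealSheafData.range_subschemeι]
      exact ⟨y, rfl⟩
  have hL₀d : ProperIdeal (Z ↘ Spec (CommRingCat.of A)) (L₀ ^ (d + 1)) := by
    rw [properIdeal_iff, Scheme.IdealSheafData.support_pow_succ, ← properIdeal_iff]
    exact hL₀
  obtain ⟨LW, hLW, hkW⟩ := ih (w ≫ i).ker hlt W (w ≫ i) (by rw [Category.assoc, hi]; rfl) rfl
    (C ⋙ Scheme.Modules.pullback w) (H24Formal.isCohFormal_pullback w rfl I hC)
    ((L₀ ^ (d + 1)).comap w) (properIdeal_comap w rfl hL₀d) (killedByIdeal_pullback w (hC.1 0).1 hC0)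
  let L₂ := (LW.subschemeι ≫ w).ker
  have hL₂ : ProperIdeal (Z ↘ Spec (CommRingCat.of A)) L₂ := by
    haveI : IsProper ((LW.subschemeι ≫ w) ≫ (Z ↘ Spec (CommRingCat.of A))) := by
      rw [Category.assoc]; exact hLW
    exact properIdeal_ker (LW.subschemeι ≫ w) _
  have hk₂ : ∀ k, ClSub.KilledByIdeal L₂ (C.obj (op k)) := fun k => by
    haveI := LeadProper.isIso_unit_of_killedByIdeal (C.obj (op k)) (hC.1 k).1 w
      (by rw [Scheme.IdealSheafData.ker_subschemeι]; exact hCk k)
    exact killedByIdeal_of_iso (asIso ((Scheme.Modules.pullbackPushforwardAdjunction w).unit.app (C.obj (op k))))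
      (killedByIdeal_pushforward w (H29Fitt.isQCoh_pullback w _ (hC.1 k).1) (hkW k))
  exact ⟨L₁ * L₂, properIdeal_mul _ hL₁ hL₂, killed_mul hI hG hP α hk₁ hk₂⟩

/-- Grothendieck's existence theorem for proper support. -/
theorem exists_algebraization_properSupport [IsSeparated (X ↘ Spec (CommRingCat.of A))]
    [LocallyOfFiniteType (X ↘ Spec (CommRingCat.of A))] [QuasiCompact (X ↘ Spec (CommRingCat.of A))]
    (G : ℕᵒᵖ ⥤ X.Modules) (hG : Formal.IsCohFormal I G)
    (hGs : ClSub.IsProperOver (X ↘ Spec (CommRingCat.of A)) (CohB1.support (G.obj (op 0)))) :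
    ∃ M : X.Modules, Coh.IsCoh M ∧ ClSub.IsProperOver (X ↘ Spec (CommRingCat.of A)) (CohB1.support M) ∧
      Nonempty (Formal.completion I M ≅ G) := by
  haveI : IsLocallyNoetherian X := LocallyOfFiniteType.isLocallyNoetherian (X ↘ Spec (CommRingCat.of A))
  have h0 := hG.1 0
  have hL₀ : ProperIdeal (X ↘ Spec (CommRingCat.of A)) (Fitt.sheafIdeal (G.obj (op 0)) 0) := by
    rw [properIdeal_iff, ← LeadProper.support_eq_fitt _ h0.1 h0.2]
    exact hGs
  obtain ⟨L, hL, hk⟩ := killerAll_of_separated X I G hG _ hL₀ (LeadProper.killedByIdeal_fitt _ h0.1 h0.2)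
  obtain ⟨M, hM, hMk, he⟩ := exists_algebraization_of_killer hL hG hk
  refine ⟨M, hM, ?_, he⟩
  haveI := LeadProper.isIso_unit_of_killedByIdeal M hM.1 L.subschemeι
    (by rw [Scheme.IdealSheafData.ker_subschemeι]; exact hMk)
  refine LeadProper.isProperOver_mono ((properIdeal_iff _ L).1 hL) (LeadProper.isClosed_support M hM.1 hM.2) ?_
  rw [← Scheme.IdealSheafData.range_subschemeι]
  exact LeadProper.support_subset_range M hM.1 L.subschemeι
    (asIso ((Scheme.Modules.pullbackPushforwardAdjunction L.subschemeι).unit.app M)).symm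

end Groth.Agent.H24GE
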