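import Groth.Agent.H24GE.Alg
import Groth.Agent.H24Formal.HomComplete

/-!
# Limits of coherent formal modules and exactness
-/

set_option autoImplicit false
set_option linter.style.haveILetI false
set_option linter.unusedSectionVars false
universe u

open CategoryTheory CategoryTheory.Limits AlgebraicGeometry Opposite

namespace Groth.Agent.H24GE

open Groth.Agent.H24Formal Groth.Agent.H24Formal.HomC

variable {A : Type u} [CommRing A] {X : Scheme.{u}} [X.Over (Spec (CommRingCat.of A))]

/-- Sections of a module killed by `J` are killed by the ideal generated by `J`. -/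
theorem smul_eq_zero_of_killedBy {J : Ideal A} {M : X.Modules} (h : Formal.KilledBy J M) (V : X.Opens)
    {r : Γ(X, V)} (hr : r ∈ secIdeal J V) (m : Γ(M, V)) : r • m = 0 := by
  refine Submodule.span_induction (p := fun r _ => r • m = 0) ?_ (zero_smul _ m)
    (fun a b _ _ ha hb => by rw [add_smul, ha, hb, add_zero])
    (fun a b _ hb => by rw [smul_eq_mul, mul_smul, hb, smul_zero]) hr
  rintro _ ⟨a, ha, rfl⟩
  rw [← smulMod_app M a V m, h a ha]
  rfl

theorem secIdeal_pow (I : Ideal A) (V : X.Opens) (n : ℕ) : secIdeal (X := X) (I ^ n) V = secIdeal I V ^ n :=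
  Ideal.map_pow _ I n

/-- Sections multiples of `J` are multiples of the generated ideal. -/
theorem mem_secIdeal_smul {J : Ideal A} {M : X.Modules} {V : X.Opens} {m : SecMod A M V}
    (h : m ∈ J • (⊤ : Submodule A (SecMod A M V))) :
    (show Γ(M, V) from m) ∈ secIdeal J V • (⊤ : Submodule Γ(X, V) Γ(M, V)) := by
  refine Submodule.smul_induction_on h
    (p := fun q : SecMod A M V => (show Γ(M, V) from q) ∈ secIdeal J V • (⊤ : Submodule Γ(X, V) Γ(M, V)))
    (fun a ha q _ => ?_) fun p q hp hq => add_mem (M := Γ(M, V)) hp hq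
  show scalA A V a • (show Γ(M, V) from q) ∈ _
  exact Submodule.smul_mem_smul (Ideal.mem_map_of_mem _ ha) trivial

variable [IsLocallyNoetherian X] {I : Ideal A}

theorem isNoetherianRing_sections {V : X.Opens} (hV : IsAffineOpen V) : IsNoetherianRing Γ(X, V) :=
  IsLocallyNoetherian.component_noetherian ⟨V, hV⟩

theorem finite_sections' {M : X.Modules} (hM : Coh.IsCoh M) {V : X.Opens} (hV : IsAffineOpen V) :
    Module.Finite Γ(X, V) Γ(M, V) :=
  ((H10Coh.isCoh_iff_finite_sections M).1 hM).2 V hV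

/-- The sections of a coherent formal module over an affine open, as an adic system. -/
noncomputable def secSys (hI : I.FG) {G : ℕᵒᵖ ⥤ X.Modules} (hG : Formal.IsCohFormal I G) {V : X.Opens}
    (hV : IsAffineOpen V) :
    H24Adic.AdicSystem (secIdeal I V) (fun n => Γ(G.obj (op n), V)) Γ(limit G, V) where
  f n := appL (G.map (homOfLE (Nat.le_succ n)).op) V
  hf n := (sectionSystem hI ⟨fun n => (hG.1 n).1, hG.2.1, hG.2.2⟩ hV).hf n
  hker n := by
    refine le_antisymm (fun s hs => ?_) ?_
    · obtain ⟨hz, hiso⟩ := hG.2.2 n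
      haveI := (hG.1 n).1
      haveI := (hG.1 (n + 1)).1
      rw [← secIdeal_pow]
      exact mem_secIdeal_smul (mem_smul_of_app_eq_zero (hI.pow (n := n + 1)) _ hz hiso hV s hs)
    · refine Submodule.smul_le.mpr fun r hr x _ => ?_
      rw [LinearMap.mem_ker, map_smul]
      rw [← secIdeal_pow] at hr
      exact smul_eq_zero_of_killedBy (hG.2.1 n) V hr _
  π n := appL (limit.π G (op n)) V
  hπ n := LinearMap.ext fun x =>
    congr($(congrArg (fun k => Scheme.Modules.Hom.app k V) (limit.w G (homOfLE (Nat.le_succ n)).op)) x)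
  hinj x hx := limit_section_ext G V x 0 fun n => (hx n).trans (map_zero _).symm
  hlift y hy := exists_limit_section G V y hy

theorem secSys_π (hI : I.FG) {G : ℕᵒᵖ ⥤ X.Modules} (hG : Formal.IsCohFormal I G) {V : X.Opens}
    (hV : IsAffineOpen V) (n : ℕ) (x : Γ(limit G, V)) :
    (secSys hI hG hV).π n x = (limit.π G (op n)).app V x := rfl

theorem limMap_π_app {F G : ℕᵒᵖ ⥤ X.Modules} (α : F ⟶ G) (n : ℕ) (V : X.Opens) (x : Γ(limit F, V)) :
    (limit.π G (op n)).app V ((limMap α).app V x) = (α.app (op n)).app V ((limit.π F (op n)).app V x) :=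
  congr($(congrArg (fun k => Scheme.Modules.Hom.app k V) (limMap_π α (op n))) x)

/-- An exact sequence of quasi-coherent modules is exact on sections over affine opens. -/
theorem exists_app_eq {S : ShortComplex X.Modules} (hS : S.Exact) (h₁ : Coh.IsQCoh S.X₁) (h₂ : Coh.IsQCoh S.X₂)
    {V : X.Opens} (hV : IsAffineOpen V) (y : Γ(S.X₂, V)) (hy : S.g.app V y = 0) : ∃ x, S.f.app V x = y := by
  haveI : S.X₁.IsQuasicoherent := h₁
  haveI : S.X₂.IsQuasicoherent := h₂
  haveI := H10Coh.isQuasicoherent_cokernel S.f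
  haveI := H10Coh.isQuasicoherent_kernel (cokernel.π S.f)
  haveI : Mono (cokernel.desc S.f S.g S.zero) := (ShortComplex.exact_iff_mono_cokernel_desc S).1 hS
  have h0 : (cokernel.π S.f).app V y = 0 := by
    refine H10Coh.injective_app_of_mono' (cokernel.desc S.f S.g S.zero) V ?_
    rw [map_zero, ← hy]
    exact congr($(congrArg (fun k => Scheme.Modules.Hom.app k V) (cokernel.π_desc S.f S.g S.zero)) y)
  obtain ⟨z, hz⟩ := exists_kernel_section (cokernel.π S.f) V y h0
  have hex : (ShortComplex.mk S.f (cokernel.π S.f) (cokernel.condition _)).Exact := ShortComplex.exact_cokernel _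
  haveI : Epi (kernel.lift (cokernel.π S.f) S.f (cokernel.condition _)) :=
    (ShortComplex.exact_iff_epi_kernel_lift _).1 hex
  obtain ⟨x, hx⟩ := H10Coh.surjective_app_of_epi (kernel.lift (cokernel.π S.f) S.f (cokernel.condition _)) hV z
  refine ⟨x, ?_⟩
  rw [← hz, ← hx]
  exact (congr($(congrArg (fun k => Scheme.Modules.Hom.app k V)
    (kernel.lift_ι (cokernel.π S.f) S.f (cokernel.condition _))) x)).symm

theorem exists_affine_le {W : X.Opens} {x : X} (hx : x ∈ W) :
    ∃ (V : X.Opens) (_ : IsAffineOpen V), V ≤ W ∧ x ∈ V := by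
  obtain ⟨V, hV, hxV, hle⟩ := exists_isAffineOpen_mem_and_subset (U := W) hx
  exact ⟨V, hV, hle, hxV⟩

/-- Levelwise exact sequences of coherent formal modules have exact limits. -/
theorem exact_lim (hI : I.FG) {F G Q : ℕᵒᵖ ⥤ X.Modules} (hF : Formal.IsCohFormal I F) (hG : Formal.IsCohFormal I G)
    (α : F ⟶ G) (γ : G ⟶ Q) (w : limMap α ≫ limMap γ = 0) (w' : ∀ n, α.app (op n) ≫ γ.app (op n) = 0)
    (h : ∀ n, (ShortComplex.mk _ _ (w' n)).Exact) : (ShortComplex.mk _ _ w).Exact := by
  refine H11Tilde.exact_of_locally _ fun W t ht x hx => ?_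
  obtain ⟨V, hV, hle, hxV⟩ := exists_affine_le hx
  refine ⟨V, hle, hxV, ?_⟩
  haveI := isNoetherianRing_sections hV
  haveI := finite_sections' (hG.1 0) hV
  let y : Γ(limit G, V) := (limit G).presheaf.map (homOfLE hle).op t
  have hy : (limMap γ).app V y = 0 :=
    (H11Tilde.app_map_apply (limMap γ) hle t).trans ((congrArg _ ht).trans (map_zero _))
  refine exists_preimage (secSys hI hF hV) (secSys hI hG hV) (appL (limMap α) V) y fun n => ?_
  obtain ⟨z, hz⟩ := exists_app_eq (h n) (hF.1 n).1 (hG.1 n).1 hV ((limit.π G (op n)).app V y) (by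
    show (γ.app (op n)).app V _ = 0
    rw [← limMap_π_app, hy, map_zero])
  obtain ⟨x, rfl⟩ := (secSys hI hF hV).π_surjective n z
  exact ⟨x, (limMap_π_app α n V x).trans hz⟩

theorem limMap_comp' {J C : Type*} [Category J] [Category C] [HasLimitsOfShape J C] {F G H : J ⥤ C} (α : F ⟶ G)
    (β : G ⟶ H) : limMap (α ≫ β) = limMap α ≫ limMap β :=
  limit.hom_ext fun j => by simp

theorem limMap_zero' {F G : ℕᵒᵖ ⥤ X.Modules} : limMap (0 : F ⟶ G) = 0 :=
  limit.hom_ext fun j => by simp

/-- Levelwise epimorphisms of coherent formal modules have epimorphic limits. -/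
theorem epi_lim (hI : I.FG) {F G : ℕᵒᵖ ⥤ X.Modules} (hF : Formal.IsCohFormal I F) (hG : Formal.IsCohFormal I G)
    (α : F ⟶ G) (h : ∀ n, Epi (α.app (op n))) : Epi (limMap α) := by
  have e := exact_lim hI hF hG α (0 : G ⟶ G) (by rw [limMap_zero', comp_zero])
    (fun n => comp_zero) fun n => by
      refine (ShortComplex.exact_iff_epi _ rfl).2 ?_
      exact h n
  exact (ShortComplex.exact_iff_epi _ limMap_zero').1 e

/-- A map of limits comes from a unique map of formal modules. -/
theorem existsUnique_of_limit (hI : I.FG) {F G : ℕᵒᵖ ⥤ X.Modules} (hF : Formal.IsCohFormal I F)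
    (hG : Formal.IsCohFormal I G) (f : limit F ⟶ limit G) : ∃! α : F ⟶ G, limMap α = f := by
  have hFq : Formal2.IsQCohFormal I F := ⟨fun n => (hF.1 n).1, hF.2.1, hF.2.2⟩
  have hex : ∀ n : ℕ, ∃ g : F.obj (op n) ⟶ G.obj (op n), limit.π F (op n) ≫ g = f ≫ limit.π G (op n) := by
    intro n
    obtain ⟨hz, hiso⟩ := exists_isIso_limit_truncation hI hFq n
    haveI := hiso
    refine ⟨inv (cokernel.desc _ _ hz) ≫ cokernel.desc _ (f ≫ limit.π G (op n))
      (smulFamily_comp_eq_zero _ (hG.2.1 n)), ?_⟩
    conv_lhs => arg 1; rw [← cokernel.π_desc _ _ hz]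
    rw [Category.assoc, IsIso.hom_inv_id_assoc, cokernel.π_desc]
  choose g hg using hex
  haveI : ∀ n : ℕ, Epi (limit.π F (op n)) := fun n => epi_limit_π F (fun n => (hF.1 n).1) (epi_map_succ hFq) n
  refine ⟨{ app := fun j => g j.unop, naturality := fun i j φ => ?_ }, limit.hom_ext fun j => ?_, fun β hβ => ?_⟩
  · haveI : Epi (limit.π F i) := ‹∀ n : ℕ, Epi (limit.π F (op n))› i.unop
    rw [← cancel_epi (limit.π F i), ← Category.assoc, limit.w, ← Category.assoc,
      show limit.π F i ≫ g i.unop = f ≫ limit.π G i from hg i.unop, Category.assoc, limit.w]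
    exact hg j.unop
  · rw [limMap_π]
    exact hg j.unop
  · ext j : 2
    haveI : Epi (limit.π F j) := ‹∀ n : ℕ, Epi (limit.π F (op n))› j.unop
    rw [← cancel_epi (limit.π F j), ← limMap_π β j, hβ]
    exact (hg j.unop).symm

/-- Formal modules with isomorphic limits are isomorphic. -/
theorem exists_iso_of_limit (hI : I.FG) {F G : ℕᵒᵖ ⥤ X.Modules} (hF : Formal.IsCohFormal I F)
    (hG : Formal.IsCohFormal I G) (f : limit F ≅ limit G) : ∃ e : F ≅ G, limMap e.hom = f.hom := by
  obtain ⟨a, ha, -⟩ := existsUnique_of_limit hI hF hG f.hom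
  obtain ⟨b, hb, -⟩ := existsUnique_of_limit hI hG hF f.inv
  have key : ∀ {P : ℕᵒᵖ ⥤ X.Modules}, Formal.IsCohFormal I P → ∀ c : P ⟶ P, limMap c = 𝟙 _ → c = 𝟙 _ :=
    fun hP c hc => (existsUnique_of_limit hI hP hP _).unique hc (limit.hom_ext fun j => by simp)
  refine ⟨⟨a, b, key hF _ ?_, key hG _ ?_⟩, ha⟩
  · rw [limMap_comp', ha, hb, f.hom_inv_id]
  · rw [limMap_comp', ha, hb, f.inv_hom_id]

section completion

variable (I)

/-- The map of truncations. -/
noncomputable def modPowMap (n : ℕ) {M N : X.Modules} (u : M ⟶ N) : Formal.modPow I n M ⟶ Formal.modPow I n N :=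
  cokernel.desc _ (u ≫ Formal.modPowπ I n N) (smulFamily_comp_eq_zero _ (killedBy_modPow I n N))

theorem π_modPowMap (n : ℕ) {M N : X.Modules} (u : M ⟶ N) :
    Formal.modPowπ I n M ≫ modPowMap I n u = u ≫ Formal.modPowπ I n N :=
  cokernel.π_desc _ _ _

theorem modPowMap_trans (n : ℕ) {M N : X.Modules} (u : M ⟶ N) :
    Formal.modPowTrans I n M ≫ modPowMap I n u = modPowMap I (n + 1) u ≫ Formal.modPowTrans I n N :=
  (cancel_epi (Formal.modPowπ I (n + 1) M)).1 (by
    rw [← Category.assoc, Formal.modPowπ_trans, π_modPowMap, ← Category.assoc, π_modPowMap, Category.assoc,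
      Formal.modPowπ_trans])

/-- The map of completions. -/
noncomputable def complMap {M N : X.Modules} (u : M ⟶ N) : Formal.completion I M ⟶ Formal.completion I N :=
  NatTrans.ofOpSequence (fun n => modPowMap I (n + 1) u) fun n => by
    rw [completion_map_succ, completion_map_succ]
    exact modPowMap_trans I (n + 1) u

theorem π_complMap {M N : X.Modules} (u : M ⟶ N) (n : ℕ) :
    Formal.modPowπ I (n + 1) M ≫ (complMap I u).app (op n) = u ≫ Formal.modPowπ I (n + 1) N :=
  cokernel.π_desc _ _ _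

theorem complMap_ext {M N : X.Modules} {a b : Formal.completion I M ⟶ Formal.completion I N}
    (h : ∀ n, Formal.modPowπ I (n + 1) M ≫ a.app (op n) = Formal.modPowπ I (n + 1) M ≫ b.app (op n)) : a = b := by
  ext j : 2
  exact (cancel_epi (Formal.modPowπ I (j.unop + 1) M)).1 (h j.unop)

theorem complMap_comp {M N P : X.Modules} (u : M ⟶ N) (v : N ⟶ P) :
    complMap I (u ≫ v) = complMap I u ≫ complMap I v := complMap_ext I fun n => by
  show Formal.modPowπ I (n + 1) M ≫ modPowMap I (n + 1) (u ≫ v) =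
    Formal.modPowπ I (n + 1) M ≫ modPowMap I (n + 1) u ≫ modPowMap I (n + 1) v
  rw [π_modPowMap, ← Category.assoc, π_modPowMap, Category.assoc, Category.assoc, π_modPowMap]

theorem complMap_id (M : X.Modules) : complMap I (𝟙 M) = 𝟙 _ := complMap_ext I fun n => by
  rw [π_complMap, Category.id_comp]
  exact (Category.comp_id _).symm

theorem complMap_zero (M N : X.Modules) : complMap I (0 : M ⟶ N) = 0 := complMap_ext I fun n => by
  rw [π_complMap, zero_comp]
  exact comp_zero.symm

theorem complMap_add {M N : X.Modules} (u v : M ⟶ N) : complMap I (u + v) = complMap I u + complMap I v :=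
  complMap_ext I fun n => by
    show Formal.modPowπ I (n + 1) M ≫ modPowMap I (n + 1) (u + v) =
      Formal.modPowπ I (n + 1) M ≫ (modPowMap I (n + 1) u + modPowMap I (n + 1) v)
    rw [π_modPowMap, Preadditive.comp_add, π_modPowMap, π_modPowMap, Preadditive.add_comp]

/-- The cone of truncations. -/
noncomputable def complCone (M : X.Modules) : Cone (Formal.completion I M) where
  pt := M
  π := NatTrans.ofOpSequence (F := (Functor.const ℕᵒᵖ).obj M) (fun n => Formal.modPowπ I (n + 1) M) fun n => by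
    rw [completion_map_succ]
    exact (Category.id_comp _).trans (Formal.modPowπ_trans I (n + 1) M).symm

/-- The canonical map to the limit of the completion. -/
noncomputable def toLim (M : X.Modules) : M ⟶ limit (Formal.completion I M) :=
  limit.lift _ (complCone I M)

theorem toLim_π (M : X.Modules) (n : ℕ) : toLim I M ≫ limit.π _ (op n) = Formal.modPowπ I (n + 1) M :=
  limit.lift_π (complCone I M) (op n)

theorem modPowπ_map (M : X.Modules) {n m : ℕ} (l : n ≤ m) :
    Formal.modPowπ I (m + 1) M ≫ (Formal.completion I M).map (homOfLE l).op = Formal.modPowπ I (n + 1) M :=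
  ((complCone I M).π.naturality (homOfLE l).op).symm.trans (Category.id_comp _)

theorem toLim_naturality {M N : X.Modules} (u : M ⟶ N) : toLim I M ≫ limMap (complMap I u) = u ≫ toLim I N :=
  limit.hom_ext fun j => by
    rw [Category.assoc, Category.assoc, limMap_π, ← Category.assoc, toLim_π I M j.unop, toLim_π I N j.unop]
    exact π_complMap I u j.unop

end completion

theorem isCohFormal_compl {M : X.Modules} (hM : Coh.IsCoh M) : Formal.IsCohFormal I (Formal.completion I M) :=
  isCohFormal_completion I hM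

/-- Sections of a truncation lift, with kernel the multiples. -/
theorem modPowπ_eq_iff (hI : I.FG) {M : X.Modules} (hM : Coh.IsCoh M) {V : X.Opens} (hV : IsAffineOpen V) (n : ℕ)
    (a b : Γ(M, V)) : (Formal.modPowπ I n M).app V a = (Formal.modPowπ I n M).app V b ↔
      a - b ∈ secIdeal I V ^ n • (⊤ : Submodule Γ(X, V) Γ(M, V)) := by
  rw [← ker_modPowπ I hI n hM hV, LinearMap.mem_ker, map_sub, sub_eq_zero]
  rfl

/-- Artin-Rees for a linear map. -/
theorem exists_pow_range {R M N : Type*} [CommRing R] [IsNoetherianRing R] [AddCommGroup M] [Module R M]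
    [AddCommGroup N] [Module R N] [Module.Finite R N] (J : Ideal R) (f : M →ₗ[R] N) :
    ∃ c : ℕ, ∀ (k : ℕ) (x : M), f x ∈ J ^ (k + c) • (⊤ : Submodule R N) →
      ∃ z ∈ J ^ k • (⊤ : Submodule R M), f z = f x := by
  obtain ⟨c, hc⟩ := J.exists_pow_inf_eq_pow_smul (LinearMap.range f)
  refine ⟨c, fun k x hx => ?_⟩
  have h : f x ∈ J ^ (k + c) • ⊤ ⊓ LinearMap.range f := ⟨hx, ⟨x, rfl⟩⟩
  rw [hc (k + c) (Nat.le_add_left c k), Nat.add_sub_cancel] at h
  have h2 : f x ∈ (J ^ k • (⊤ : Submodule R M)).map f := by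
    rw [Submodule.map_smul'', Submodule.map_top]
    exact Submodule.smul_mono le_rfl inf_le_right h
  exact Submodule.mem_map.1 h2

/-- Completion of a monomorphism of coherent modules is a monomorphism. -/
theorem mono_lim_complMap (hI : I.FG) {M' M : X.Modules} (hM' : Coh.IsCoh M') (hM : Coh.IsCoh M) (i : M' ⟶ M)
    [Mono i] : Mono (limMap (complMap I i)) := by
  have h := isCohFormal_compl (I := I) hM'
  refine Abelian.mono_of_kernel_ι_eq_zero _ ?_
  refine Scheme.Modules.hom_ext _ _ fun W => ?_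
  ext s
  refine H11Tilde.eq_of_locally _ _ fun x hx => ?_
  obtain ⟨V, hV, hle, hxV⟩ := exists_affine_le hx
  refine ⟨V, hle, hxV, ?_⟩
  haveI := isNoetherianRing_sections hV
  haveI := finite_sections' hM hV
  let k := kernel.ι (limMap (complMap I i))
  rw [show ((0 : kernel (limMap (complMap I i)) ⟶ _).app W s) = 0 from rfl, map_zero,
    ← H11Tilde.app_map_apply k hle s]
  let y := k.app V ((kernel (limMap (complMap I i))).presheaf.map (homOfLE hle).op s)
  have hy : (limMap (complMap I i)).app V y = 0 :=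
    congr($(congrArg (fun l => Scheme.Modules.Hom.app l V) (kernel.condition (limMap (complMap I i)))) _)
  obtain ⟨c, hc⟩ := exists_pow_range (secIdeal I V) (appL i V)
  refine (secSys hI h hV).hinj y fun n => ?_
  obtain ⟨m, hm⟩ := surjective_modPowπ I (n + c + 1) hM' hV ((limit.π (Formal.completion I M') (op (n + c))).app V y)
  have hm0 : (Formal.modPowπ I (n + c + 1) M).app V (i.app V m) = 0 := by
    have e := congr($(congrArg (fun l => Scheme.Modules.Hom.app l V) (π_complMap I i (n + c))) m)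
    refine e.symm.trans ?_
    show ((complMap I i).app (op (n + c))).app V ((Formal.modPowπ I (n + c + 1) M').app V m) = 0
    rw [show (Formal.modPowπ I (n + c + 1) M').app V m = _ from hm, ← limMap_π_app, hy, map_zero]
  rw [← map_zero (ConcreteCategory.hom ((Formal.modPowπ I (n + c + 1) M).app V)), modPowπ_eq_iff hI hM hV, sub_zero,
    show n + c + 1 = n + 1 + c by omega] at hm0
  obtain ⟨z, hz, hzm⟩ := hc (n + 1) m hm0
  have hmz : m = z := (H10Coh.injective_app_of_mono' i V hzm).symm
  rw [secSys_π, ← limit.w _ (homOfLE (Nat.le_add_right n c)).op]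
  show ((Formal.completion I M').map _).app V ((limit.π (Formal.completion I M') (op (n + c))).app V y) = 0
  rw [← show (Formal.modPowπ I (n + c + 1) M').app V m = _ from hm]
  have e2 : Formal.modPowπ I (n + c + 1) M' ≫ (Formal.completion I M').map (homOfLE (Nat.le_add_right n c)).op =
      Formal.modPowπ I (n + 1) M' := modPowπ_map I M' (Nat.le_add_right n c)
  refine (congr($(congrArg (fun l => Scheme.Modules.Hom.app l V) e2) m)).trans ?_
  refine ((modPowπ_eq_iff hI hM' hV (n + 1) m 0).2 ?_).trans (map_zero _)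
  rw [sub_zero, hmz]
  exact hz

/-- Completion is left exact on coherent modules. -/
theorem exact_lim_complMap (hI : I.FG) {S : ShortComplex X.Modules} (hS : S.Exact) [Mono S.f] (h₁ : Coh.IsCoh S.X₁)
    (h₂ : Coh.IsCoh S.X₂) (h₃ : Coh.IsCoh S.X₃) (w : limMap (complMap I S.f) ≫ limMap (complMap I S.g) = 0) :
    (ShortComplex.mk _ _ w).Exact := by
  refine H11Tilde.exact_of_locally _ fun W t ht x hx => ?_
  obtain ⟨V, hV, hle, hxV⟩ := exists_affine_le hx
  refine ⟨V, hle, hxV, ?_⟩
  haveI := isNoetherianRing_sections hV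
  haveI := finite_sections' h₂ hV
  haveI := finite_sections' h₃ hV
  let J := secIdeal I V
  let y : Γ(limit (Formal.completion I S.X₂), V) := (limit (Formal.completion I S.X₂)).presheaf.map (homOfLE hle).op t
  have hy : (limMap (complMap I S.g)).app V y = 0 :=
    (H11Tilde.app_map_apply (limMap (complMap I S.g)) hle t).trans ((congrArg _ ht).trans (map_zero _))
  -- the levels of `y`
  choose hn hhn using fun n => surjective_modPowπ I (n + 1) h₂ hV ((limit.π (Formal.completion I S.X₂) (op n)).app V y)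
  have hstep : ∀ {n m : ℕ} (l : n ≤ m), hn m - hn n ∈ J ^ (n + 1) • (⊤ : Submodule Γ(X, V) Γ(S.X₂, V)) := by
    intro n m l
    rw [← modPowπ_eq_iff hI h₂ hV]
    refine Eq.trans ?_ (hhn n).symm
    rw [← toLim_π, show limit.π (Formal.completion I S.X₂) (op n) =
      limit.π _ (op m) ≫ (Formal.completion I S.X₂).map (homOfLE l).op from (limit.w _ _).symm, ← Category.assoc,
      toLim_π]
    exact congrArg (((Formal.completion I S.X₂).map (homOfLE l).op).app V) (hhn m)
  have hu : ∀ n, S.g.app V (hn n) ∈ J ^ (n + 1) • (⊤ : Submodule Γ(X, V) Γ(S.X₃, V)) := fun n => by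
    rw [← sub_zero (S.g.app V (hn n)), ← modPowπ_eq_iff hI h₃ hV, map_zero]
    refine (congr($(congrArg (fun l => Scheme.Modules.Hom.app l V) (π_complMap I S.g n)) (hn n))).symm.trans ?_
    refine (congrArg (((complMap I S.g).app (op n)).app V) (hhn n)).trans ?_
    rw [← limMap_π_app, hy, map_zero]
    rfl
  obtain ⟨c, hc⟩ := exists_pow_range J (appL S.g V)
  have hex : ∀ n, ∃ m : Γ(S.X₁, V), S.f.app V m - hn (n + c) ∈ J ^ (n + 1) • (⊤ : Submodule Γ(X, V) Γ(S.X₂, V)) := by
    intro n
    obtain ⟨z, hz, hzx⟩ := hc (n + 1) (hn (n + c)) (by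
      rw [show n + 1 + c = n + c + 1 by omega]; exact hu (n + c))
    obtain ⟨m, hm⟩ := exists_app_eq hS h₁.1 h₂.1 hV (hn (n + c) - z) (by
      show appL S.g V _ = 0
      rw [map_sub, hzx, sub_self])
    exact ⟨m, by rw [hm, sub_sub_cancel_left]; exact neg_mem hz⟩
  choose m hm using hex
  have hfm : ∀ n, S.f.app V (m n) - hn n ∈ J ^ (n + 1) • (⊤ : Submodule Γ(X, V) Γ(S.X₂, V)) := fun n => by
    rw [← sub_add_sub_cancel _ (hn (n + c)) _]
    exact add_mem (hm n) (hstep (Nat.le_add_right n c))
  obtain ⟨d, hd⟩ := exists_pow_range J (appL S.f V)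
  have hmm : ∀ n, m (n + 1 + d) - m (n + d) ∈ J ^ (n + 1) • (⊤ : Submodule Γ(X, V) Γ(S.X₁, V)) := fun n => by
    have h1 : appL S.f V (m (n + 1 + d) - m (n + d)) ∈ J ^ (n + 1 + d) • (⊤ : Submodule Γ(X, V) Γ(S.X₂, V)) := by
      rw [map_sub, appL_apply, appL_apply,
        ← sub_sub_sub_cancel_right (S.f.app V (m (n + 1 + d))) (S.f.app V (m (n + d))) (hn (n + d))]
      refine sub_mem ?_ (Submodule.smul_mono (Ideal.pow_le_pow_right (by omega)) le_rfl (hfm (n + d)))
      rw [← sub_add_sub_cancel _ (hn (n + 1 + d)) _]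
      exact add_mem (Submodule.smul_mono (Ideal.pow_le_pow_right (by omega)) le_rfl (hfm (n + 1 + d)))
        (Submodule.smul_mono (Ideal.pow_le_pow_right (by omega)) le_rfl (hstep (by omega : n + d ≤ n + 1 + d)))
    obtain ⟨z, hz, hzx⟩ := hd (n + 1) _ h1
    rwa [← H10Coh.injective_app_of_mono' S.f V hzx]
  obtain ⟨x', hx'⟩ := exists_limit_section (Formal.completion I S.X₁) V
    (fun n => (Formal.modPowπ I (n + 1) S.X₁).app V (m (n + d))) fun n => by
      rw [completion_map_succ]
      refine (congr($(congrArg (fun l => Scheme.Modules.Hom.app l V) (Formal.modPowπ_trans I (n + 1) S.X₁))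
        (m (n + 1 + d)))).trans ((modPowπ_eq_iff hI h₁ hV _ _ _).2 (hmm n))
  refine ⟨x', ext_π (secSys hI
    (isCohFormal_compl h₂) hV) fun n => ?_⟩
  show (limit.π (Formal.completion I S.X₂) (op n)).app V ((limMap (complMap I S.f)).app V x') = (limit.π (Formal.completion I S.X₂) (op n)).app V y
  rw [limMap_π_app, hx' n, ← hhn n]
  refine (congr($(congrArg (fun l => Scheme.Modules.Hom.app l V) (π_complMap I S.f n)) (m (n + d)))).trans
    ((modPowπ_eq_iff hI h₂ hV _ _ _).2 ?_)
  have h := add_mem (Submodule.smul_mono (Ideal.pow_le_pow_right (show n + 1 ≤ n + d + 1 by omega)) le_rfl (hfm (n + d)))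
    (hstep (Nat.le_add_right n d))
  rw [sub_add_sub_cancel] at h
  exact h

end Groth.Agent.H24GE
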