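import Groth.Agent.H24GE.Right

/-!
# Change of the defining ideal
-/

set_option autoImplicit false
set_option linter.style.haveILetI false
set_option linter.unusedSectionVars false
universe u

open CategoryTheory CategoryTheory.Limits AlgebraicGeometry Opposite

namespace Groth.Agent.H24GE

open Groth.Agent.H24Formal Groth.Agent.H24Formal.HomC

variable {A : Type u} [CommRing A] {X : Scheme.{u}} [X.Over (Spec (CommRingCat.of A))] [IsNoetherian X] {I I₀ : Ideal A}

theorem complMap_complCongr (h : SameKill (X := X) I I₀) {M N : X.Modules} (u : M ⟶ N) :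
    complMap I u ≫ (complCongr h N).hom = (complCongr h M).hom ≫ complMap I₀ u :=
  complMap_ext' fun n => by
    refine ((Category.assoc _ _ _).symm.trans (congrArg (· ≫ (complCongr h N).hom.app (op n)) (π_complMap I u n))).trans ?_
    refine ((Category.assoc _ _ _).trans (congrArg (u ≫ ·) (π_complCongr_hom h N n))).trans ?_
    refine (π_complMap I₀ u n).symm.trans ?_
    exact ((congrArg (· ≫ (complMap I₀ u).app (op n)) (π_complCongr_hom h M n)).symm).trans (Category.assoc _ _ _)
where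
  complMap_ext' {M : X.Modules} {G : ℕᵒᵖ ⥤ X.Modules} {a b : Formal.completion I M ⟶ G}
      (h : ∀ n, Formal.modPowπ I (n + 1) M ≫ a.app (op n) = Formal.modPowπ I (n + 1) M ≫ b.app (op n)) : a = b := by
    ext j : 2
    exact (cancel_epi (Formal.modPowπ I (j.unop + 1) M)).1 (h j.unop)

theorem killedByIdeal_congr (h : SameKill (X := X) I I₀) (e : ℕ) {M : X.Modules} (hM : Formal.KilledBy (I ^ e) M) :
    ClSub.KilledByIdeal (idealOf X I₀ ^ e) M :=
  (killedByIdeal_iff I₀ e M).2 ((h e M).1 hM)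

theorem killedBy_of_killedByIdeal_congr (h : SameKill (X := X) I I₀) (e : ℕ) {M : X.Modules}
    (hM : ClSub.KilledByIdeal (idealOf X I₀ ^ e) M) : Formal.KilledBy (I ^ e) M :=
  (h e M).2 ((killedByIdeal_iff I₀ e M).1 hM)

theorem algKilled_congr (h : SameKill (X := X) I I₀) {K : X.IdealSheafData} (hK : AlgKilled I K) :
    AlgKilled I₀ K := by
  refine ⟨fun M N hM hN hkM hkN ψ => ?_, fun G hG hk => ?_⟩
  · obtain ⟨φ, hφ, huniq⟩ := hK.1 M N hM hN hkM hkN ((complCongr h M).hom ≫ ψ ≫ (complCongr h N).inv)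
    have key : ∀ φ' : M ⟶ N,
        (complCongr h M).hom ≫ ψ ≫ (complCongr h N).inv = complMap I φ' ↔ ψ = complMap I₀ φ' := fun φ' => by
      rw [← Category.assoc, Iso.comp_inv_eq, complMap_complCongr, cancel_epi]
    refine ⟨φ, fun n => ?_, fun φ' hφ' => huniq φ' fun n => ?_⟩
    · rw [(key φ).1 (eq_complMap hφ)]
      exact π_complMap I₀ φ n
    · rw [(key φ').2 (eq_complMap hφ')]
      exact π_complMap I φ' n
  · obtain ⟨M, hM, hkM, ⟨i⟩⟩ := hK.2 G (isCohFormal_congr' h hG) hk
    exact ⟨M, hM, hkM, ⟨(complCongr h M).symm ≪≫ i⟩⟩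

theorem killedBy_kernel_comp {J : Ideal A} {M N N' : X.Modules} (f : M ⟶ N) (g : N ⟶ N') (hg : Mono g)
    (hk : Formal.KilledBy J (kernel f)) : Formal.KilledBy J (kernel (f ≫ g)) :=
  killedBy_of_iso (kernelCompMono f g).symm hk

theorem killedBy_cokernel_comp {J : Ideal A} {M N N' : X.Modules} (f : M ⟶ N) (g : N ⟶ N') (hg : IsIso g)
    (hk : Formal.KilledBy J (cokernel f)) : Formal.KilledBy J (cokernel (f ≫ g)) :=
  killedBy_of_iso (cokernelCompIsIso f g).symm hk

theorem killedByIdeal_kernel_comp {J : X.IdealSheafData} {M N N' : X.Modules} (f : M ⟶ N) (g : N ⟶ N') (hg : Mono g)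
    (hk : ClSub.KilledByIdeal J (kernel f)) : ClSub.KilledByIdeal J (kernel (f ≫ g)) :=
  killedByIdeal_of_iso (kernelCompMono f g) hk

theorem killedByIdeal_cokernel_comp {J : X.IdealSheafData} {M N N' : X.Modules} (f : M ⟶ N) (g : N ⟶ N') (hg : IsIso g)
    (hk : ClSub.KilledByIdeal J (cokernel f)) : ClSub.KilledByIdeal J (cokernel (f ≫ g)) :=
  killedByIdeal_of_iso (cokernelCompIsIso f g) hk

/-- Left algebraization for an arbitrary ideal of the base ring. -/
theorem left' {H : X.Modules} (hH : Coh.IsCoh H) {F : ℕᵒᵖ ⥤ X.Modules} (hF : Formal.IsCohFormal I F)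
    (α : F ⟶ Formal.completion I H) (K : X.IdealSheafData) (hK : ∀ e, AlgKilled I (K ^ e))
    (hα : Formal2.KerCokerKilledByPow K α) :
    ∃ (F' : X.Modules) (a : F' ⟶ H) (β : F ≅ Formal.completion I F'), Coh.IsCoh F' ∧
      Formal2.KerCokerKilledByPowHom K a ∧ β.hom ≫ complMap I a = α := by
  obtain ⟨I₀, hfg, h⟩ := exists_sameKill (X := X) I
  obtain ⟨t, ht⟩ := hα
  have hiso : ∀ n, IsIso ((complCongr h H).hom.app (op n)) := fun n => inferInstance
  obtain ⟨F', a, β, hF', ha, hβ⟩ := left hfg K (fun e => algKilled_congr h (hK e)) hH (isCohFormal_congr h hF)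
    (α ≫ (complCongr h H).hom) ⟨t, fun n =>
      ⟨killedByIdeal_kernel_comp (α.app (op n)) _ (@IsIso.mono_of_iso _ _ _ _ _ (hiso n)) (ht n).1,
        killedByIdeal_cokernel_comp (α.app (op n)) _ (hiso n) (ht n).2⟩⟩
  refine ⟨F', a, β ≪≫ (complCongr h F').symm, hF', ha, ?_⟩
  rw [← cancel_mono (complCongr h H).hom, ← hβ, Category.assoc, complMap_complCongr, Iso.trans_hom, Iso.symm_hom,
    Category.assoc, Iso.inv_hom_id_assoc]

end Groth.Agent.H24GE
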