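import Groth.Agent.H24GE.PushFF
import Groth.Agent.H24GE.Congr

/-!
# The map to the completion of a direct image
-/

set_option autoImplicit false
set_option linter.style.haveILetI false
set_option linter.unusedSectionVars false
universe u

open CategoryTheory CategoryTheory.Limits AlgebraicGeometry Opposite

namespace Groth.Agent.H24GE

open Groth.Agent.H24Formal Groth.Agent.H24Formal.HomC

theorem comp_app_eq {Z : Scheme.{u}} {M N P : Z.Modules} {a : M ⟶ N} {b : N ⟶ P} {c : M ⟶ P} (e : a ≫ b = c)
    (O : Z.Opens) (x : Γ(M, O)) : b.app O (a.app O x) = c.app O x := by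
  subst e; rfl

variable {A : Type u} [CommRing A] {X Y : Scheme.{u}} [X.Over (Spec (CommRingCat.of A))]
  [Y.Over (Spec (CommRingCat.of A))] (f : X ⟶ Y)
  (hf : f ≫ (Y ↘ Spec (CommRingCat.of A)) = X ↘ Spec (CommRingCat.of A)) (J : Ideal A) (F : X.Modules)

include hf in
theorem killedBy_push {n : ℕ} {N : X.Modules} (hN : Formal.KilledBy (J ^ n) N) :
    Formal.KilledBy (J ^ n) ((Scheme.Modules.pushforward f).obj N) := fun a ha => by
  rw [← pushforward_map_smulMod f hf, hN a ha]
  exact Scheme.Modules.hom_ext _ _ fun U => rfl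

/-- The direct images of the truncations. -/
noncomputable abbrev pushSys : ℕᵒᵖ ⥤ Y.Modules := Formal.completion J F ⋙ Scheme.Modules.pushforward f

include hf in
theorem smulFamily_push_zero (n : ℕ) :
    Formal.smulFamily (J ^ (n + 1)) ((Scheme.Modules.pushforward f).obj F) ≫
      (Scheme.Modules.pushforward f).map (Formal.modPowπ J (n + 1) F) = 0 :=
  smulFamily_comp_eq_zero _ (killedBy_push f hf J (killedBy_modPow J (n + 1) F))

/-- The comparison map for one level. -/
noncomputable def pushCmpApp (n : ℕ) : Formal.modPow J (n + 1) ((Scheme.Modules.pushforward f).obj F) ⟶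
    (Scheme.Modules.pushforward f).obj (Formal.modPow J (n + 1) F) :=
  cokernel.desc _ _ (smulFamily_push_zero f hf J F n)

theorem π_pushCmpApp (n : ℕ) :
    Formal.modPowπ J (n + 1) ((Scheme.Modules.pushforward f).obj F) ≫ pushCmpApp f hf J F n =
      (Scheme.Modules.pushforward f).map (Formal.modPowπ J (n + 1) F) :=
  cokernel.π_desc _ _ _

theorem pushCmpApp_trans (n : ℕ) :
    Formal.modPowTrans J (n + 1) ((Scheme.Modules.pushforward f).obj F) ≫ pushCmpApp f hf J F n =
      pushCmpApp f hf J F (n + 1) ≫ (Scheme.Modules.pushforward f).map (Formal.modPowTrans J (n + 1) F) := by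
  refine (cancel_epi (Formal.modPowπ J (n + 1 + 1) ((Scheme.Modules.pushforward f).obj F))).1 ?_
  rw [← Category.assoc, Formal.modPowπ_trans, π_pushCmpApp, ← Category.assoc, π_pushCmpApp, ← Functor.map_comp,
    Formal.modPowπ_trans]

/-- The comparison map from the completion of the direct image. -/
noncomputable def pushCmp : Formal.completion J ((Scheme.Modules.pushforward f).obj F) ⟶ pushSys f J F :=
  NatTrans.ofOpSequence (fun n => pushCmpApp f hf J F n) fun n => by
    rw [completion_map_succ, Functor.comp_map, completion_map_succ]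
    exact pushCmpApp_trans f hf J F n

theorem pushCmp_app_apply (n : ℕ) (V : Y.Opens) (x : preSec f F V) :
    ((pushCmp f hf J F).app (op n)).app V
        ((Formal.modPowπ J (n + 1) ((Scheme.Modules.pushforward f).obj F)).app V x) =
      (Formal.modPowπ J (n + 1) F).app (f ⁻¹ᵁ V) x :=
  comp_app_eq (π_pushCmpApp f hf J F n) V x

variable [IsLocallyNoetherian Y] [IsProper f]

theorem isCoh_pushforward {F : X.Modules} (hF : Coh.IsCoh F) : Coh.IsCoh ((Scheme.Modules.pushforward f).obj F) := by
  haveI := hF.1
  haveI : IsLocallyNoetherian X := LocallyOfFiniteType.isLocallyNoetherian f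
  refine H10Coh.isCoh_push_of_finH f F hF fun W hW => ?_
  haveI : IsNoetherianRing Γ(Y, W) := isNoetherianRing_sections hW
  haveI : IsProper (f ∣_ W) := IsZariskiLocalAtTarget.restrict (P := @IsProper) ‹IsProper f› W
  rw [H10Coh.preΓ_eq_toΓ f hW]
  exact H10Coh.finH_proper _ _ (H10Coh.isCoh_restrict _ _ hF) 0

include hf in
/-- The theorem on formal functions for the limits. -/
theorem isIso_lim_pushCmp [IsLocallyNoetherian X] (hJ : J.FG) (hF : Coh.IsCoh F) :
    IsIso (limMap (pushCmp f hf J F)) := by
  have hH := isCoh_pushforward f hF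
  have hfor := isCohFormal_compl (I := J) hH
  let H := (Scheme.Modules.pushforward f).obj F
  haveI : Mono (limMap (pushCmp f hf J F)) := by
    refine Abelian.mono_of_kernel_ι_eq_zero _ (H24Formal.hom_ext_app _ _ fun W s => ?_)
    refine H11Tilde.eq_of_locally _ _ fun x hx => ?_
    obtain ⟨V, hV, hle, hxV⟩ := exists_affine_le hx
    refine ⟨V, hle, hxV, ?_⟩
    let k := kernel.ι (limMap (pushCmp f hf J F))
    let y := k.app V ((kernel (limMap (pushCmp f hf J F))).presheaf.map (homOfLE hle).op s)
    have hy : (limMap (pushCmp f hf J F)).app V y = 0 :=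
      eq_on_sections (kernel.condition (limMap (pushCmp f hf J F))) _
    refine (H11Tilde.app_map_apply k hle s).symm.trans (Eq.trans ?_ (map_zero _).symm)
    choose h hh using fun n => surjective_modPowπ J (n + 1) hH hV ((limit.π (Formal.completion J H) (op n)).app V y)
    refine (secSys hJ hfor hV).hinj y fun n => ?_
    have hc : ∀ n, h (n + 1) - h n ∈ secIdeal J V ^ (n + 1) • (⊤ : Submodule Γ(Y, V) (preSec f F V)) := fun n => by
      rw [← modPowπ_eq_iff hJ hH hV]
      refine ((comp_app_eq (Formal.modPowπ_trans J (n + 1) H) V (h (n + 1))).symm.trans ?_).trans (hh n).symm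
      refine (congrArg ((Formal.modPowTrans J (n + 1) H).app V) (hh (n + 1))).trans ?_
      exact comp_app_eq
        ((congrArg (limit.π (Formal.completion J H) (op (n + 1)) ≫ ·) (completion_map_succ J H n).symm).trans
          (limit.w _ _)) V y
    have h0 : ∀ n, (Formal.modPowπ J (n + 1) F).app (f ⁻¹ᵁ V) (h n) = 0 := fun n => by
      refine (pushCmp_app_apply f hf J F n V (h n)).symm.trans ?_
      refine (congrArg (((pushCmp f hf J F).app (op n)).app V) (hh n)).trans ?_
      exact (limMap_π_app (pushCmp f hf J F) n V y).symm.trans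
        ((congrArg ((limit.π (pushSys f J F) (op n)).app V) hy).trans (map_zero _))
    refine (hh n).symm.trans (((modPowπ_eq_iff hJ hH hV (n + 1) (h n) 0).2 ?_).trans (map_zero _))
    rw [sub_zero]
    exact ff_injective f hf hV hF h hc h0 hJ n
  haveI : Epi (limMap (pushCmp f hf J F)) := by
    refine H11Tilde.epi_of_locally_surjective _ fun W t x hx => ?_
    obtain ⟨V, hV, hle, hxV⟩ := exists_affine_le hx
    refine ⟨V, hle, hxV, ?_⟩
    let t' := (limit (pushSys f J F)).presheaf.map (homOfLE hle).op t
    let z : ∀ n : ℕ, preSec f (Formal.modPow J (n + 1) F) V := fun n => (limit.π (pushSys f J F) (op n)).app V t'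
    have hz : ∀ n, (Formal.modPowTrans J (n + 1) F).app (f ⁻¹ᵁ V) (z (n + 1)) = z n := fun n =>
      comp_app_eq (b := (Scheme.Modules.pushforward f).map (Formal.modPowTrans J (n + 1) F))
        ((congrArg (limit.π (pushSys f J F) (op (n + 1)) ≫ ·)
          (congrArg (Scheme.Modules.pushforward f).map (completion_map_succ J F n)).symm).trans
          (limit.w (pushSys f J F) (homOfLE (Nat.le_succ n)).op)) V t'
    obtain ⟨h, hc, hh⟩ := ff_surjective f hf hV hF z hz hJ
    obtain ⟨x', hx'⟩ := exists_limit_section (Formal.completion J H) V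
      (fun n => (Formal.modPowπ J (n + 1) H).app V (h n)) fun n => by
        rw [completion_map_succ]
        refine (comp_app_eq (Formal.modPowπ_trans J (n + 1) H) V (h (n + 1))).trans ?_
        exact (modPowπ_eq_iff hJ hH hV _ _ _).2 (hc n)
    refine ⟨x', limit_section_ext _ V _ _ fun n => ?_⟩
    refine (limMap_π_app (pushCmp f hf J F) n V x').trans ?_
    refine (congrArg (((pushCmp f hf J F).app (op n)).app V) (hx' n)).trans ?_
    exact (pushCmp_app_apply f hf J F n V (h n)).trans (hh n)
  exact isIso_of_mono_of_epi _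

/-- The maps `G_n ⟶ f_* f^* G_n ≅ f_* F_n`. -/
noncomputable def pushUnit {G : ℕᵒᵖ ⥤ Y.Modules} (β : (G ⋙ Scheme.Modules.pullback f) ≅ Formal.completion J F) :
    G ⟶ pushSys f J F where
  app j := (Scheme.Modules.pullbackPushforwardAdjunction f).unit.app (G.obj j) ≫
    (Scheme.Modules.pushforward f).map (β.hom.app j)
  naturality i j φ := by
    refine (Category.assoc _ _ _).symm.trans ?_
    refine (congrArg (· ≫ (Scheme.Modules.pushforward f).map (β.hom.app j))
      ((Scheme.Modules.pullbackPushforwardAdjunction f).unit.naturality (G.map φ))).trans ?_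
    refine (Category.assoc _ _ _).trans (Eq.trans ?_ (Category.assoc _ _ _).symm)
    refine congrArg (_ ≫ ·) ?_
    exact ((Scheme.Modules.pushforward f).map_comp _ _).symm.trans
      ((congrArg (Scheme.Modules.pushforward f).map (β.hom.naturality φ)).trans
        ((Scheme.Modules.pushforward f).map_comp _ _))

include hf in
/-- The map of the system to the completion of the direct image. -/
theorem exists_alpha [IsLocallyNoetherian X] (hJ : J.FG) (hF : Coh.IsCoh F) {G : ℕᵒᵖ ⥤ Y.Modules}
    (hG : Formal.IsCohFormal J G) (β : (G ⋙ Scheme.Modules.pullback f) ≅ Formal.completion J F) :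
    ∃ α : G ⟶ Formal.completion J ((Scheme.Modules.pushforward f).obj F), α ≫ pushCmp f hf J F = pushUnit f J F β := by
  haveI := isIso_lim_pushCmp f hf J F hJ hF
  obtain ⟨α, hα, -⟩ := existsUnique_of_limit hJ hG (isCohFormal_compl (I := J) (isCoh_pushforward f hF))
    (limMap (pushUnit f J F β) ≫ inv (limMap (pushCmp f hf J F)))
  refine ⟨α, ?_⟩
  have hl : limMap (α ≫ pushCmp f hf J F) = limMap (pushUnit f J F β) := by
    rw [limMap_comp', hα, Category.assoc, IsIso.inv_hom_id, Category.comp_id]
  ext ⟨n⟩ : 2
  haveI : Epi (limit.π G (op n)) := epi_limit_π G (fun k => (hG.1 k).1)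
    (epi_map_succ ⟨fun k => (hG.1 k).1, hG.2.1, hG.2.2⟩) n
  rw [← cancel_epi (limit.π G (op n)), ← limMap_π, ← limMap_π, hl]

end Groth.Agent.H24GE
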