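import Groth.Agent.H24GE.Closed
import Groth.Agent.H24Formal.Pullback
import Groth.Agent.H24Hilb.ClosedCounit
import Groth.Agent.H24FSch.Levels
import Groth.Agent.H7Flat.NilDeform
import Groth.Agent.H10Coh.AffinePush

/-!
# Pullback along a morphism which is an isomorphism on the thickenings of a closed subscheme
-/

set_option autoImplicit false
set_option linter.style.haveILetI false
set_option linter.unusedSectionVars false
universe u

open CategoryTheory CategoryTheory.Limits AlgebraicGeometry Opposite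

namespace Groth.Agent.H24GE

open Groth.Agent.H24Formal Groth.Agent.H24Formal.HomC

section Adj

theorem bijective_map_of_isIso_unit {C D : Type*} [Category C] [Category D] {F : C ⥤ D} {G : D ⥤ C} (adj : F ⊣ G)
    (M N : C) [IsIso (adj.unit.app N)] : Function.Bijective (F.map : (M ⟶ N) → (F.obj M ⟶ F.obj N)) := by
  have e : (adj.homEquiv M (F.obj N) ∘ F.map : (M ⟶ N) → (M ⟶ G.obj (F.obj N))) = fun g => g ≫ adj.unit.app N := by
    funext g
    exact ((adj.homEquiv_unit _ _ _).trans (adj.unit.naturality g).symm)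
  refine ((adj.homEquiv M (F.obj N)).bijective.of_comp_iff' _).1 ?_
  rw [e]
  exact ⟨fun a b h => (cancel_mono (adj.unit.app N)).1 h,
    fun h => ⟨h ≫ inv (adj.unit.app N), (Category.assoc _ _ _).trans
      ((congrArg (h ≫ ·) (IsIso.inv_hom_id _)).trans (Category.comp_id h))⟩⟩

theorem bijective_map_of_natIso {C D : Type*} [Category C] [Category D] {F F' : C ⥤ D} (e : F ≅ F') (M N : C)
    (h : Function.Bijective (F'.map : (M ⟶ N) → (F'.obj M ⟶ F'.obj N))) :
    Function.Bijective (F.map : (M ⟶ N) → (F.obj M ⟶ F.obj N)) := by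
  have : (F.map : (M ⟶ N) → (F.obj M ⟶ F.obj N)) = ((e.app M).homCongr (e.app N)).symm ∘ F'.map := by
    funext g
    simp only [Function.comp_apply, Iso.homCongr_symm, Iso.homCongr_apply, Iso.symm_inv, Iso.symm_hom,
      Iso.app_hom, Iso.app_inv, NatIso.naturality_2]
  rw [this]
  exact ((e.app M).homCongr (e.app N)).symm.bijective.comp h

end Adj

section Schemes

variable {X Z : Scheme.{u}} (i : Z ⟶ X) [IsClosedImmersion i]

theorem killedByIdeal_pushforward_ker (N : Z.Modules) :
    ClSub.KilledByIdeal i.ker ((Scheme.Modules.pushforward i).obj N) := fun U a ha m => by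
  rw [Scheme.Hom.ker_apply, RingHom.mem_ker] at ha
  let m' : Γ(N, i ⁻¹ᵁ U.1) := m
  show (i.app U.1).hom a • m' = 0
  rw [ha]
  exact zero_smul _ m'

theorem isIso_unit_of_killedByIdeal {M : X.Modules} (hM : Coh.IsQCoh M) (hk : ClSub.KilledByIdeal i.ker M) :
    IsIso ((Scheme.Modules.pullbackPushforwardAdjunction i).unit.app M) := by
  haveI : ((Scheme.Modules.pullback i).obj M).IsQuasicoherent := H29Fitt.isQCoh_pullback _ M hM
  have hN : Coh.IsQCoh ((Scheme.Modules.pushforward i).obj ((Scheme.Modules.pullback i).obj M)) :=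
    H10Coh.isQuasicoherent_pushforward i _
  refine isIso_of_bijective_affine hM hN _ (fun V z hz => ?_) fun V =>
    (H17.PullSect.isQuotOn_of_isAffineOpen i M hM V.2).1
  have h := (H17.PullSect.isQuotOn_of_isAffineOpen i M hM V.2).2 z hz
  exact Submodule.smul_induction_on (p := fun q => q = 0) h
    (fun a ha q _ => hk V a (by rwa [Scheme.Hom.ker_apply]) q) fun p q hp hq => by rw [hp, hq, add_zero]

variable {X' Z' : Scheme.{u}} {f : X' ⟶ X} {i' : Z' ⟶ X'} [IsClosedImmersion i'] {q : Z' ⟶ Z} [IsIso q]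

theorem killedByIdeal_bot {Y : Scheme.{u}} (M : Y.Modules) : ClSub.KilledByIdeal ⊥ M := fun U a ha m => by
  rw [Scheme.IdealSheafData.ideal_bot, Pi.bot_apply, Ideal.mem_bot] at ha
  rw [ha, zero_smul]

/-- The two composite inverse images agree. -/
noncomputable def pullSquare (w : i' ≫ f = q ≫ i) :
    Scheme.Modules.pullback f ⋙ Scheme.Modules.pullback i' ≅ Scheme.Modules.pullback i ⋙ Scheme.Modules.pullback q :=
  Scheme.Modules.pullbackComp i' f ≪≫ Scheme.Modules.pullbackCongr w ≪≫ (Scheme.Modules.pullbackComp q i).symm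

/-- Inverse image is fully faithful on modules killed by the ideal. -/
theorem bijective_pullback_map (w : i' ≫ f = q ≫ i) (M : X.Modules) {N : X.Modules} (hN : Coh.IsQCoh N)
    (hk : ClSub.KilledByIdeal i.ker N) (hk' : ClSub.KilledByIdeal i'.ker ((Scheme.Modules.pullback f).obj N)) :
    Function.Bijective ((Scheme.Modules.pullback f).map : (M ⟶ N) → _) := by
  haveI := isIso_unit_of_killedByIdeal i hN hk
  haveI := isIso_unit_of_killedByIdeal i' (H29Fitt.isQCoh_pullback f N hN) hk'
  haveI := isIso_unit_of_killedByIdeal q (H29Fitt.isQCoh_pullback i N hN) (by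
    rw [Scheme.Hom.ker_eq_bot_of_isIso]; exact killedByIdeal_bot _)
  have h1 := bijective_map_of_natIso (pullSquare i w) M N
    ((bijective_map_of_isIso_unit (Scheme.Modules.pullbackPushforwardAdjunction q)
      ((Scheme.Modules.pullback i).obj M) ((Scheme.Modules.pullback i).obj N)).comp
      (bijective_map_of_isIso_unit (Scheme.Modules.pullbackPushforwardAdjunction i) M N))
  exact ((bijective_map_of_isIso_unit (Scheme.Modules.pullbackPushforwardAdjunction i')
    ((Scheme.Modules.pullback f).obj M) ((Scheme.Modules.pullback f).obj N)).of_comp_iff' _).1 h1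

/-- Inverse image is essentially surjective on coherent modules killed by the ideal. -/
theorem exists_pullback_iso [IsLocallyNoetherian X] (w : i' ≫ f = q ≫ i) {N' : X'.Modules} (hN : Coh.IsCoh N')
    (hk : ClSub.KilledByIdeal i'.ker N')
    (hk' : ∀ M : X.Modules, ClSub.KilledByIdeal i.ker M → ClSub.KilledByIdeal i'.ker ((Scheme.Modules.pullback f).obj M)) :
    ∃ M : X.Modules, Coh.IsCoh M ∧ ClSub.KilledByIdeal i.ker M ∧
      Nonempty ((Scheme.Modules.pullback f).obj M ≅ N') := by
  have hP : Coh.IsCoh ((Scheme.Modules.pullback (inv q)).obj ((Scheme.Modules.pullback i').obj N')) :=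
    H17.ConsProp.isCoh_pullback _ (H17.ConsProp.isCoh_pullback _ hN)
  let P := (Scheme.Modules.pullback (inv q)).obj ((Scheme.Modules.pullback i').obj N')
  let M := (Scheme.Modules.pushforward i).obj P
  have hM : Coh.IsCoh M := H10Coh.isCoh_push_of_isFinite i P hP
  have hkM := killedByIdeal_pushforward_ker i P
  refine ⟨M, hM, hkM, ?_⟩
  haveI := isIso_unit_of_killedByIdeal i' hN.1 hk
  haveI := isIso_unit_of_killedByIdeal i' (H29Fitt.isQCoh_pullback f M hM.1) (hk' M hkM)
  haveI : IsIso ((Scheme.Modules.pullbackPushforwardAdjunction i).counit.app P) :=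
    H24Hilb.Closed.isIso_counit_of_isClosedImmersion i P
  refine ⟨asIso ((Scheme.Modules.pullbackPushforwardAdjunction i').unit.app _) ≪≫
    (Scheme.Modules.pushforward i').mapIso ((pullSquare i w).app M ≪≫
      (Scheme.Modules.pullback q).mapIso (asIso ((Scheme.Modules.pullbackPushforwardAdjunction i).counit.app P)) ≪≫
      (Scheme.Modules.pullbackComp q (inv q)).app _ ≪≫ (Scheme.Modules.pullbackCongr (IsIso.hom_inv_id q)).app _ ≪≫
      (Scheme.Modules.pullbackId _).app _) ≪≫
    (asIso ((Scheme.Modules.pullbackPushforwardAdjunction i').unit.app N')).symm⟩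

end Schemes

section Levels

variable {A : Type u} [CommRing A] (I : Ideal A)

theorem ker_specQuot (n : ℕ) : (CohB1.specQuot I n).ker = FSch.idealSpec A (I ^ (n + 1)) := by
  rw [CohB1.specQuot, H24FSch.ker_specMap_of_surjective _ Ideal.Quotient.mk_surjective, Ideal.mk_ker]

instance isClosedImmersion_specQuot (n : ℕ) : IsClosedImmersion (CohB1.specQuot I n) :=
  IsClosedImmersion.spec_of_surjective _ Ideal.Quotient.mk_surjective

theorem idealOf_eq_comap {X : Scheme.{u}} [X.Over (Spec (CommRingCat.of A))] [IsLocallyNoetherian X] (J : Ideal A) :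
    idealOf X J = (FSch.idealSpec A J).comap (X ↘ Spec (CommRingCat.of A)) := by
  ext V : 2
  rw [ideal_idealOf, H29Blow.ideal_comap _ _ ⟨⊤, isAffineOpen_top _⟩ V le_top, H24FSch.idealSpec_ideal_top,
    Ideal.map_map]
  rfl

variable {X X' : Scheme.{u}} [X.Over (Spec (CommRingCat.of A))] [X'.Over (Spec (CommRingCat.of A))] (f : X' ⟶ X)

variable (X) in
/-- The inclusion of the `n`-th thickening. -/
noncomputable abbrev lvlι (n : ℕ) := pullback.fst (X ↘ Spec (CommRingCat.of A)) (CohB1.specQuot I n)

/-- The comparison map of the `n`-th thickenings. -/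
noncomputable abbrev lvlMap (n : ℕ) := pullback.snd f (lvlι I X n)

/-- The transition `Spec A/I ⟶ Spec A/I^(n+1)`. -/
noncomputable def specTrans (n : ℕ) :
    Spec (CommRingCat.of (A ⧸ I ^ (0 + 1))) ⟶ Spec (CommRingCat.of (A ⧸ I ^ (n + 1))) :=
  Spec.map (CommRingCat.ofHom (Ideal.Quotient.factor (Ideal.pow_le_pow_right (Nat.succ_le_succ (Nat.zero_le n)))))

theorem specTrans_specQuot (n : ℕ) : specTrans I n ≫ CohB1.specQuot I n = CohB1.specQuot I 0 := by
  simp only [specTrans, CohB1.specQuot, ← Spec.map_comp, ← CommRingCat.ofHom_comp]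
  rfl

theorem thickening_specTrans (n : ℕ) : MoreMor.IsFiniteOrderThickening (specTrans I n) := by
  have hs : Function.Surjective (Ideal.Quotient.factor (Ideal.pow_le_pow_right (I := I)
      (Nat.succ_le_succ (Nat.zero_le n)))) := Ideal.Quotient.factor_surjective _
  haveI : IsClosedImmersion (specTrans I n) := IsClosedImmersion.spec_of_surjective _ hs
  have hk : (specTrans I n).ker ^ (n + 1) = ⊥ := by
    rw [specTrans, H24FSch.ker_specMap_of_surjective _ hs, H24FSch.idealSpec_pow]
    refine Scheme.IdealSheafData.ext_of_isAffine ?_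
    rw [H24FSch.idealSpec_ideal_top, Scheme.IdealSheafData.ideal_bot, Pi.bot_apply, Ideal.Quotient.factor_ker]
    rw [← Ideal.map_pow, pow_one, Ideal.map_quotient_self, Ideal.map_bot]
  refine ⟨⟨inferInstance, ⟨fun y => ?_⟩⟩, ⟨n + 1, hk⟩⟩
  have h1 : ((specTrans I n).ker.support : Set (Spec (CommRingCat.of (A ⧸ I ^ (n + 1))))) = Set.univ := by
    rw [← Scheme.IdealSheafData.support_pow _ _ (Nat.succ_ne_zero n), hk, Scheme.IdealSheafData.support_bot]
    rfl
  rw [Scheme.Hom.support_ker, (specTrans I n).isClosedEmbedding.isClosed_range.closure_eq] at h1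
  exact h1.ge (Set.mem_univ y)

theorem ker_lvlι [IsLocallyNoetherian X] (n : ℕ) : (lvlι I X n).ker = idealOf X (I ^ (n + 1)) := by
  rw [Scheme.IdealSheafData.ker_fst_of_isClosedImmersion, ker_specQuot, idealOf_eq_comap]

variable (hf : f ≫ (X ↘ Spec (CommRingCat.of A)) = X' ↘ Spec (CommRingCat.of A))

include hf in
theorem ker_fst_lvlι [IsLocallyNoetherian X] [IsLocallyNoetherian X'] (n : ℕ) : (pullback.fst f (lvlι I X n)).ker = idealOf X' (I ^ (n + 1)) := by
  rw [Scheme.IdealSheafData.ker_fst_of_isClosedImmersion, ker_lvlι, idealOf_eq_comap, idealOf_eq_comap,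
    ← Scheme.IdealSheafData.comap_comp, hf]

include hf in
theorem isIso_lvlMap_zero
    (hZ : IsIso (pullback.map (X' ↘ Spec (CommRingCat.of A)) (CohB1.specQuot I 0)
      (X ↘ Spec (CommRingCat.of A)) (CohB1.specQuot I 0) f (𝟙 _) (𝟙 _)
      ((Category.comp_id _).trans hf.symm) ((Category.comp_id _).trans (Category.id_comp _).symm))) :
    IsIso (lvlMap I f 0) := by
  haveI := hZ
  have : lvlMap I f 0 = (pullbackRightPullbackFstIso (X ↘ Spec (CommRingCat.of A)) (CohB1.specQuot I 0) f ≪≫
      pullback.congrHom hf rfl).hom ≫ pullback.map (X' ↘ Spec (CommRingCat.of A)) (CohB1.specQuot I 0)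
      (X ↘ Spec (CommRingCat.of A)) (CohB1.specQuot I 0) f (𝟙 _) (𝟙 _)
      ((Category.comp_id _).trans hf.symm) ((Category.comp_id _).trans (Category.id_comp _).symm) := by
    refine pullback.hom_ext ?_ ?_
    · simp only [pullback.map, Iso.trans_hom, pullback.congrHom_hom, Category.assoc, pullback.lift_fst,
        pullback.lift_fst_assoc, Category.comp_id]
      rw [pullbackRightPullbackFstIso_hom_fst_assoc]
      exact pullback.condition.symm
    · simp only [pullback.map, Iso.trans_hom, pullback.congrHom_hom, Category.assoc, pullback.lift_snd,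
        Category.comp_id]
      rw [pullbackRightPullbackFstIso_hom_snd]
  rw [this]
  infer_instance

/-- Flat morphisms which are isomorphisms on the closed fibre are so on all thickenings. -/
theorem isIso_lvlMap [Flat f] [IsIso (lvlMap I f 0)] (n : ℕ) : IsIso (lvlMap I f n) := by
  let iY : pullback (X ↘ Spec (CommRingCat.of A)) (CohB1.specQuot I 0) ⟶
      pullback (X ↘ Spec (CommRingCat.of A)) (CohB1.specQuot I n) :=
    pullback.lift (pullback.fst _ _) (pullback.snd _ _ ≫ specTrans I n)
      (by rw [Category.assoc, specTrans_specQuot, pullback.condition])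
  have h1 : IsPullback iY (pullback.snd _ _) (pullback.snd _ _) (specTrans I n) := by
    refine IsPullback.of_right ?_ (pullback.lift_snd _ _ _)
      (IsPullback.of_hasPullback (X ↘ Spec (CommRingCat.of A)) (CohB1.specQuot I n))
    rw [pullback.lift_fst, specTrans_specQuot]
    exact IsPullback.of_hasPullback _ _
  let iX : pullback f (lvlι I X 0) ⟶ pullback f (lvlι I X n) :=
    pullback.lift (pullback.fst _ _) (pullback.snd _ _ ≫ iY)
      (by rw [Category.assoc, pullback.lift_fst, pullback.condition])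
  have h2 : IsPullback iX (lvlMap I f 0) (lvlMap I f n) iY := by
    refine IsPullback.of_right ?_ (pullback.lift_snd _ _ _) (IsPullback.of_hasPullback f (lvlι I X n))
    rw [pullback.lift_fst, pullback.lift_fst]
    exact IsPullback.of_hasPullback _ _
  have hS : MoreMor.IsFiniteOrderThickening iY := by
    have hth := thickening_specTrans I n
    haveI := hth.1.1
    haveI := hth.1.2
    exact ⟨⟨MorphismProperty.of_isPullback (P := @IsClosedImmersion) h1.flip inferInstance,
      MorphismProperty.of_isPullback (P := @Surjective) h1.flip inferInstance⟩,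
      H7Flat.NilDeform.isNilpotent_ker_of_isPullback hth.2 h1⟩
  haveI : Flat (lvlMap I f n ≫ 𝟙 _) := by rw [Category.comp_id]; infer_instance
  exact H7Flat.NilDeform.isIso_of_finiteOrder (f := lvlMap I f 0) (g := 𝟙 _) (g' := 𝟙 _) hS
    (by simpa using h2) IsPullback.of_id_snd h2.w

variable [IsLocallyNoetherian X] [IsLocallyNoetherian X'] [Flat f] [IsIso (lvlMap I f 0)]

include hf in
theorem bijective_map_killed (n : ℕ) (M : X.Modules) {N : X.Modules} (hN : Coh.IsQCoh N)
    (hk : Formal.KilledBy (I ^ (n + 1)) N) :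
    Function.Bijective ((Scheme.Modules.pullback f).map : (M ⟶ N) → _) := by
  haveI := isIso_lvlMap I f n
  refine bijective_pullback_map (lvlι I X n) (q := lvlMap I f n) pullback.condition M hN ?_ ?_
  · rw [ker_lvlι, ← pow_one (idealOf X _)]
    exact (killedByIdeal_iff _ 1 _).2 (by rwa [pow_one])
  · rw [ker_fst_lvlι I f hf, ← pow_one (idealOf X' _)]
    exact (killedByIdeal_iff _ 1 _).2 (by rw [pow_one]; exact killedBy_pullback f hf hk)

include hf in
theorem exists_killed_preimage (n : ℕ) {N' : X'.Modules} (hN : Coh.IsCoh N')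
    (hk : Formal.KilledBy (I ^ (n + 1)) N') :
    ∃ M : X.Modules, Coh.IsCoh M ∧ Formal.KilledBy (I ^ (n + 1)) M ∧
      Nonempty ((Scheme.Modules.pullback f).obj M ≅ N') := by
  haveI := isIso_lvlMap I f n
  have hiff : ∀ M : X.Modules, ClSub.KilledByIdeal (lvlι I X n).ker M ↔ Formal.KilledBy (I ^ (n + 1)) M := fun M => by
    rw [ker_lvlι, ← pow_one (idealOf X _), killedByIdeal_iff, pow_one]
  have hiff' : ∀ M : X'.Modules,
      ClSub.KilledByIdeal (pullback.fst f (lvlι I X n)).ker M ↔ Formal.KilledBy (I ^ (n + 1)) M := fun M => by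
    rw [ker_fst_lvlι I f hf, ← pow_one (idealOf X' _), killedByIdeal_iff, pow_one]
  obtain ⟨M, hM, hkM, e⟩ := exists_pullback_iso (lvlι I X n) (q := lvlMap I f n) pullback.condition hN
    ((hiff' N').2 hk) fun M hM => (hiff' _).2 (killedBy_pullback f hf ((hiff M).1 hM))
  exact ⟨M, hM, (hiff M).1 hkM, e⟩

include hf in
theorem bijective_whiskerRight {G₁ G₂ : ℕᵒᵖ ⥤ X.Modules} (hG₂ : Formal.IsCohFormal I G₂) :
    Function.Bijective (fun φ : G₁ ⟶ G₂ => Functor.whiskerRight φ (Scheme.Modules.pullback f)) := by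
  have hb : ∀ (M : X.Modules) (n : ℕᵒᵖ),
      Function.Bijective ((Scheme.Modules.pullback f).map : (M ⟶ G₂.obj n) → _) := fun M n =>
    bijective_map_killed I f hf n.unop M (hG₂.1 n.unop).1 (hG₂.2.1 n.unop)
  refine ⟨fun φ ψ h => ?_, fun ψ => ?_⟩
  · ext n : 2
    exact (hb _ n).1 (congr_app h n)
  · choose φ hφ using fun n => (hb (G₁.obj n) n).2 (ψ.app n)
    refine ⟨{ app := φ, naturality := fun n n' g => (hb _ n').1 ?_ }, ?_⟩
    · rw [Functor.map_comp, Functor.map_comp, hφ, hφ]
      exact ψ.naturality g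
    · ext n : 2
      exact hφ n

include hf in
theorem exists_preimage_sys {G' : ℕᵒᵖ ⥤ X'.Modules} (hG' : Formal.IsCohFormal I G') :
    ∃ G : ℕᵒᵖ ⥤ X.Modules, Formal.IsCohFormal I G ∧ Nonempty (G ⋙ Scheme.Modules.pullback f ≅ G') := by
  choose M hM hk he using fun n => exists_killed_preimage I f hf n (hG'.1 n) (hG'.2.1 n)
  let e := fun n => Classical.choice (he n)
  choose t ht using fun n => (bijective_map_killed I f hf n (M (n + 1)) (hM n).1 (hk n)).2
    ((e (n + 1)).hom ≫ G'.map (homOfLE (Nat.le_succ n)).op ≫ (e n).inv)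
  let G : ℕᵒᵖ ⥤ X.Modules := Functor.ofOpSequence t
  have hGt : ∀ n, G.map (homOfLE (Nat.le_succ n)).op = t n := fun n => Functor.ofOpSequence_map_homOfLE_succ _ n
  let α : G ⋙ Scheme.Modules.pullback f ⟶ G' := NatTrans.ofOpSequence (fun n => (e n).hom) fun n => by
    refine (congrArg (· ≫ _) ((congrArg (Scheme.Modules.pullback f).map (hGt n)).trans (ht n))).trans ?_
    exact (Category.assoc _ _ _).trans (congrArg (_ ≫ ·) ((Category.assoc _ _ _).trans
      ((congrArg (_ ≫ ·) (Iso.inv_hom_id _)).trans (Category.comp_id _))))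
  have hα : ∀ n, IsIso (α.app n) := fun ⟨n⟩ => inferInstanceAs (IsIso (e n).hom)
  haveI := hα
  haveI : IsIso α := NatIso.isIso_of_isIso_app α
  refine ⟨G, ⟨fun n => hM n, fun n => hk n, fun n => ?_⟩, ⟨asIso α⟩⟩
  have hGf : Formal.IsCohFormal I (G ⋙ Scheme.Modules.pullback f) := isCohFormal_of_iso (asIso α).symm hG'
  have hz := smulFamily_comp_eq_zero (J := I ^ (n + 1)) (G.map (homOfLE (Nat.le_succ n)).op) (hk n)
  refine ⟨hz, ?_⟩
  let C := Formal.modPow I (n + 1) (G.obj (op (n + 1)))
  have hC : Coh.IsCoh C := isCoh_modPow I _ (hM (n + 1))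
  have hkC : Formal.KilledBy (I ^ (n + 1)) C := killedBy_modPow I _ _
  obtain ⟨g', hg'⟩ := (epi_and_factor hGf (Nat.le_succ n)).2
    ((Scheme.Modules.pullback f).map (Formal.modPowπ I (n + 1) (G.obj (op (n + 1)))))
    (smulFamily_comp_eq_zero _ (killedBy_pullback f hf hkC))
  obtain ⟨g, rfl⟩ := (bijective_map_killed I f hf n (M n) hC.1 hkC).2 g'
  refine ⟨g, coequalizer.hom_ext ((bijective_map_killed I f hf n _ hC.1 hkC).1 ?_),
    (bijective_map_killed I f hf n _ (hM n).1 (hk n)).1 ?_⟩
  · erw [cokernel.π_desc_assoc, Category.comp_id, Functor.map_comp]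
    exact hg'
  · haveI := (epi_and_factor hGf (Nat.le_succ n)).1
    rw [← cancel_epi ((G ⋙ Scheme.Modules.pullback f).map (homOfLE (Nat.le_succ n)).op)]
    refine ((congrArg (_ ≫ ·) (Functor.map_comp _ _ _)).trans ((Category.assoc _ _ _).symm.trans
      ((congrArg (· ≫ _) hg').trans ?_)))
    refine ((Functor.map_comp _ _ _).symm.trans (congrArg _ (cokernel.π_desc _ _ _))).trans ?_
    exact ((congrArg (_ ≫ ·) ((Scheme.Modules.pullback f).map_id _)).trans (Category.comp_id _)).symm

end Levels

end Groth.Agent.H24GE
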