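import Groth.Agent.H24Adic.LimitSystem
import Groth.Agent.H24Adic.CompletionNoetherian
import Mathlib.RingTheory.Filtration

/-!
# Adic systems as modules over the completion

The limit of an adic system of modules over a Noetherian ring `R` is a module of finite type over
the completion of `R`; the two consequences used for formal modules are stated without reference to it.
-/

set_option autoImplicit false
set_option linter.style.haveILetI false
universe u v

open Submodule

namespace Groth.Agent.H24GE

open Groth.Agent.H24Adic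

variable {R : Type u} [CommRing R] {J : Ideal R}

theorem factorPow_evalₐ (I : Ideal R) {m n : ℕ} (hle : m ≤ n) (x : AdicCompletion I R) :
    Ideal.Quotient.factorPow I hle (AdicCompletion.evalₐ I n x) = AdicCompletion.evalₐ I m x := by
  induction x using AdicCompletion.induction_on with
  | _ a =>
    simp only [AdicCompletion.evalₐ_mk]
    have h1 := a.2 hle
    rw [SModEq.sub_mem, smul_eq_mul, Ideal.mul_top, ← Ideal.Quotient.eq] at h1
    exact h1.symm

/-- A representative of a completed scalar modulo `J ^ (n + 1)`. -/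
noncomputable def rep (r : AdicCompletion J R) (n : ℕ) : R :=
  Function.surjInv Ideal.Quotient.mk_surjective (AdicCompletion.evalₐ J (n + 1) r)

theorem mk_rep (r : AdicCompletion J R) (n : ℕ) :
    Ideal.Quotient.mk (J ^ (n + 1)) (rep r n) = AdicCompletion.evalₐ J (n + 1) r :=
  Function.surjInv_eq Ideal.Quotient.mk_surjective _

theorem rep_sub_mem {r : AdicCompletion J R} {n : ℕ} {a : R}
    (ha : Ideal.Quotient.mk (J ^ (n + 1)) a = AdicCompletion.evalₐ J (n + 1) r) : a - rep r n ∈ J ^ (n + 1) :=
  Ideal.Quotient.eq.1 (ha.trans (mk_rep r n).symm)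

theorem mk_rep_succ (r : AdicCompletion J R) (n : ℕ) :
    Ideal.Quotient.mk (J ^ (n + 1)) (rep r (n + 1)) = AdicCompletion.evalₐ J (n + 1) r := by
  rw [← factorPow_evalₐ J (Nat.le_succ (n + 1)) r, ← mk_rep r (n + 1)]
  rfl

variable {M : ℕ → Type v} [∀ n, AddCommGroup (M n)] [∀ n, Module R (M n)]
  {L : Type v} [AddCommGroup L] [Module R L] (S : AdicSystem J M L)
include S

theorem smul_eq_zero_of_mem {n : ℕ} {a : R} (ha : a ∈ J ^ (n + 1)) (m : M n) : a • m = 0 := by
  rw [← Submodule.mem_bot R, ← S.pow_smul_eq_bot n]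
  exact Submodule.smul_mem_smul ha trivial

theorem smul_eq_smul {n : ℕ} {a b : R} (h : a - b ∈ J ^ (n + 1)) (m : M n) : a • m = b • m := by
  rw [← sub_eq_zero, ← sub_smul, smul_eq_zero_of_mem S h]

theorem exists_smul (r : AdicCompletion J R) (x : L) : ∃ y : L, ∀ n, S.π n y = rep r n • S.π n x :=
  S.hlift (fun n => rep r n • S.π n x) fun n => by
    rw [map_smul, S.π_apply]
    exact smul_eq_smul S (rep_sub_mem (mk_rep_succ r n)) _

/-- The action of the completion on the limit. -/
noncomputable def csmul (r : AdicCompletion J R) (x : L) : L := (exists_smul S r x).choose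

theorem π_csmul (r : AdicCompletion J R) (x : L) {n : ℕ} {a : R}
    (ha : Ideal.Quotient.mk (J ^ (n + 1)) a = AdicCompletion.evalₐ J (n + 1) r) :
    S.π n (csmul S r x) = a • S.π n x :=
  ((exists_smul S r x).choose_spec n).trans (smul_eq_smul S (rep_sub_mem ha) _).symm

theorem π_csmul' (r : AdicCompletion J R) (x : L) (n : ℕ) : S.π n (csmul S r x) = rep r n • S.π n x :=
  π_csmul S r x (mk_rep r n)

theorem ext_π {x y : L} (h : ∀ n, S.π n x = S.π n y) : x = y :=
  sub_eq_zero.1 (S.hinj _ fun n => by rw [map_sub, h, sub_self])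

/-- The limit as a module over the completion. -/
@[reducible] noncomputable def cmodule : Module (AdicCompletion J R) L where
  smul := csmul S
  one_smul x := ext_π S fun n => by
    show S.π n (csmul S 1 x) = _
    rw [π_csmul S 1 x (a := 1) (by rw [map_one, map_one]), one_smul]
  mul_smul r s x := ext_π S fun n => by
    show S.π n (csmul S (r * s) x) = S.π n (csmul S r (csmul S s x))
    rw [π_csmul S (r * s) x (a := rep r n * rep s n) (by rw [map_mul, map_mul, mk_rep, mk_rep]), π_csmul',
      π_csmul', smul_smul]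
  smul_zero r := ext_π S fun n => by
    show S.π n (csmul S r 0) = _
    rw [π_csmul', map_zero, smul_zero]
  smul_add r x y := ext_π S fun n => by
    show S.π n (csmul S r (x + y)) = S.π n (csmul S r x + csmul S r y)
    rw [π_csmul', map_add, map_add, π_csmul', π_csmul', smul_add]
  add_smul r s x := ext_π S fun n => by
    show S.π n (csmul S (r + s) x) = S.π n (csmul S r x + csmul S s x)
    rw [π_csmul S (r + s) x (a := rep r n + rep s n) (by rw [map_add, map_add, mk_rep, mk_rep]), map_add, π_csmul',
      π_csmul', add_smul]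
  zero_smul x := ext_π S fun n => by
    show S.π n (csmul S 0 x) = _
    rw [π_csmul S 0 x (a := 0) (by rw [map_zero, map_zero]), zero_smul, map_zero]

theorem csmul_algebraMap (a : R) (x : L) : csmul S (algebraMap R (AdicCompletion J R) a) x = a • x :=
  ext_π S fun n => (π_csmul S _ x (a := a) (AdicCompletion.evalₐ_of J (n + 1) a).symm).trans (map_smul _ _ _).symm

omit S in
theorem map_pow_le (n : ℕ) : J ^ n ≤ ((J.map (algebraMap R (AdicCompletion J R))) ^ n).comap (algebraMap R _) := by
  rw [← Ideal.map_pow]
  exact Ideal.le_comap_map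

variable [IsNoetherianRing R]

theorem mem_pow_of_π_eq_zero {n : ℕ} {x : L} (hx : S.π n x = 0) :
    letI := cmodule S
    x ∈ (J.map (algebraMap R (AdicCompletion J R))) ^ (n + 1) • (⊤ : Submodule (AdicCompletion J R) L) := by
  letI := cmodule S
  have h : x ∈ J ^ (n + 1) • (⊤ : Submodule R L) := by
    rw [← S.ker_eq_of_fg (IsNoetherian.noetherian J) n]; exact hx
  refine Submodule.smul_induction_on h (fun a ha y _ => ?_) fun y z hy hz => add_mem hy hz
  rw [← csmul_algebraMap S a y]
  exact Submodule.smul_mem_smul (map_pow_le (n + 1) ha) trivial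

omit [IsNoetherianRing R] in
theorem isHausdorff_limit :
    letI := cmodule S
    IsHausdorff (J.map (algebraMap R (AdicCompletion J R))) L := by
  letI := cmodule S
  refine ⟨fun x hx => S.hinj x fun n => ?_⟩
  have h := SModEq.zero.mp (hx (n + 1))
  refine Submodule.smul_induction_on h (fun c hc y _ => ?_) fun y z hy hz => by rw [map_add, hy, hz, add_zero]
  have h0 : AdicCompletion.evalₐ J (n + 1) c = 0 := by
    rw [← Ideal.map_pow] at hc
    have h1 := Ideal.mem_map_of_mem (AdicCompletion.evalₐ J (n + 1)).toRingHom hc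
    rw [Ideal.map_map] at h1
    refine Ideal.mem_bot.1 ((Ideal.map_le_iff_le_comap.2 fun b hb => ?_) h1)
    rw [Ideal.mem_comap, Ideal.mem_bot]
    exact (AdicCompletion.evalₐ_of J (n + 1) b).trans (Ideal.Quotient.eq_zero_iff_mem.2 hb)
  show S.π n (csmul S c y) = 0
  rw [π_csmul S c y (a := 0) (by rw [map_zero, h0]), zero_smul]

/-- The limit of a system of modules of finite type is of finite type over the completion. -/
theorem finite_limit [Module.Finite R (M 0)] :
    letI := cmodule S
    Module.Finite (AdicCompletion J R) L := by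
  letI := cmodule S
  haveI := AdicCompletion.isAdicComplete_self J (IsNoetherian.noetherian J)
  haveI := isHausdorff_limit S
  obtain ⟨r, s, hs⟩ := Module.Finite.exists_fin (R := R) (M := M 0)
  choose x hx using fun i => S.π_surjective 0 (s i)
  have h : span (AdicCompletion J R) (Set.range x) ⊔
      J.map (algebraMap R (AdicCompletion J R)) • (⊤ : Submodule (AdicCompletion J R) L) = ⊤ := by
    rw [eq_top_iff]
    intro y _
    obtain ⟨c, hc⟩ := (Submodule.mem_span_range_iff_exists_fun R).1
      (show S.π 0 y ∈ span R (Set.range s) by rw [hs]; trivial)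
    refine Submodule.mem_sup.2 ⟨∑ i, algebraMap R (AdicCompletion J R) (c i) • x i,
      sum_mem fun i _ => smul_mem _ _ (subset_span ⟨i, rfl⟩), _, ?_, add_sub_cancel _ y⟩
    have h0 := mem_pow_of_π_eq_zero S (n := 0) (x := y - ∑ i, algebraMap R (AdicCompletion J R) (c i) • x i) (by
      rw [map_sub, map_sum, sub_eq_zero, ← hc]
      refine Finset.sum_congr rfl fun i _ => ?_
      show c i • s i = S.π 0 (csmul S _ (x i))
      rw [csmul_algebraMap, map_smul, hx])
    rwa [zero_add, pow_one] at h0
  rw [Module.finite_def, ← span_eq_top_of_sup_smul_eq_top _ x h]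
  exact fg_span (Set.finite_range x)

/-- Submodules over the completion are closed. -/
theorem mem_of_forall_level [Module.Finite R (M 0)] :
    letI := cmodule S
    ∀ (N : Submodule (AdicCompletion J R) L) (y : L), (∀ n, ∃ x ∈ N, S.π n x = S.π n y) → y ∈ N := by
  letI := cmodule S
  intro N y hy
  haveI := finite_limit S
  haveI := AdicCompletion.isAdicComplete_self J (IsNoetherian.noetherian J)
  haveI := isNoetherianRing_adicCompletion J
  let J' := J.map (algebraMap R (AdicCompletion J R))
  have h : N.mkQ y ∈ (⨅ i : ℕ, J' ^ i • ⊤ : Submodule (AdicCompletion J R) (L ⧸ N)) := by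
    refine Submodule.mem_iInf _ |>.2 fun i => ?_
    rcases i with _ | n
    · rw [pow_zero, Ideal.one_eq_top, Submodule.top_smul]; trivial
    obtain ⟨x, hx, hxy⟩ := hy n
    have h1 := Submodule.mem_map_of_mem (f := N.mkQ)
      (mem_pow_of_π_eq_zero S (n := n) (x := y - x) (by rw [map_sub, hxy, sub_self]))
    rw [Submodule.map_smul'', map_sub, show N.mkQ x = 0 from (Submodule.Quotient.mk_eq_zero N).2 hx, sub_zero] at h1
    exact Submodule.smul_mono le_rfl le_top h1
  rw [Ideal.iInf_pow_smul_eq_bot_of_le_jacobson J' (IsAdicComplete.le_jacobson_bot J'), Submodule.mem_bot] at h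
  exact (Submodule.Quotient.mk_eq_zero N).1 h

variable {M' : ℕ → Type v} [∀ n, AddCommGroup (M' n)] [∀ n, Module R (M' n)]
  {L' : Type v} [AddCommGroup L'] [Module R L'] (S' : AdicSystem J M' L')
include S'

omit S in
/-- Linear maps between limits are linear over the completion. -/
theorem map_csmul (S : AdicSystem J M L) (φ : L →ₗ[R] L') (r : AdicCompletion J R) (x : L) :
    φ (csmul S r x) = csmul S' r (φ x) := by
  refine ext_π S' fun n => ?_
  rw [π_csmul', ← map_smul, ← sub_eq_zero, ← map_sub, ← map_smul φ, ← map_sub]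
  have h : csmul S r x - rep r n • x ∈ J ^ (n + 1) • (⊤ : Submodule R L) := by
    rw [← S.ker_eq_of_fg (IsNoetherian.noetherian J) n, LinearMap.mem_ker, map_sub, map_smul, π_csmul', sub_self]
  refine S'.π_eq_zero_of_mem (Nat.lt_succ_self n) ?_
  have h2 := Submodule.mem_map_of_mem (f := φ) h
  rw [Submodule.map_smul''] at h2
  exact Submodule.smul_mono le_rfl le_top h2

/-- The image of a linear map of limits is closed. -/
theorem exists_preimage [Module.Finite R (M' 0)] (φ : L →ₗ[R] L') (y : L')
    (hy : ∀ n, ∃ x, S'.π n (φ x) = S'.π n y) : ∃ x, φ x = y := by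
  letI := cmodule S
  letI := cmodule S'
  let φ' : L →ₗ[AdicCompletion J R] L' :=
    { toFun := φ, map_add' := φ.map_add, map_smul' := fun r x => map_csmul S' S φ r x }
  exact mem_of_forall_level S' (LinearMap.range φ') y fun n =>
    let ⟨x, hx⟩ := hy n
    ⟨φ x, ⟨x, rfl⟩, hx⟩

omit S' in
/-- Artin-Rees: elements killed by a power of `K` and levelwise divisible by a high power vanish. -/
theorem exists_bound [Module.Finite R (M 0)] (K : Ideal R) (t : ℕ) :
    ∃ m : ℕ, ∀ x : L, (∀ a ∈ K ^ t, a • x = 0) → (∀ n, S.π n x ∈ K ^ m • (⊤ : Submodule R (M n))) → x = 0 := by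
  letI := cmodule S
  haveI := finite_limit S
  haveI := isNoetherianRing_adicCompletion J
  let alg := algebraMap R (AdicCompletion J R)
  let K' := K.map alg
  let T : Submodule (AdicCompletion J R) L :=
    { carrier := {x | ∀ b ∈ K' ^ t, b • x = 0}
      add_mem' := fun {x y} hx hy b hb => by rw [smul_add, hx b hb, hy b hb, add_zero]
      zero_mem' := fun b _ => smul_zero b
      smul_mem' := fun c x hx b hb => by rw [smul_comm, hx b hb, smul_zero] }
  obtain ⟨c, hc⟩ := Ideal.exists_pow_inf_eq_pow_smul K' T
  refine ⟨c + t, fun x hx hlev => ?_⟩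
  have hxT : x ∈ T := fun b hb => by
    rw [← Ideal.map_pow] at hb
    refine Submodule.span_induction (p := fun b _ => b • x = 0) ?_ (zero_smul _ x)
      (fun u v _ _ hu hv => by rw [add_smul, hu, hv, add_zero])
      (fun a u _ hu => by rw [smul_eq_mul, mul_smul, hu, smul_zero]) hb
    rintro _ ⟨a, ha, rfl⟩
    exact (csmul_algebraMap S a x).trans (hx a ha)
  have hxK : x ∈ K' ^ (c + t) • (⊤ : Submodule (AdicCompletion J R) L) := by
    refine mem_of_forall_level S _ x fun n => ?_
    have h := hlev n
    rw [← S.π_range n, LinearMap.range_eq_map, ← Submodule.map_smul''] at h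
    obtain ⟨z, hz, hzx⟩ := h
    refine ⟨z, ?_, hzx⟩
    refine Submodule.smul_induction_on hz (fun a ha y _ => ?_) fun y w hy hw => add_mem hy hw
    rw [← csmul_algebraMap S a y, ← Ideal.map_pow]
    exact Submodule.smul_mem_smul (Ideal.mem_map_of_mem _ ha) trivial
  have h2 : x ∈ K' ^ (c + t) • ⊤ ⊓ T := ⟨hxK, hxT⟩
  rw [hc (c + t) (Nat.le_add_right c t), Nat.add_sub_cancel_left] at h2
  refine Submodule.smul_induction_on h2 (fun b hb y hy => hy.2 b hb) fun y z hy hz => by rw [hy, hz, add_zero]

end Groth.Agent.H24GE
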