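import Groth.Agent.H24GE.Mod

/-!
# The Artin-Rees bound for formal modules
-/

set_option autoImplicit false
set_option linter.style.haveILetI false
set_option linter.unusedSectionVars false
universe u v

open CategoryTheory CategoryTheory.Limits AlgebraicGeometry Opposite

namespace Groth.Agent.H24GE

open Groth.Agent.H24Adic

section alg

variable {R : Type u} [CommRing R] {J : Ideal R} {M : ℕ → Type v} [∀ n, AddCommGroup (M n)] [∀ n, Module R (M n)]
  {L : Type v} [AddCommGroup L] [Module R L] (S : AdicSystem J M L)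
include S

theorem π_eq_zero_of_mem_pow {n : ℕ} {x : L} :
    letI := cmodule S
    x ∈ (J.map (algebraMap R (AdicCompletion J R))) ^ (n + 1) • (⊤ : Submodule (AdicCompletion J R) L) →
      S.π n x = 0 := by
  letI := cmodule S
  intro hx
  refine Submodule.smul_induction_on hx (fun c hc y _ => ?_) fun y z hy hz => by rw [map_add, hy, hz, add_zero]
  have h0 : AdicCompletion.evalₐ J (n + 1) c = 0 := by
    rw [← Ideal.map_pow] at hc
    have h1 := Ideal.mem_map_of_mem (AdicCompletion.evalₐ J (n + 1)).toRingHom hc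
    rw [Ideal.map_map] at h1
    refine Ideal.mem_bot.1 ((Ideal.map_le_iff_le_comap.2 fun b hb => ?_) h1)
    rw [Ideal.mem_comap, Ideal.mem_bot]
    exact (AdicCompletion.evalₐ_of J (n + 1) b).trans (Ideal.Quotient.eq_zero_iff_mem.2 hb)
  show S.π n (csmul S c y) = 0
  rw [π_csmul S c y (a := 0) (by rw [map_zero, h0]), zero_smul]

/-- Uniform Artin-Rees: high levels of elements killed by a power of `K` and divisible by a high power. -/
theorem exists_level_bound [IsNoetherianRing R] [Module.Finite R (M 0)] (K : Ideal R) (t : ℕ) :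
    ∃ m d : ℕ, ∀ (N : ℕ) (x : L), (∀ a ∈ K ^ t, S.π (N + d) (a • x) = 0) →
      S.π (N + d) x ∈ K ^ m • (⊤ : Submodule R (M (N + d))) → S.π N x = 0 := by
  classical
  letI := cmodule S
  haveI := finite_limit S
  haveI := isNoetherianRing_adicCompletion J
  let alg := algebraMap R (AdicCompletion J R)
  let K' := K.map alg
  let J' := J.map alg
  let T : Submodule (AdicCompletion J R) L :=
    { carrier := {x | ∀ b ∈ K' ^ t, b • x = 0}
      add_mem' := fun {x y} hx hy b hb => by rw [smul_add, hx b hb, hy b hb, add_zero]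
      zero_mem' := fun b _ => smul_zero b
      smul_mem' := fun c x hx b hb => by rw [smul_comm, hx b hb, smul_zero] }
  obtain ⟨c, hc⟩ := Ideal.exists_pow_inf_eq_pow_smul K' T
  have hinf : ∀ x ∈ K' ^ (c + t) • (⊤ : Submodule (AdicCompletion J R) L) ⊓ T, x = 0 := fun x hx => by
    rw [hc (c + t) (Nat.le_add_right c t), Nat.add_sub_cancel_left] at hx
    refine Submodule.smul_induction_on hx (fun b hb y hy => hy.2 b hb) fun y z hy hz => by rw [hy, hz, add_zero]
  obtain ⟨g, hg⟩ := IsNoetherian.noetherian (K' ^ t)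
  let φ : L →ₗ[AdicCompletion J R] (g → L) := LinearMap.pi fun i => LinearMap.lsmul (AdicCompletion J R) L i.1
  obtain ⟨c₁, hc₁⟩ := exists_pow_range J' φ
  let W := K' ^ (c + t) • (⊤ : Submodule (AdicCompletion J R) L)
  let ψ : T →ₗ[AdicCompletion J R] L ⧸ W := W.mkQ.comp T.subtype
  obtain ⟨c₂, hc₂⟩ := exists_pow_range J' ψ
  refine ⟨c + t, c₂ + c₁, fun N x hkill hdiv => ?_⟩
  let P := N + (c₂ + c₁)
  have hkill' : ∀ b ∈ K' ^ t, b • x ∈ J' ^ (P + 1) • (⊤ : Submodule (AdicCompletion J R) L) := by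
    intro b hb
    rw [← Ideal.map_pow] at hb
    refine Submodule.span_induction
      (p := fun b _ => b • x ∈ J' ^ (P + 1) • (⊤ : Submodule (AdicCompletion J R) L)) ?_
      (by rw [zero_smul]; exact zero_mem _)
      (fun u v _ _ hu hv => by rw [add_smul]; exact add_mem hu hv)
      (fun a u _ hu => by rw [smul_eq_mul, mul_smul]; exact Submodule.smul_mem _ _ hu) hb
    rintro _ ⟨a, ha, rfl⟩
    refine mem_pow_of_π_eq_zero S ?_
    show S.π P (csmul S (alg a) x) = 0
    rw [csmul_algebraMap]
    exact hkill a ha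
  have hφx : φ x ∈ J' ^ (N + c₂ + 1 + c₁) • (⊤ : Submodule (AdicCompletion J R) (g → L)) := by
    rw [← Finset.univ_sum_single (φ x)]
    refine sum_mem fun i _ => ?_
    have h1 := Submodule.mem_map_of_mem (f := LinearMap.single (AdicCompletion J R) (fun _ : g => L) i)
      (hkill' i.1 (hg ▸ Submodule.subset_span i.2))
    rw [Submodule.map_smul''] at h1
    refine Submodule.smul_mono (Ideal.pow_le_pow_right ?_) le_top h1
    omega
  obtain ⟨z, hz, hzx⟩ := hc₁ (N + c₂ + 1) x hφx
  have hT : x - z ∈ T := fun b hb => by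
    rw [← hg] at hb
    refine Submodule.span_induction (p := fun b _ => b • (x - z) = 0) ?_ (zero_smul _ _)
      (fun u v _ _ hu hv => by rw [add_smul, hu, hv, add_zero])
      (fun a u _ hu => by rw [smul_eq_mul, mul_smul, hu, smul_zero]) hb
    intro b hb
    have := congrFun hzx ⟨b, hb⟩
    change b • z = b • x at this
    rw [smul_sub, this, sub_self]
  have hψ : ψ ⟨x - z, hT⟩ ∈ J' ^ (N + 1 + c₂) • (⊤ : Submodule (AdicCompletion J R) (L ⧸ W)) := by
    rw [← S.π_range P, LinearMap.range_eq_map, ← Submodule.map_smul''] at hdiv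
    obtain ⟨y, hy, hyx⟩ := hdiv
    have hyW : y ∈ W := by
      refine Submodule.smul_induction_on hy (fun a ha w _ => ?_) fun u w hu hw => add_mem hu hw
      rw [← csmul_algebraMap S a w]
      refine Submodule.smul_mem_smul ?_ trivial
      rw [← Ideal.map_pow]
      exact Ideal.mem_map_of_mem _ ha
    have h0 : x - y - z ∈ J' ^ (N + 1 + c₂) • (⊤ : Submodule (AdicCompletion J R) L) := by
      refine sub_mem (Submodule.smul_mono (Ideal.pow_le_pow_right (show N + 1 + c₂ ≤ P + 1 by omega)) le_rfl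
        (mem_pow_of_π_eq_zero S ?_)) (Submodule.smul_mono (Ideal.pow_le_pow_right (by omega)) le_rfl hz)
      rw [map_sub, hyx, sub_self]
    have h1 := Submodule.mem_map_of_mem (f := W.mkQ) h0
    rw [Submodule.map_smul'', map_sub, map_sub, show W.mkQ y = 0 from (Submodule.Quotient.mk_eq_zero W).2 hyW,
      sub_zero, ← map_sub] at h1
    exact Submodule.smul_mono le_rfl le_top h1
  obtain ⟨τ, hτ, hτx⟩ := hc₂ (N + 1) ⟨x - z, hT⟩ hψ
  have heq : x - z = (τ : L) := by
    refine sub_eq_zero.1 (hinf _ ⟨?_, sub_mem hT τ.2⟩)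
    exact (Submodule.Quotient.eq W).1 hτx.symm
  refine π_eq_zero_of_mem_pow S ?_
  rw [← sub_add_cancel x z, heq]
  refine add_mem ?_ (Submodule.smul_mono (Ideal.pow_le_pow_right (by omega)) le_rfl hz)
  have h2 := Submodule.mem_map_of_mem (f := T.subtype) hτ
  rw [Submodule.map_smul''] at h2
  exact Submodule.smul_mono le_rfl le_top h2

end alg

open Groth.Agent.H24Formal Groth.Agent.H24Formal.HomC

variable {A : Type u} [CommRing A] {X : Scheme.{u}} [X.Over (Spec (CommRingCat.of A))] [IsNoetherian X] {I : Ideal A}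

theorem eq_zero_on_cover {M N : X.Modules} (hM : Coh.IsQCoh M) (f : M ⟶ N) {ι : Type*} (U : ι → X.Opens)
    (hUa : ∀ j, IsAffineOpen (U j)) (hU : ∀ x, ∃ j, x ∈ U j) (h : ∀ j x, f.app (U j) x = 0) : f = 0 := by
  haveI : Epi (kernel.ι f) := H10Coh.epi_of_surjective_on_cover _ hM U hUa hU fun j =>
    ⟨Set.univ, Submodule.span_univ, fun σ _ => exists_kernel_section f (U j) σ (h j σ)⟩
  rw [← cancel_epi (kernel.ι f), kernel.condition, comp_zero]

/-- A map out of a formal module with kernels killed by `K ^ t` and divisible by a high power of `K` has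
monomorphic limit. -/
theorem exists_mono_bound (hI : I.FG) {F : ℕᵒᵖ ⥤ X.Modules} (hF : Formal.IsCohFormal I F) (K : X.IdealSheafData)
    (t : ℕ) : ∃ m : ℕ, ∀ (T : ℕᵒᵖ ⥤ X.Modules) (α : F ⟶ T), (∀ n, Coh.IsQCoh (T.obj (op n))) →
      (∀ n (V : X.affineOpens) (x : Γ(F.obj (op n), V.1)), (α.app (op n)).app V.1 x = 0 →
        (∀ a ∈ (K ^ t).ideal V, a • x = 0) ∧
          x ∈ (K ^ m).ideal V • (⊤ : Submodule Γ(X, V.1) Γ(F.obj (op n), V.1))) →
      Mono (limMap α) := by
  obtain ⟨r, U, hU, -, hcov⟩ := H10Coh.exists_finite_affine_cover (X := X) (W := ⊤) isCompact_univ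
  have hex : ∀ i, ∃ m d : ℕ, ∀ (N : ℕ) (x : Γ(limit F, U i)),
      (∀ a ∈ K.ideal ⟨U i, hU i⟩ ^ t, (secSys hI hF (hU i)).π (N + d) (a • x) = 0) →
      (secSys hI hF (hU i)).π (N + d) x ∈ K.ideal ⟨U i, hU i⟩ ^ m •
        (⊤ : Submodule Γ(X, U i) Γ(F.obj (op (N + d)), U i)) → (secSys hI hF (hU i)).π N x = 0 := fun i => by
    haveI := isNoetherianRing_sections (hU i)
    haveI := finite_sections' (hF.1 0) (hU i)
    exact exists_level_bound (secSys hI hF (hU i)) _ t
  choose m d hmd using hex
  refine ⟨Finset.univ.sup m, fun T α hT hα => ?_⟩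
  let D := Finset.univ.sup d
  have key : ∀ N : ℕ, kernel.ι (α.app (op (N + D))) ≫ F.map (homOfLE (Nat.le_add_right N D)).op = 0 := by
    intro N
    have hk : Coh.IsQCoh (kernel (α.app (op (N + D)))) := (H10Coh.isCoh_kernel _ (hF.1 _) (hT _)).1
    refine eq_zero_on_cover hk _ U hU (fun x => TopologicalSpace.Opens.mem_iSup.1 (hcov trivial)) fun i z => ?_
    let x := (kernel.ι (α.app (op (N + D)))).app (U i) z
    have hx : (α.app (op (N + D))).app (U i) x = 0 :=
      app_congr (kernel.condition (α.app (op (N + D)))) (U i) z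
    obtain ⟨h1, h2⟩ := hα (N + D) ⟨U i, hU i⟩ x hx
    rw [Scheme.IdealSheafData.ideal_pow, Pi.pow_apply] at h1 h2
    obtain ⟨y, hy⟩ := (secSys hI hF (hU i)).π_surjective (N + D) x
    have hdle : d i ≤ D := Finset.le_sup (Finset.mem_univ i)
    obtain ⟨e, he⟩ := Nat.exists_eq_add_of_le hdle
    show (F.map (homOfLE (Nat.le_add_right N D)).op).app (U i) x = 0
    have hw : ∀ {k l : ℕ} (h : k ≤ l) (q : Γ(limit F, U i)),
        (F.map (homOfLE h).op).app (U i) ((secSys hI hF (hU i)).π l q) = (secSys hI hF (hU i)).π k q := fun h q =>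
      app_congr (limit.w F (homOfLE h).op) (U i) q
    rw [← hy, hw]
    have hz : (secSys hI hF (hU i)).π (N + e) y = 0 := by
      refine hmd i (N + e) y (fun a ha => ?_) ?_
      · rw [← hw (show N + e + d i ≤ N + D by omega), map_smul, hy, h1 a ha, map_zero]
      · rw [← hw (show N + e + d i ≤ N + D by omega), hy]
        have h3 := Submodule.mem_map_of_mem
          (f := appL (F.map (homOfLE (show N + e + d i ≤ N + D by omega)).op) (U i)) h2
        rw [Submodule.map_smul''] at h3
        exact Submodule.smul_mono (Ideal.pow_le_pow_right (Finset.le_sup (Finset.mem_univ i))) le_top h3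
    rw [← hw (Nat.le_add_right N e), hz, map_zero]
  refine Abelian.mono_of_kernel_ι_eq_zero _ (H24Formal.hom_ext_app _ _ fun W s => ?_)
  refine limit_section_ext F W _ _ fun n => ?_
  let y := (kernel.ι (limMap α)).app W s
  have h0 : (α.app (op (n + D))).app W ((limit.π F (op (n + D))).app W y) = 0 :=
    (app_congr (limMap_π α (op (n + D))) W y).symm.trans
      ((congrArg ((limit.π T (op (n + D))).app W) (app_congr (kernel.condition (limMap α)) W s)).trans (map_zero _))
  obtain ⟨z, hz⟩ := exists_kernel_section _ W _ h0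
  show (limit.π F (op n)).app W y = (limit.π F (op n)).app W 0
  rw [map_zero]
  refine (app_congr (limit.w F (homOfLE (Nat.le_add_right n D)).op) W y).symm.trans ?_
  refine (congrArg ((F.map (homOfLE (Nat.le_add_right n D)).op).app W) hz).symm.trans ?_
  exact app_congr (key n) W z

end Groth.Agent.H24GE
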