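import Groth.Agent.H24GE.Killer
import Mathlib.RingTheory.Finiteness.Nakayama

/-!
# Algebraization of formal modules with proper support on quasi-projective schemes
-/

set_option autoImplicit false
set_option linter.style.haveILetI false
set_option linter.unusedSectionVars false
universe u

open CategoryTheory CategoryTheory.Limits AlgebraicGeometry Opposite

namespace Groth.Agent.H24GE

open Groth.Agent.H24Formal Groth.Agent.H24Formal.HomC

theorem properIdeal_ker {X Y S : Scheme.{u}} (f : X ⟶ Y) (g : Y ⟶ S) [IsSeparated g] [LocallyOfFiniteType g]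
    [IsProper (f ≫ g)] : ProperIdeal g f.ker := by
  haveI : IsProper f := IsProper.of_comp f g
  haveI : UniversallyClosed f.toImage := by
    haveI : UniversallyClosed (f.toImage ≫ f.imageι) := by rw [f.toImage_imageι]; infer_instance
    exact UniversallyClosed.of_comp_of_isSeparated f.toImage f.imageι
  haveI : Surjective f.toImage :=
    ⟨Set.range_eq_univ.1 (by
      rw [← f.toImage.denseRange.closure_range, f.toImage.isClosedMap.isClosed_range.closure_eq])⟩
  haveI : IsSeparated (f.imageι ≫ g) := inferInstance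
  haveI : UniversallyClosed (f.toImage ≫ f.imageι ≫ g) := by
    rw [← Category.assoc, f.toImage_imageι]; infer_instance
  haveI : UniversallyClosed (f.imageι ≫ g) := UniversallyClosed.of_comp_surjective f.toImage _
  exact (⟨⟩ : IsProper (f.imageι ≫ g))

theorem killedByIdeal_pushforward {X Y : Scheme.{u}} (f : X ⟶ Y) [QuasiCompact f] {L : X.IdealSheafData}
    {M : X.Modules} (hM : Coh.IsQCoh M) (hk : ClSub.KilledByIdeal L M) :
    ClSub.KilledByIdeal (L.subschemeι ≫ f).ker ((Scheme.Modules.pushforward f).obj M) := by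
  haveI := LeadProper.isIso_unit_of_killedByIdeal M hM L.subschemeι
    (by rw [Scheme.IdealSheafData.ker_subschemeι]; exact hk)
  refine killedByIdeal_of_iso ?_ (killedByIdeal_push (L.subschemeι ≫ f) ((Scheme.Modules.pullback L.subschemeι).obj M))
  exact (Scheme.Modules.pushforward f).mapIso
    (asIso ((Scheme.Modules.pullbackPushforwardAdjunction L.subschemeι).unit.app M)) ≪≫
    (Scheme.Modules.pushforwardComp L.subschemeι f).app _

variable {A : Type u} [CommRing A] {X : Scheme.{u}} [X.Over (Spec (CommRingCat.of A))] {I : Ideal A}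

theorem properIdeal_comap {Y : Scheme.{u}} [Y.Over (Spec (CommRingCat.of A))]
    [LocallyOfFiniteType (Y ↘ Spec (CommRingCat.of A))] [LocallyOfFiniteType (X ↘ Spec (CommRingCat.of A))]
    (f : X ⟶ Y) [IsProper f] (hf : f ≫ (Y ↘ Spec (CommRingCat.of A)) = X ↘ Spec (CommRingCat.of A))
    {L : Y.IdealSheafData} (hL : ProperIdeal (Y ↘ Spec (CommRingCat.of A)) L) :
    ProperIdeal (X ↘ Spec (CommRingCat.of A)) (L.comap f) := by
  rw [properIdeal_iff] at hL ⊢
  rw [Scheme.IdealSheafData.support_comap]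
  exact LeadProper.isProperOver_preimage f hf hL

/-- A point near which a coherent module vanishes modulo the ideal is outside its support. -/
theorem notMem_support_of_mod [IsNoetherian X] [IsNoetherianRing A] {M : X.Modules} (hM : Coh.IsCoh M)
    {V : X.Opens} (hV : IsAffineOpen V) {y : X} (hy : y ∈ V)
    (h0 : ∀ m : Γ(M, V), (Formal.modPowπ I (0 + 1) M).app V m = 0)
    (hyI : ∀ a ∈ I, y ∉ X.basicOpen (scalA A V a)) : y ∉ CohB1.support M := by
  haveI := isNoetherianRing_sections (X := X) hV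
  haveI := finite_sections' hM hV
  have hle : (⊤ : Submodule Γ(X, V) Γ(M, V)) ≤ secIdeal I V • ⊤ := fun m _ => by
    have h1 := (modPowπ_eq_iff (IsNoetherian.noetherian I) hM hV (0 + 1) m 0).1 ((h0 m).trans (map_zero _).symm)
    rwa [sub_zero, zero_add, pow_one] at h1
  obtain ⟨r, hr, hrM⟩ :=
    Submodule.exists_sub_one_mem_and_smul_eq_zero_of_fg_of_le_smul (secIdeal I V) ⊤ Module.Finite.fg_top hle
  letI := TopCat.Presheaf.algebra_section_stalk X.presheaf (⟨y, hy⟩ : V)
  letI := Module.compHom (M.presheaf.stalk y) (algebraMap Γ(X, V) (X.presheaf.stalk y))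
  haveI := hV.isLocalization_stalk ⟨y, hy⟩
  have hmax : secIdeal I V ≤ (IsLocalRing.maximalIdeal (X.presheaf.stalk y)).comap (algebraMap Γ(X, V) (X.presheaf.stalk y)) := by
    refine Ideal.map_le_iff_le_comap.2 fun a ha => ?_
    show algebraMap Γ(X, V) (X.presheaf.stalk y) (scalA A V a) ∈ IsLocalRing.maximalIdeal _
    rw [IsLocalRing.mem_maximalIdeal]
    exact fun hu => hyI a ha ((X.mem_basicOpen _ y hy).2 hu)
  have hru : IsUnit (algebraMap Γ(X, V) (X.presheaf.stalk y) r) := by
    have h1 : algebraMap Γ(X, V) (X.presheaf.stalk y) (r - 1) ∈ IsLocalRing.maximalIdeal _ := hmax hr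
    rw [map_sub, map_one] at h1
    by_contra hc
    have h2 := sub_mem ((IsLocalRing.mem_maximalIdeal _).2 hc) h1
    rw [sub_sub_cancel] at h2
    exact (IsLocalRing.maximalIdeal.isMaximal _).ne_top ((Ideal.eq_top_iff_one _).2 h2)
  haveI := H29Fitt.isLocalizedModule_germLin M hM.1 hV ⟨y, hy⟩
  intro hsupp
  refine hsupp ?_
  rw [IsLocalizedModule.subsingleton_iff (hV.primeIdealOf ⟨y, hy⟩).asIdeal.primeCompl (H29Fitt.germLin M ⟨y, hy⟩)]
  exact fun m => ⟨r, fun hp => (H29Blow.mem_primeIdealOf_iff hV ⟨y, hy⟩ r).1 hp hru, hrM m trivial⟩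

variable [IsNoetherianRing A] [IsAdicComplete I A]

/-- A formal module killed by one ideal sheaf with proper zero locus is algebraic. -/
theorem exists_algebraization_of_killer [IsSeparated (X ↘ Spec (CommRingCat.of A))] [IsLocallyNoetherian X]
    [LocallyOfFiniteType (X ↘ Spec (CommRingCat.of A))] {L : X.IdealSheafData}
    (hL : ProperIdeal (X ↘ Spec (CommRingCat.of A)) L) {G : ℕᵒᵖ ⥤ X.Modules} (hG : Formal.IsCohFormal I G)
    (hk : ∀ n : ℕ, ClSub.KilledByIdeal L (G.obj (op n))) :
    ∃ M : X.Modules, Coh.IsCoh M ∧ ClSub.KilledByIdeal L M ∧ Nonempty (Formal.completion I M ≅ G) := by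
  let f := L.subschemeι
  letI : L.subscheme.Over (Spec (CommRingCat.of A)) := ⟨f ≫ (X ↘ Spec (CommRingCat.of A))⟩
  haveI : IsProper (L.subscheme ↘ Spec (CommRingCat.of A)) := hL
  obtain ⟨M, hM, ⟨e⟩⟩ := algAll_of_isProper I L.subscheme (G ⋙ Scheme.Modules.pullback f)
    (H24Formal.isCohFormal_pullback f rfl I hG)
  haveI := isIso_pushCmp_of_isClosedImmersion f rfl (IsNoetherian.noetherian I) hM
  refine ⟨(Scheme.Modules.pushforward f).obj M, isCoh_pushforward f hM, ?_, ?_⟩
  · have h1 := killedByIdeal_push f M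
    rwa [Scheme.IdealSheafData.ker_subschemeι] at h1
  let η : G ⟶ (G ⋙ Scheme.Modules.pullback f) ⋙ Scheme.Modules.pushforward f :=
    (Functor.rightUnitor G).inv ≫ Functor.whiskerLeft G (Scheme.Modules.pullbackPushforwardAdjunction f).unit ≫
      (Functor.associator G (Scheme.Modules.pullback f) (Scheme.Modules.pushforward f)).inv
  haveI : ∀ j, IsIso (η.app j) := fun j => by
    have h1 := LeadProper.isIso_unit_of_killedByIdeal (G.obj j) (hG.1 j.unop).1 f
      (by rw [Scheme.IdealSheafData.ker_subschemeι]; exact hk j.unop)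
    have h2 : η.app j = (Scheme.Modules.pullbackPushforwardAdjunction f).unit.app (G.obj j) :=
      (Category.id_comp _).trans (Category.comp_id _)
    rw [h2]
    exact h1
  haveI : IsIso η := NatIso.isIso_of_isIso_app _
  exact ⟨asIso (pushCmp f rfl I M) ≪≫ Functor.isoWhiskerRight e (Scheme.Modules.pushforward f) ≪≫ (asIso η).symm⟩

/-- The quasi-projective case. -/
theorem exists_killer_of_immersion [IsSeparated (X ↘ Spec (CommRingCat.of A))] [IsNoetherian X]
    [LocallyOfFiniteType (X ↘ Spec (CommRingCat.of A))] (n : ℕ)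
    (j : X ⟶ CohB1.ProjSpaceOver n (Spec (CommRingCat.of A))) [IsImmersion j]
    (hj : j ≫ CohB1.ProjSpaceOver.toBase n _ = X ↘ Spec (CommRingCat.of A))
    {G : ℕᵒᵖ ⥤ X.Modules} (hG : Formal.IsCohFormal I G) {L₀ : X.IdealSheafData}
    (hL₀ : ProperIdeal (X ↘ Spec (CommRingCat.of A)) L₀) (h0 : ClSub.KilledByIdeal L₀ (G.obj (op 0))) :
    ∃ L : X.IdealSheafData, ProperIdeal (X ↘ Spec (CommRingCat.of A)) L ∧
      ∀ k : ℕ, ClSub.KilledByIdeal L (G.obj (op k)) := by
  obtain ⟨φ, hφ⟩ := H22Alg.PnBC.isPullback_projSpaceOver n A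
  haveI := H27Weil.isProper_toSpec n A
  haveI : IsProper (CohB1.ProjSpaceOver.toBase n (Spec (CommRingCat.of A))) := hφ ▸ inferInstance
  let P := j.image
  letI : P.Over (Spec (CommRingCat.of A)) := ⟨j.imageι ≫ CohB1.ProjSpaceOver.toBase n _⟩
  haveI : IsProper (P ↘ Spec (CommRingCat.of A)) :=
    inferInstanceAs (IsProper (j.imageι ≫ CohB1.ProjSpaceOver.toBase n _))
  haveI : IsLocallyNoetherian P := LocallyOfFiniteType.isLocallyNoetherian (P ↘ Spec (CommRingCat.of A))
  haveI : CompactSpace P := QuasiCompact.compactSpace_of_compactSpace (P ↘ Spec (CommRingCat.of A))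
  haveI : IsNoetherian P := {}
  let o : X ⟶ P := j.toImage
  haveI : IsOpenImmersion o := inferInstanceAs (IsOpenImmersion j.toImage)
  have ho : o ≫ (P ↘ Spec (CommRingCat.of A)) = X ↘ Spec (CommRingCat.of A) := by
    show j.toImage ≫ j.imageι ≫ _ = _
    rw [← Category.assoc, j.toImage_imageι, hj]
  have hT : IsClosed (o '' (L₀.support : Set X)) := by
    haveI : IsProper ((L₀.subschemeι ≫ o) ≫ (P ↘ Spec (CommRingCat.of A))) := by
      rw [Category.assoc, ho]; exact hL₀
    haveI : IsProper (L₀.subschemeι ≫ o) := IsProper.of_comp _ (P ↘ Spec (CommRingCat.of A))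
    have h1 : Set.range (L₀.subschemeι ≫ o) = o '' (L₀.support : Set X) := by
      rw [← Scheme.IdealSheafData.range_subschemeι, ← Set.range_comp]; rfl
    rw [← h1]
    exact (L₀.subschemeι ≫ o).isClosedMap.isClosed_range
  let G' := G ⋙ Scheme.Modules.pushforward o
  have hG' : Formal.IsCohFormal I G' := isCohFormal_push_open o ho (IsNoetherian.noetherian I) hG h0 hT
  obtain ⟨M, hM, ⟨e⟩⟩ := algAll_of_isProper I P G' hG'
  -- the module lives on the open part
  have hsupp : CohB1.support M ⊆ Set.range o := by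
    by_contra hc
    obtain ⟨z, hz, hzo⟩ := Set.not_subset.1 hc
    have hclosed : IsClosed (CohB1.support M ∩ (Set.range o)ᶜ) :=
      (LeadProper.isClosed_support M hM.1 hM.2).inter o.isOpenEmbedding.isOpen_range.isClosed_compl
    obtain ⟨y, ⟨hys, hyo⟩, hycl⟩ := hclosed.exists_closed_singleton ⟨z, hz, hzo⟩
    let p := (P ↘ Spec (CommRingCat.of A)) y
    have hp : IsClosed ({p} : Set (Spec (CommRingCat.of A))) := by
      have := (P ↘ Spec (CommRingCat.of A)).isClosedMap _ hycl
      rwa [Set.image_singleton] at this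
    have hpI : I ≤ p.asIdeal := by
      refine (IsAdicComplete.le_jacobson_bot I).trans (sInf_le ⟨bot_le, ?_⟩)
      exact (PrimeSpectrum.isClosed_singleton_iff_isMaximal p).1 hp
    have hyT : y ∈ (⟨(o '' (L₀.support : Set X))ᶜ, hT.isOpen_compl⟩ : P.Opens) := fun ⟨x, _, hx⟩ => hyo ⟨x, hx⟩
    obtain ⟨V, hV, hle, hyV⟩ := exists_affine_le hyT
    refine notMem_support_of_mod (I := I) hM hV hyV (fun m => ?_) (fun a ha hmem => ?_) hys
    · refine H10Coh.injective_app_of_mono' (e.hom.app (op 0)) V ?_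
      exact (eq_zero_of_disjoint (W := o ⁻¹ᵁ V) h0 (fun x hx hxs => hle hx ⟨x, hxs, rfl⟩) _).trans (map_zero _).symm
    · have hmem' : y ∈ P.basicOpen (Coh.toGlobal (P ↘ Spec (CommRingCat.of A)) a) := by
        have h2 : y ∈ V ⊓ P.basicOpen (Coh.toGlobal (P ↘ Spec (CommRingCat.of A)) a) := by
          rw [← P.basicOpen_res (Coh.toGlobal (P ↘ Spec (CommRingCat.of A)) a) (homOfLE (le_top : V ≤ ⊤)).op]
          exact hmem
        exact h2.2
      have he : (P ↘ Spec (CommRingCat.of A)) ⁻¹ᵁ ((Spec (CommRingCat.of A)).basicOpen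
          ((Scheme.ΓSpecIso (CommRingCat.of A)).inv a)) =
          P.basicOpen (Coh.toGlobal (P ↘ Spec (CommRingCat.of A)) a) :=
        Scheme.preimage_basicOpen _ _
      rw [← he] at hmem'
      have h3 : p ∈ (Spec (CommRingCat.of A)).basicOpen ((Scheme.ΓSpecIso (CommRingCat.of A)).inv a) := hmem'
      rw [basicOpen_eq_of_affine] at h3
      exact h3 (by simpa using hpI ha)
  -- the annihilator
  let L' := Fitt.sheafIdeal M 0
  refine ⟨L'.comap o, ?_, fun k => ?_⟩
  · show IsProper ((L'.comap o).subschemeι ≫ (X ↘ Spec (CommRingCat.of A)))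
    let s : (L'.comap o).subscheme ⟶ L'.subscheme := (L'.comapIso o).hom ≫ pullback.snd o L'.subschemeι
    haveI : IsIso (pullback.snd o L'.subschemeι) := by
      rw [isIso_iff_isOpenImmersion_and_surjective]
      refine ⟨inferInstance, ⟨fun w => ?_⟩⟩
      have : w ∈ Set.range (pullback.snd o L'.subschemeι) := by
        rw [Scheme.Pullback.range_snd]
        refine hsupp ?_
        rw [LeadProper.support_eq_fitt M hM.1 hM.2, ← Scheme.IdealSheafData.range_subschemeι]
        exact ⟨w, rfl⟩
      exact this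
    have h1 : (L'.comap o).subschemeι ≫ (X ↘ Spec (CommRingCat.of A)) =
        s ≫ L'.subschemeι ≫ (P ↘ Spec (CommRingCat.of A)) := by
      rw [← ho, ← Scheme.IdealSheafData.comapIso_hom_fst, Category.assoc, Category.assoc, pullback.condition_assoc]
    rw [h1]
    infer_instance
  · have hk : ClSub.KilledByIdeal L' ((Scheme.Modules.pushforward o).obj (G.obj (op k))) :=
      killedByIdeal_of_iso (e.app (op k)).symm (killedByIdeal_compl hM (LeadProper.killedByIdeal_fitt M hM.1 hM.2) k)
    exact killedByIdeal_of_iso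
      ((Scheme.Modules.restrictFunctorIsoPullback o).symm.app _ ≪≫
        (asIso (Scheme.Modules.restrictAdjunction o).counit).app (G.obj (op k))).symm
      (killedByIdeal_pullback o (hG'.1 k).1 hk)

end Groth.Agent.H24GE
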