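import Groth.Agent.H24GE.Push
import Groth.Agent.LeadProper.Basic

/-!
# Formal modules on closed subschemes

Completion commutes with the direct image along closed immersions, and algebraization on a closed
subscheme gives algebraization for the formal modules killed by its ideal.
-/

set_option autoImplicit false
set_option linter.style.haveILetI false
set_option linter.unusedSectionVars false
universe u

open CategoryTheory CategoryTheory.Limits AlgebraicGeometry Opposite

namespace Groth.Agent.H24GE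

open Groth.Agent.H24Formal Groth.Agent.H24Formal.HomC

/-- Every coherent formal module is the completion of a coherent module. -/
def AlgAll {A : Type u} [CommRing A] (I : Ideal A) (X : Scheme.{u}) [X.Over (Spec (CommRingCat.of A))] : Prop :=
  ∀ G : ℕᵒᵖ ⥤ X.Modules, Formal.IsCohFormal I G →
    ∃ M : X.Modules, Coh.IsCoh M ∧ Nonempty (Formal.completion I M ≅ G)

theorem killedByIdeal_push {X Y : Scheme.{u}} (f : X ⟶ Y) [QuasiCompact f] (M : X.Modules) :
    ClSub.KilledByIdeal f.ker ((Scheme.Modules.pushforward f).obj M) := fun U a ha m => by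
  rw [Scheme.Hom.ker_apply, RingHom.mem_ker] at ha
  let m' : Γ(M, f ⁻¹ᵁ U.1) := m
  show (f.app U.1).hom a • m' = 0
  rw [ha]
  exact zero_smul _ m'

/-- A quasi-coherent morphism bijective on an affine cover is an isomorphism. -/
theorem isIso_of_bijective_affine {X : Scheme.{u}} {M N : X.Modules} (hM : Coh.IsQCoh M) (hN : Coh.IsQCoh N)
    (g : M ⟶ N) (hinj : ∀ V : X.affineOpens, ∀ z, g.app V.1 z = 0 → z = 0)
    (hsurj : ∀ V : X.affineOpens, Function.Surjective (g.app V.1)) : IsIso g := by
  haveI : M.IsQuasicoherent := hM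
  haveI : N.IsQuasicoherent := hN
  have hcov : ∀ x : X, ∃ V : X.affineOpens, x ∈ V.1 := fun x => by
    obtain ⟨V, hV, hxV, -⟩ := exists_isAffineOpen_mem_and_subset (x := x) (U := ⊤) trivial
    exact ⟨⟨V, hV⟩, hxV⟩
  haveI : Epi g := H10Coh.epi_of_surjective_on_cover g hN (fun V : X.affineOpens => V.1) (fun V => V.2) hcov
    fun V => ⟨Set.univ, Submodule.span_univ, fun σ _ => hsurj V σ⟩
  haveI : Mono g := by
    refine Abelian.mono_of_kernel_ι_eq_zero _ ?_
    haveI : Epi (kernel.ι (kernel.ι g)) := H10Coh.epi_of_surjective_on_cover _ (H10Coh.isQuasicoherent_kernel g)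
      (fun V : X.affineOpens => V.1) (fun V => V.2) hcov fun V =>
      ⟨Set.univ, Submodule.span_univ, fun σ _ => exists_kernel_section (kernel.ι g) V.1 σ
        (hinj V _ (app_congr (kernel.condition g) V.1 σ))⟩
    rw [← cancel_epi (kernel.ι (kernel.ι g)), kernel.condition, comp_zero]
  exact isIso_of_mono_of_epi g

variable {A : Type u} [CommRing A] {X Y : Scheme.{u}} [X.Over (Spec (CommRingCat.of A))]
  [Y.Over (Spec (CommRingCat.of A))] [IsLocallyNoetherian Y] (f : X ⟶ Y) [IsClosedImmersion f]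
  (hf : f ≫ (Y ↘ Spec (CommRingCat.of A)) = X ↘ Spec (CommRingCat.of A)) {I : Ideal A}

include hf in
/-- Completion commutes with the direct image along a closed immersion. -/
theorem isIso_pushCmp_of_isClosedImmersion (hI : I.FG) {M : X.Modules} (hM : Coh.IsCoh M) :
    IsIso (pushCmp f hf I M) := by
  haveI : IsLocallyNoetherian X := LocallyOfFiniteType.isLocallyNoetherian f
  have hH := isCoh_pushforward f hM
  haveI : ∀ j : ℕᵒᵖ, IsIso ((pushCmp f hf I M).app j) := fun ⟨n⟩ => by
    have hN := (isCohFormal_compl (I := I) hM).1 n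
    refine isIso_of_bijective_affine ((isCohFormal_compl (I := I) hH).1 n).1 (isCoh_pushforward f hN).1 _
      (fun V z hz => ?_) fun V y => ?_
    · obtain ⟨x, rfl⟩ := surjective_modPowπ I (n + 1) hH V.2 z
      let x' : Γ(M, f ⁻¹ᵁ V.1) := x
      have h1 : (Formal.modPowπ I (n + 1) M).app (f ⁻¹ᵁ V.1) x' = 0 :=
        (pushCmp_app_apply f hf I M n V.1 x).symm.trans hz
      have h2 : x' ∈ secIdeal I (f ⁻¹ᵁ V.1) ^ (n + 1) • (⊤ : Submodule Γ(X, f ⁻¹ᵁ V.1) Γ(M, f ⁻¹ᵁ V.1)) := by
        have h3 := (modPowπ_eq_iff hI hM (V.2.preimage f) (n + 1) x' 0).1 (h1.trans (map_zero _).symm)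
        rwa [sub_zero] at h3
      have hsur : Function.Surjective (f.appLE V.1 (f ⁻¹ᵁ V.1) le_rfl).hom := by
        rw [← Scheme.Hom.app_eq_appLE]
        exact f.app_surjective V.1 V.2
      let up : Γ(M, f ⁻¹ᵁ V.1) → preSec f M V.1 := fun q => q
      have h4 : up x' ∈ secIdeal I V.1 ^ (n + 1) • (⊤ : Submodule Γ(Y, V.1) (preSec f M V.1)) := by
        refine Submodule.smul_induction_on h2 (p := fun q => up q ∈ secIdeal I V.1 ^ (n + 1) •
          (⊤ : Submodule Γ(Y, V.1) (preSec f M V.1))) (fun r hr q _ => ?_) fun p q hp hq => add_mem hp hq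
        rw [← secIdeal_map f hf I (le_rfl : f ⁻¹ᵁ V.1 ≤ f ⁻¹ᵁ V.1), ← Ideal.map_pow] at hr
        obtain ⟨b, hb, rfl⟩ := (Ideal.mem_map_iff_of_surjective _ hsur).1 hr
        rw [← Scheme.Hom.app_eq_appLE]
        exact Submodule.smul_mem_smul hb (Submodule.mem_top (x := up q))
      refine ((modPowπ_eq_iff hI hH V.2 (n + 1) x 0).2 ?_).trans (map_zero _)
      rw [sub_zero]
      exact h4
    · obtain ⟨x, hx⟩ := surjective_modPowπ I (n + 1) hM (V.2.preimage f) y
      exact ⟨_, (pushCmp_app_apply f hf I M n V.1 x).trans hx⟩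
  exact NatIso.isIso_of_isIso_app _

include hf in
/-- Algebraization on a closed subscheme. -/
theorem algKilled_of_algAll [IsNoetherianRing A] [IsAdicComplete I A]
    [IsProper (Y ↘ Spec (CommRingCat.of A))] (h : AlgAll I X) : AlgKilled I f.ker := by
  refine ⟨fun M N hM hN _ _ ψ => existsUnique_hom I hM hN
    ⟨(LeadProper.isClosed_support M hM.1 hM.2).inter (LeadProper.isClosed_support N hN.1 hN.2), inferInstance⟩ ψ,
    fun G hG hk => ?_⟩
  obtain ⟨M, hM, ⟨e⟩⟩ := h (G ⋙ Scheme.Modules.pullback f) (H24Formal.isCohFormal_pullback f hf I hG)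
  have hI : I.FG := IsNoetherian.noetherian I
  haveI := isIso_pushCmp_of_isClosedImmersion f hf hI hM
  refine ⟨(Scheme.Modules.pushforward f).obj M, isCoh_pushforward f hM, killedByIdeal_push f M, ?_⟩
  let η : G ⟶ (G ⋙ Scheme.Modules.pullback f) ⋙ Scheme.Modules.pushforward f :=
    (Functor.rightUnitor G).inv ≫ Functor.whiskerLeft G (Scheme.Modules.pullbackPushforwardAdjunction f).unit ≫
      (Functor.associator G (Scheme.Modules.pullback f) (Scheme.Modules.pushforward f)).inv
  haveI : ∀ j, IsIso (η.app j) := fun j => by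
    have h1 := LeadProper.isIso_unit_of_killedByIdeal (G.obj j) (hG.1 j.unop).1 f (hk j.unop)
    have h2 : η.app j = (Scheme.Modules.pullbackPushforwardAdjunction f).unit.app (G.obj j) :=
      (Category.id_comp _).trans (Category.comp_id _)
    rw [h2]
    exact h1
  haveI : IsIso η := NatIso.isIso_of_isIso_app _
  exact ⟨asIso (pushCmp f hf I M) ≪≫ Functor.isoWhiskerRight e (Scheme.Modules.pushforward f) ≪≫ (asIso η).symm⟩

end Groth.Agent.H24GE
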