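import Groth.Agent.H24GE.Bound
import Groth.Agent.H24Formal.Torsion
import Groth.Agent.H24Formal.OfIso

/-!
# Formal submodules of completions
-/

set_option autoImplicit false
set_option linter.style.haveILetI false
set_option linter.unusedSectionVars false
universe u

open CategoryTheory CategoryTheory.Limits AlgebraicGeometry Opposite

namespace Groth.Agent.H24GE

open Groth.Agent.H24Formal Groth.Agent.H24Formal.HomC

variable {A : Type u} [CommRing A] {X : Scheme.{u}} [X.Over (Spec (CommRingCat.of A))] [IsLocallyNoetherian X]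
  {I : Ideal A}

theorem hom_ext_of_limMap (hI : I.FG) {F G : ℕᵒᵖ ⥤ X.Modules} (hF : Formal.IsCohFormal I F)
    (hG : Formal.IsCohFormal I G) {f g : F ⟶ G} (e : limMap f = limMap g) : f = g :=
  (existsUnique_of_limit hI hF hG (limMap g)).unique e rfl

theorem hom_ext_of_mono (hI : I.FG) {F G H : ℕᵒᵖ ⥤ X.Modules} (hF : Formal.IsCohFormal I F)
    (hG : Formal.IsCohFormal I G) {f g : F ⟶ G} (v : G ⟶ H) [Mono (limMap v)] (e : f ≫ v = g ≫ v) : f = g :=
  hom_ext_of_limMap hI hF hG ((cancel_mono (limMap v)).1 (by rw [← limMap_comp', ← limMap_comp', e]))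

theorem complMap_w {S : ShortComplex X.Modules} :
    limMap (complMap I S.f) ≫ limMap (complMap I S.g) = 0 := by
  rw [← limMap_comp', ← complMap_comp, S.zero, complMap_zero, limMap_zero']

/-- Maps into a completion killed by `g` lift to the completion of the kernel. -/
theorem exists_lift (hI : I.FG) {S : ShortComplex X.Modules} (hS : S.Exact) [Mono S.f] (h₁ : Coh.IsCoh S.X₁)
    (h₂ : Coh.IsCoh S.X₂) (h₃ : Coh.IsCoh S.X₃) {F : ℕᵒᵖ ⥤ X.Modules} (hF : Formal.IsCohFormal I F)
    (ψ : F ⟶ Formal.completion I S.X₂) (h : ψ ≫ complMap I S.g = 0) :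
    ∃ β : F ⟶ Formal.completion I S.X₁, β ≫ complMap I S.f = ψ := by
  haveI := mono_lim_complMap (I := I) hI h₁ h₂ S.f
  have he := exact_lim_complMap hI hS h₁ h₂ h₃ complMap_w
  haveI : Mono (ShortComplex.mk _ _ (complMap_w (I := I) (S := S))).f := ‹Mono (limMap (complMap I S.f))›
  have hw : limMap ψ ≫ limMap (complMap I S.g) = 0 := by rw [← limMap_comp', h, limMap_zero']
  obtain ⟨β, hβ, -⟩ := existsUnique_of_limit hI hF (isCohFormal_compl h₁) (he.lift (limMap ψ) hw)
  refine ⟨β, hom_ext_of_limMap hI hF (isCohFormal_compl h₂) ?_⟩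
  rw [limMap_comp', hβ]
  exact he.lift_f _ _

theorem exists_iso_of_kernels {D : Type*} [Category D] [Abelian D] {P₁ P₂ M Q : D} {a : P₁ ⟶ M} {b : P₂ ⟶ M}
    {g : M ⟶ Q} {w₁ : a ≫ g = 0} {w₂ : b ≫ g = 0} (h₁ : (ShortComplex.mk a g w₁).Exact)
    (h₂ : (ShortComplex.mk b g w₂).Exact) [Mono a] [Mono b] : ∃ f : P₁ ≅ P₂, f.hom ≫ b = a := by
  haveI : Mono (ShortComplex.mk a g w₁).f := ‹Mono a›
  haveI : Mono (ShortComplex.mk b g w₂).f := ‹Mono b›
  exact ⟨IsLimit.conePointUniqueUpToIso h₁.fIsKernel h₂.fIsKernel,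
    IsLimit.conePointUniqueUpToIso_hom_comp h₁.fIsKernel h₂.fIsKernel WalkingParallelPair.zero⟩

theorem epi_of_kernels {D : Type*} [Category D] [Abelian D] {P₁ P₂ M Q : D} {a : P₁ ⟶ M} {b : P₂ ⟶ M}
    {g : M ⟶ Q} {w₁ : a ≫ g = 0} {w₂ : b ≫ g = 0} (h₁ : (ShortComplex.mk a g w₁).Exact)
    (h₂ : (ShortComplex.mk b g w₂).Exact) [Mono b] (β : P₁ ⟶ P₂) (hβ : β ≫ b = a) : Epi β := by
  haveI : Epi (kernel.lift g b w₂) := (ShortComplex.exact_iff_epi_kernel_lift _).1 h₂
  haveI : Mono (kernel.lift g b w₂) := mono_of_mono_fac (kernel.lift_ι _ _ w₂)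
  haveI : IsIso (kernel.lift g b w₂) := isIso_of_mono_of_epi _
  haveI : Epi (kernel.lift g a w₁) := (ShortComplex.exact_iff_epi_kernel_lift _).1 h₁
  have hfac : β ≫ kernel.lift g b w₂ = kernel.lift g a w₁ := by
    rw [← cancel_mono (kernel.ι g), Category.assoc, kernel.lift_ι, kernel.lift_ι, hβ]
  rw [show β = kernel.lift g a w₁ ≫ inv (kernel.lift g b w₂) by
    rw [← hfac, Category.assoc, IsIso.hom_inv_id, Category.comp_id]]
  infer_instance

variable {H C : X.Modules} {F : ℕᵒᵖ ⥤ X.Modules}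

/-- A levelwise exact sequence presents the formal module as a completion. -/
theorem main (hI : I.FG) (hH : Coh.IsCoh H) (hC : Coh.IsCoh C) (u : H ⟶ C) (hF : Formal.IsCohFormal I F)
    (α : F ⟶ Formal.completion I H) [Mono (limMap α)]
    (w : ∀ n, α.app (op n) ≫ (complMap I u).app (op n) = 0) (h : ∀ n, (ShortComplex.mk _ _ (w n)).Exact) :
    ∃ e : F ≅ Formal.completion I (kernel u), e.hom ≫ complMap I (kernel.ι u) = α := by
  have hK := H10Coh.isCoh_kernel u hH hC.1
  have w' : α ≫ complMap I u = 0 := by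
    ext j : 2
    exact w j.unop
  have wl : limMap α ≫ limMap (complMap I u) = 0 := by rw [← limMap_comp', w', limMap_zero']
  have e1 := exact_lim hI hF (isCohFormal_compl hH) α (complMap I u) wl w h
  let S := ShortComplex.mk (kernel.ι u) u (kernel.condition u)
  have hS : S.Exact := ShortComplex.exact_of_f_is_kernel S (kernelIsKernel u)
  haveI : Mono S.f := inferInstanceAs (Mono (kernel.ι u))
  haveI := mono_lim_complMap (I := I) hI hK hH (kernel.ι u)
  have e2 := exact_lim_complMap hI hS hK hH hC complMap_w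
  obtain ⟨f, hf⟩ := exists_iso_of_kernels e1 e2
  obtain ⟨e, he⟩ := exists_iso_of_limit hI hF (isCohFormal_compl hK) f
  refine ⟨e, hom_ext_of_limMap hI hF (isCohFormal_compl hH) ?_⟩
  rw [limMap_comp', he, hf]

/-- The lift to the completion of the kernel of a levelwise exact sequence is levelwise epimorphic. -/
theorem epi_lift (hI : I.FG) (hH : Coh.IsCoh H) (hC : Coh.IsCoh C) (φ : H ⟶ C) (hF : Formal.IsCohFormal I F)
    (α : F ⟶ Formal.completion I H)
    (w : ∀ n, α.app (op n) ≫ (complMap I φ).app (op n) = 0) (h : ∀ n, (ShortComplex.mk _ _ (w n)).Exact)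
    (β : F ⟶ Formal.completion I (kernel φ)) (hβ : β ≫ complMap I (kernel.ι φ) = α) :
    ∀ n, Epi (β.app (op n)) := by
  have hK := H10Coh.isCoh_kernel φ hH hC.1
  have w' : α ≫ complMap I φ = 0 := by
    ext j : 2
    exact w j.unop
  have wl : limMap α ≫ limMap (complMap I φ) = 0 := by rw [← limMap_comp', w', limMap_zero']
  have e1 := exact_lim hI hF (isCohFormal_compl hH) α (complMap I φ) wl w h
  let S := ShortComplex.mk (kernel.ι φ) φ (kernel.condition φ)
  have hS : S.Exact := ShortComplex.exact_of_f_is_kernel S (kernelIsKernel φ)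
  haveI : Mono S.f := inferInstanceAs (Mono (kernel.ι φ))
  haveI := mono_lim_complMap (I := I) hI hK hH (kernel.ι φ)
  have e2 := exact_lim_complMap hI hS hK hH hC complMap_w
  have hl : Epi (limMap β) := epi_of_kernels e1 e2 (limMap β) (by rw [← limMap_comp', hβ])
  intro n
  have hK' := isCohFormal_compl (I := I) hK
  haveI := hl
  haveI := epi_limit_π (Formal.completion I (kernel φ)) (fun k => (hK'.1 k).1)
    (epi_map_succ ⟨fun k => (hK'.1 k).1, hK'.2.1, hK'.2.2⟩) n
  haveI : Epi (limit.π F (op n) ≫ β.app (op n)) := by rw [← limMap_π]; infer_instance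
  exact epi_of_epi (limit.π F (op n)) (β.app (op n))

/-- Criterion for a quotient of a formal module to be formal. -/
theorem isCohFormal_of_epi {G Q : ℕᵒᵖ ⥤ X.Modules} (hG : Formal.IsCohFormal I G) (η : G ⟶ Q)
    (hcoh : ∀ n, Coh.IsCoh (Q.obj (op n))) (hη : ∀ n, Epi (η.app (op n)))
    (hfac : ∀ (n : ℕ) (g : G.obj (op n) ⟶ cokernel (Formal.smulFamily (I ^ (n + 1)) (Q.obj (op (n + 1))))),
      G.map (homOfLE (Nat.le_succ n)).op ≫ g = η.app (op (n + 1)) ≫ cokernel.π _ → ∃ g', η.app (op n) ≫ g' = g) :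
    Formal.IsCohFormal I Q := by
  have hk : ∀ n, Formal.KilledBy (I ^ (n + 1)) (Q.obj (op n)) := fun n a ha => by
    haveI := hη n
    rw [← cancel_epi (η.app (op n)), ← smulMod_comm, hG.2.1 n a ha, zero_comp, comp_zero]
  refine ⟨hcoh, hk, fun n => ?_⟩
  let p := cokernel.π (Formal.smulFamily (I ^ (n + 1)) (Q.obj (op (n + 1))))
  obtain ⟨g, hg⟩ := (epi_and_factor hG (Nat.le_succ n)).2 (η.app (op (n + 1)) ≫ p)
    (smulFamily_comp_eq_zero _ (killedBy_cokernel _ _))
  obtain ⟨g', hg'⟩ := hfac n g hg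
  have hz := smulFamily_comp_eq_zero (Q.map (homOfLE (Nat.le_succ n)).op) (hk n)
  refine ⟨hz, g', ?_, ?_⟩
  · refine coequalizer.hom_ext ?_
    haveI := hη (n + 1)
    refine (cancel_epi (η.app (op (n + 1)))).1 ?_
    refine (congrArg (η.app (op (n + 1)) ≫ ·) (cokernel.π_desc_assoc _ _ _ _)).trans ?_
    rw [← Category.assoc, ← η.naturality, Category.assoc, hg', hg]
    exact congrArg (η.app (op (n + 1)) ≫ ·) (Category.comp_id _).symm
  · haveI := hη n
    haveI := (epi_and_factor hG (Nat.le_succ n)).1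
    rw [← cancel_epi (η.app (op n)), ← cancel_epi (G.map (homOfLE (Nat.le_succ n)).op), ← Category.assoc (η.app _),
      hg', ← Category.assoc, hg, Category.assoc, cokernel.π_desc, Category.comp_id]
    exact (η.naturality _).symm

/-- The system of cokernels. -/
noncomputable def cokSys {F G : ℕᵒᵖ ⥤ X.Modules} (α : F ⟶ G) : ℕᵒᵖ ⥤ X.Modules :=
  Functor.ofOpSequence (X := fun n => cokernel (α.app (op n))) fun n =>
    cokernel.map _ _ (F.map (homOfLE (Nat.le_succ n)).op) (G.map (homOfLE (Nat.le_succ n)).op) (α.naturality _).symm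

/-- The projection onto the system of cokernels. -/
noncomputable def cokSysπ {F G : ℕᵒᵖ ⥤ X.Modules} (α : F ⟶ G) : G ⟶ cokSys α :=
  NatTrans.ofOpSequence (fun n => cokernel.π (α.app (op n))) fun n => by
    simp only [cokSys, Functor.ofOpSequence_map_homOfLE_succ]
    exact (cokernel.π_desc _ _ _).symm

theorem cokSysπ_app {F G : ℕᵒᵖ ⥤ X.Modules} (α : F ⟶ G) (n : ℕ) :
    (cokSysπ α).app (op n) = cokernel.π (α.app (op n)) := rfl

theorem isCohFormal_cokSys {F G : ℕᵒᵖ ⥤ X.Modules} (hF : Formal.IsCohFormal I F) (hG : Formal.IsCohFormal I G)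
    (α : F ⟶ G) : Formal.IsCohFormal I (cokSys α) := by
  refine isCohFormal_of_epi hG (cokSysπ α) (fun n => H10Coh.isCoh_cokernel (α.app (op n)) (hF.1 n).1 (hG.1 n))
    (fun n => inferInstanceAs (Epi (cokernel.π (α.app (op n))))) fun n g hg => ?_
  refine ⟨cokernel.desc _ g ?_, cokernel.π_desc _ _ _⟩
  haveI := (epi_and_factor hF (Nat.le_succ n)).1
  rw [← cancel_epi (F.map (homOfLE (Nat.le_succ n)).op), comp_zero, ← Category.assoc, α.naturality, Category.assoc,
    hg]
  refine (Category.assoc _ _ _).symm.trans ?_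
  rw [show α.app (op (n + 1)) ≫ (cokSysπ α).app (op (n + 1)) = 0 from cokernel.condition _, zero_comp]

/-- The system of truncations modulo an ideal sheaf. -/
noncomputable def qmSys (K : X.IdealSheafData) (F : ℕᵒᵖ ⥤ X.Modules) : ℕᵒᵖ ⥤ X.Modules := F ⋙ qm K

/-- The projection onto the truncations modulo an ideal sheaf. -/
noncomputable def qmSysη (K : X.IdealSheafData) (F : ℕᵒᵖ ⥤ X.Modules) : F ⟶ qmSys K F where
  app j := qmη K (F.obj j)
  naturality _ _ f := qmη_naturality K (F.map f)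

theorem isCohFormal_qmSys (K : X.IdealSheafData) (hF : Formal.IsCohFormal I F) :
    Formal.IsCohFormal I (qmSys K F) :=
  isCohFormal_of_epi hF (qmSysη K F) (fun n => isCoh_qm K (hF.1 n)) (fun n => epi_qmη K (hF.1 n).1) fun n g _ => by
    refine exists_qm_desc K (H10Coh.isCoh_cokernel _ ?_ (isCoh_qm K (hF.1 (n + 1)))).1 ?_ g
    · exact H10Coh.isQuasicoherent_coproduct _ fun _ => isQCoh_qm K (hF.1 (n + 1)).1
    · exact @killedByIdeal_of_epi _ _ _ _ (isQCoh_qm K (hF.1 (n + 1)).1)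
        (H10Coh.isCoh_cokernel (Formal.smulFamily (I ^ (n + 1)) ((qmSys K F).obj (op (n + 1))))
          (H10Coh.isQuasicoherent_coproduct _ fun _ => isQCoh_qm K (hF.1 (n + 1)).1)
          (isCoh_qm K (hF.1 (n + 1)))).1 (cokernel.π _) coequalizer.π_epi (killed_qm K _)

/-- Sections killed by the map of truncations come from the image. -/
theorem exists_app_complMap {M N : X.Modules} (f : M ⟶ N) (hI : I.FG) (hM : Coh.IsCoh M) (hN : Coh.IsCoh N)
    {P : X.Modules} (hP : Coh.IsCoh P) (g : N ⟶ P) [Epi g] (w : f ≫ g = 0) (hex : (ShortComplex.mk f g w).Exact)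
    {V : X.Opens} (hV : IsAffineOpen V) (n : ℕ) (y : Γ((Formal.completion I N).obj (op n), V))
    (hy : ((complMap I g).app (op n)).app V y = 0) :
    ∃ x : Γ(M, V), ((complMap I f).app (op n)).app V ((Formal.modPowπ I (n + 1) M).app V x) = y := by
  haveI : N.IsQuasicoherent := hN.1
  haveI : P.IsQuasicoherent := hP.1
  obtain ⟨y₀, hy₀⟩ := surjective_modPowπ I (n + 1) hN hV y
  have h0 : (Formal.modPowπ I (n + 1) P).app V (g.app V y₀) = (Formal.modPowπ I (n + 1) P).app V 0 :=
    ((app_congr (π_complMap I g n) V y₀).symm.trans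
      ((congrArg (((complMap I g).app (op n)).app V) hy₀).trans hy)).trans (map_zero _).symm
  rw [modPowπ_eq_iff hI hP hV, sub_zero] at h0
  have hsur : LinearMap.range (appL g V) = ⊤ := LinearMap.range_eq_top.2 (H10Coh.surjective_app_of_epi g hV)
  rw [← hsur, LinearMap.range_eq_map, ← Submodule.map_smul''] at h0
  obtain ⟨z, hz, hzy⟩ := h0
  obtain ⟨x, hx⟩ := exists_app_eq hex hM.1 hN.1 hV (y₀ - z) (by
    show appL g V (y₀ - z) = 0
    rw [map_sub, hzy, appL_apply, sub_self])
  refine ⟨x, ?_⟩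
  refine (app_congr (π_complMap I f n) V x).trans ?_
  show (Formal.modPowπ I (n + 1) N).app V (f.app V x) = y
  rw [show f.app V x = y₀ - z from hx, ← show (Formal.modPowπ I (n + 1) N).app V y₀ = y from hy₀,
    modPowπ_eq_iff hI hN hV, sub_sub_cancel_left]
  exact neg_mem hz

end Groth.Agent.H24GE
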