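import Groth.Agent.H24GE.Closed
import Groth.Agent.H22Alg.PnBC
import Groth.Agent.S0025
import Groth.Agent.S0061
import Groth.Agent.S4362

/-!
# Grothendieck's existence theorem for proper schemes
-/

set_option autoImplicit false
set_option linter.style.haveILetI false
set_option linter.unusedSectionVars false
universe u

open CategoryTheory CategoryTheory.Limits AlgebraicGeometry Opposite

namespace Groth.Agent.H24GE

open Groth.Agent.H24Formal Groth.Agent.H24Formal.HomC

variable {A : Type u} [CommRing A] [IsNoetherianRing A] (I : Ideal A) [IsAdicComplete I A]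

theorem algAll_of_isEmpty (X : Scheme.{u}) [X.Over (Spec (CommRingCat.of A))] [IsEmpty X] : AlgAll I X := fun G hG => by
  have hz : ∀ M : X.Modules, IsZero M := fun M =>
    (IsZero.iff_id_eq_zero M).2 (H24Formal.hom_ext_app _ _ fun U s =>
      H11Tilde.eq_of_locally _ _ fun x _ => isEmptyElim x)
  exact ⟨G.obj (op 0), hG.1 0, ⟨NatIso.ofComponents (fun j => (hz _).iso (hz _)) fun _ => (hz _).eq_of_src _ _⟩⟩

/-- The projective case. -/
theorem algAll_of_immersion (X : Scheme.{u}) [X.Over (Spec (CommRingCat.of A))]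
    [IsProper (X ↘ Spec (CommRingCat.of A))] (n : ℕ) (j : X ⟶ CohB1.ProjSpaceOver n (Spec (CommRingCat.of A)))
    [IsImmersion j] (hj : j ≫ CohB1.ProjSpaceOver.toBase n _ = X ↘ Spec (CommRingCat.of A)) : AlgAll I X := by
  obtain ⟨φ, hφ⟩ := H22Alg.PnBC.isPullback_projSpaceOver n A
  haveI := H27Weil.isProper_toSpec n A
  let k : X ⟶ CohB1.ProjSpace n A := j ≫ φ.hom
  have hk : k ≫ CohB1.ProjSpace.toSpec n A = X ↘ Spec (CommRingCat.of A) := by
    rw [Category.assoc, hφ, hj]
  haveI : UniversallyClosed k := by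
    haveI : UniversallyClosed (k ≫ CohB1.ProjSpace.toSpec n A) := hk ▸ inferInstance
    exact UniversallyClosed.of_comp_of_isSeparated k (CohB1.ProjSpace.toSpec n A)
  haveI : IsImmersion k := inferInstanceAs (IsImmersion (j ≫ φ.hom))
  haveI : IsClosedImmersion k := IsClosedImmersion.of_isPreimmersion k k.isClosedMap.isClosed_range
  exact fun G hG => S0061.result A I n X k hk G hG

theorem notMem_support_pow {X : Scheme.{u}} (K : X.IdealSheafData) {z : X} (hz : z ∉ K.support) (e : ℕ) :
    z ∉ (K ^ e).support := fun h => by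
  obtain ⟨V, hV, hzV, -⟩ := exists_isAffineOpen_mem_and_subset (x := z) (U := ⊤) trivial
  have h1 : z ∈ ((K ^ e).support : Set X) ∩ V := ⟨h, hzV⟩
  rw [Scheme.IdealSheafData.coe_support_inter _ ⟨V, hV⟩] at h1
  refine hz ?_
  have h2 : z ∈ (X.zeroLocus (U := V) (K.ideal ⟨V, hV⟩)) ∩ (V : Set X) := by
    refine ⟨(Scheme.mem_zeroLocus_iff X _ z).2 fun a ha hza => ?_, hzV⟩
    have hpow : a ^ e ∈ (K ^ e).ideal ⟨V, hV⟩ := by
      rw [Scheme.IdealSheafData.ideal_pow, Pi.pow_apply]
      exact Ideal.pow_mem_pow ha e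
    refine (Scheme.mem_zeroLocus_iff X _ z).1 h1.1 (a ^ e) hpow ?_
    rw [Scheme.mem_basicOpen _ _ z hzV, map_pow]
    exact ((Scheme.mem_basicOpen _ _ z hzV).1 hza).pow e
  rw [← K.coe_support_inter ⟨V, hV⟩] at h2
  exact h2.1

/-- Every coherent formal module on a proper scheme over a complete Noetherian ring is algebraic. -/
theorem algAll_of_isProper (X : Scheme.{u}) [X.Over (Spec (CommRingCat.of A))]
    [IsProper (X ↘ Spec (CommRingCat.of A))] : AlgAll I X := by
  haveI : IsLocallyNoetherian X := LocallyOfFiniteType.isLocallyNoetherian (X ↘ Spec (CommRingCat.of A))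
  haveI : CompactSpace X := QuasiCompact.compactSpace_of_compactSpace (X ↘ Spec (CommRingCat.of A))
  haveI : IsNoetherian X := {}
  haveI := S4362.result X
  suffices h : ∀ (K : X.IdealSheafData) (Z : Scheme.{u}) [Z.Over (Spec (CommRingCat.of A))] (i : Z ⟶ X)
      [IsClosedImmersion i], i ≫ (X ↘ Spec (CommRingCat.of A)) = Z ↘ Spec (CommRingCat.of A) → i.ker = K →
      AlgAll I Z from h _ X (𝟙 X) (Category.id_comp _) rfl
  intro K
  induction K using WellFoundedGT.induction with
  | _ K ih =>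
  intro Z _ i _ hi hK
  haveI : IsProper (Z ↘ Spec (CommRingCat.of A)) := hi ▸ inferInstance
  haveI : IsLocallyNoetherian Z := LocallyOfFiniteType.isLocallyNoetherian i
  haveI : CompactSpace Z := QuasiCompact.compactSpace_of_compactSpace i
  haveI : IsNoetherian Z := {}
  rcases isEmpty_or_nonempty Z with hZ | hZ
  · exact algAll_of_isEmpty I Z
  obtain ⟨n, Z', π, j, hj, hjS, hπ, -, U, hU, hiso⟩ := S0025.result (Z ↘ Spec (CommRingCat.of A))
  haveI := hπ
  letI : Z'.Over (Spec (CommRingCat.of A)) := ⟨π ≫ (Z ↘ Spec (CommRingCat.of A))⟩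
  haveI : IsProper (Z' ↘ Spec (CommRingCat.of A)) :=
    inferInstanceAs (IsProper (π ≫ (Z ↘ Spec (CommRingCat.of A))))
  have hAll : AlgAll I Z' := algAll_of_immersion I Z' n j hjS
  intro G hG
  obtain ⟨F, hF, ⟨e⟩⟩ := hAll (G ⋙ Scheme.Modules.pullback π) (H24Formal.isCohFormal_pullback π rfl I hG)
  let K' : Z.IdealSheafData :=
    Scheme.IdealSheafData.vanishingIdeal ⟨(U : Set Z)ᶜ, U.2.isClosed_compl⟩
  have hsupp : (K'.support : Set Z) = (U : Set Z)ᶜ := Scheme.IdealSheafData.coe_support_vanishingIdeal _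
  have hc : K'.support.compl = U := TopologicalSpace.Opens.ext (by
    show (K'.support : Set Z)ᶜ = U
    rw [hsupp, compl_compl])
  have hiso' : IsIso (π ∣_ K'.support.compl) := by rw [hc]; exact hiso
  obtain ⟨α, hα⟩ := push_pull π rfl K' hiso' hF hG e.symm
  obtain ⟨z, hz⟩ := hU.nonempty
  have hKilled : ∀ d, AlgKilled I (K' ^ d) := fun d => by
    let W := (K' ^ d).subscheme
    let w := (K' ^ d).subschemeι
    letI : W.Over (Spec (CommRingCat.of A)) := ⟨w ≫ (Z ↘ Spec (CommRingCat.of A))⟩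
    have hlt : K < (w ≫ i).ker := by
      rw [← hK]
      refine lt_of_le_of_ne (w.le_ker_comp i) fun h => ?_
      have hs := congrArg (fun L => (L.support : Set X)) h
      simp only [Scheme.Hom.support_ker] at hs
      have h1 : i z ∈ closure (Set.range (w ≫ i)) := hs ▸ subset_closure ⟨z, rfl⟩
      rw [(w ≫ i).isClosedEmbedding.isClosed_range.closure_eq] at h1
      obtain ⟨y, hy⟩ := h1
      have h2 : w y = z := i.isClosedEmbedding.injective hy
      refine notMem_support_pow K' (fun h3 => ?_) d (?_ : z ∈ (K' ^ d).support)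
      · exact (hsupp.subset h3) hz
      · rw [← h2, ← SetLike.mem_coe, ← Scheme.IdealSheafData.range_subschemeι]
        exact ⟨y, rfl⟩
    have hW : AlgAll I W := ih (w ≫ i).ker hlt W (w ≫ i) (by rw [Category.assoc, hi]; rfl) rfl
    have h3 := algKilled_of_algAll w rfl hW
    rwa [Scheme.IdealSheafData.ker_subschemeι] at h3
  obtain ⟨F', a, β, hF', -, -⟩ := left' (isCoh_pushforward π hF) hG α K' hKilled hα
  exact ⟨F', hF', ⟨β.symm⟩⟩

end Groth.Agent.H24GE
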