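import Groth.Agent.H24GE.Congr

/-!
# Maps between completions of coherent modules, one of which is torsion
-/

set_option autoImplicit false
set_option linter.style.haveILetI false
set_option linter.unusedSectionVars false
universe u

open CategoryTheory CategoryTheory.Limits AlgebraicGeometry Opposite

namespace Groth.Agent.H24GE

open Groth.Agent.H24Formal Groth.Agent.H24Formal.HomC

variable {A : Type u} [CommRing A] {X : Scheme.{u}} [X.Over (Spec (CommRingCat.of A))] [IsNoetherian X] {I : Ideal A}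

theorem exists_complMap_eq_of_killed_target {e : ℕ} {M N : X.Modules} (hk : Formal.KilledBy (I ^ e) N)
    (ψ : Formal.completion I M ⟶ Formal.completion I N) : ∃ φ : M ⟶ N, complMap I φ = ψ := by
  obtain ⟨ν, -, hν⟩ := (isIso_modPowπ hk (Nat.le_succ e)).out
  let φ := Formal.modPowπ I (e + 1) M ≫ ψ.app (op e) ≫ ν
  have he : (complMap I φ).app (op e) = ψ.app (op e) := by
    refine (cancel_epi (Formal.modPowπ I (e + 1) M)).1 ((π_complMap I φ e).trans ?_)
    refine (Category.assoc _ _ _).trans (congrArg (Formal.modPowπ I (e + 1) M ≫ ·) ?_)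
    exact (Category.assoc _ _ _).trans ((congrArg (ψ.app (op e) ≫ ·) hν).trans (Category.comp_id _))
  refine ⟨φ, complMap_ext I fun n => congrArg (Formal.modPowπ I (n + 1) M ≫ ·) ?_⟩
  have hen : e ≤ e + n := Nat.le_add_right e n
  have hmono : Mono ((Formal.completion I N).map (homOfLE hen).op) := by
    haveI := isIso_modPowπ hk (show e ≤ e + n + 1 by omega)
    haveI : IsIso (Formal.modPowπ I (e + n + 1) N ≫ (Formal.completion I N).map (homOfLE hen).op) := by
      rw [modPowπ_map I N hen]; exact isIso_modPowπ hk (Nat.le_succ e)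
    haveI : IsIso ((Formal.completion I N).map (homOfLE hen).op) :=
      IsIso.of_isIso_comp_left (Formal.modPowπ I (e + n + 1) N) _
    infer_instance
  have htop : (complMap I φ).app (op (e + n)) = ψ.app (op (e + n)) := by
    refine (cancel_mono ((Formal.completion I N).map (homOfLE hen).op)).1 ?_
    rw [← NatTrans.naturality, ← NatTrans.naturality, he]
  haveI : Epi ((Formal.completion I M).map (homOfLE (Nat.le_add_left n e)).op) := by
    haveI : Epi (Formal.modPowπ I (e + n + 1) M ≫ (Formal.completion I M).map (homOfLE (Nat.le_add_left n e)).op) := by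
      rw [modPowπ_map I M (Nat.le_add_left n e)]; exact coequalizer.π_epi
    exact epi_of_epi (Formal.modPowπ I (e + n + 1) M) _
  refine (cancel_epi ((Formal.completion I M).map (homOfLE (Nat.le_add_left n e)).op)).1 ?_
  rw [NatTrans.naturality, NatTrans.naturality, htop]

theorem eq_zero_of_complMap (hI : I.FG) {e : ℕ} {M N : X.Modules} (hN : Coh.IsCoh N)
    (hk : Formal.KilledBy (I ^ e) M ∨ Formal.KilledBy (I ^ e) N) (φ : M ⟶ N) (h : complMap I φ = 0) : φ = 0 := by
  have hπ : ∀ n, φ ≫ Formal.modPowπ I (n + 1) N = 0 := fun n => by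
    rw [← π_complMap, h]
    exact comp_zero
  rcases hk with hk | hk
  · refine Scheme.Modules.hom_ext _ _ fun W => ?_
    ext s
    refine H11Tilde.eq_of_locally _ _ fun x hx => ?_
    obtain ⟨V, hV, hle, hxV⟩ := exists_affine_le hx
    refine ⟨V, hle, hxV, ?_⟩
    haveI := isNoetherianRing_sections hV
    haveI := finite_sections' hN hV
    rw [← H11Tilde.app_map_apply φ hle s, show (0 : M ⟶ N).app W s = 0 from rfl, map_zero]
    let m := M.presheaf.map (homOfLE hle).op s
    have hmem : ∀ n, φ.app V m ∈ secIdeal I V ^ (n + 1) • (⊤ : Submodule Γ(X, V) Γ(N, V)) := fun n => by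
      have h2 := (modPowπ_eq_iff hI hN hV (n + 1) (φ.app V m) 0).1
        ((comp_app_eq' (hπ n) V m).trans (map_zero _).symm)
      rwa [sub_zero] at h2
    have hinf : φ.app V m ∈ (⨅ i : ℕ, secIdeal I V ^ i • ⊤ : Submodule Γ(X, V) Γ(N, V)) := by
      refine Submodule.mem_iInf _ |>.2 fun i => ?_
      rcases i with _ | n
      · rw [pow_zero, Ideal.one_eq_top, Submodule.top_smul]; trivial
      · exact hmem n
    obtain ⟨⟨j, hj⟩, hjx⟩ := (Ideal.mem_iInf_smul_pow_eq_bot_iff (secIdeal I V) _).1 hinf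
    have hje : ∀ d : ℕ, φ.app V m = j ^ d • φ.app V m := fun d => by
      induction d with
      | zero => rw [pow_zero, one_smul]
      | succ d ih => rw [pow_succ, mul_smul, show j • φ.app V m = φ.app V m from hjx, ← ih]
    show φ.app V m = 0
    rw [hje e, ← φ.app_smul, smul_eq_zero_of_killedBy hk V (by rw [secIdeal_pow]; exact Ideal.pow_mem_pow hj e),
      map_zero]
  · haveI := isIso_modPowπ hk (Nat.le_succ e)
    rw [← cancel_mono (Formal.modPowπ I (e + 1) N), zero_comp]
    exact hπ e
where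
  comp_app_eq' {M N P : X.Modules} {a : M ⟶ N} {b : N ⟶ P} (w : a ≫ b = 0) (V : X.Opens) (x : Γ(M, V)) :
      b.app V (a.app V x) = 0 := app_congr w V x

/-- Completion is fully faithful on pairs of which one is torsion. -/
theorem existsUnique_hom_of_torsion {F G : X.Modules} (hF : Coh.IsCoh F) (hG : Coh.IsCoh G)
    (hc : ∃ c : ℕ, Formal.KilledBy (I ^ c) F ∨ Formal.KilledBy (I ^ c) G)
    (ψ : Formal.completion I F ⟶ Formal.completion I G) :
    ∃! φ : F ⟶ G, ∀ n : ℕ, Formal.modPowπ I (n + 1) F ≫ ψ.app (op n) = φ ≫ Formal.modPowπ I (n + 1) G := by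
  obtain ⟨I₀, hfg, h⟩ := exists_sameKill (X := X) I
  obtain ⟨c, hc⟩ := hc
  have hc' : Formal.KilledBy (I₀ ^ c) F ∨ Formal.KilledBy (I₀ ^ c) G := hc.imp (h c F).1 (h c G).1
  let ψ₀ := (complCongr h F).inv ≫ ψ ≫ (complCongr h G).hom
  obtain ⟨φ, hφ⟩ : ∃ φ : F ⟶ G, complMap I₀ φ = ψ₀ := by
    rcases hc' with hk | hk
    · exact exists_hom_left hfg hF hG hk ψ₀
    · exact exists_complMap_eq_of_killed_target hk ψ₀
  have key : ∀ φ' : F ⟶ G, complMap I₀ φ' = ψ₀ ↔ complMap I φ' = ψ := fun φ' => by
    rw [Iso.eq_inv_comp, ← complMap_complCongr, cancel_mono]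
  refine ⟨φ, fun n => ?_, fun φ' hφ' => ?_⟩
  · rw [← π_complMap, (key φ).1 hφ]
  · refine sub_eq_zero.1 (eq_zero_of_complMap hfg hG hc' (φ' - φ) ?_)
    have h1 := (key φ').2 (eq_complMap hφ').symm
    rw [sub_eq_add_neg, complMap_add, complMap_neg, h1, hφ, add_neg_cancel]

end Groth.Agent.H24GE
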