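import Groth.Agent.H24GE.Congr
import Mathlib.RingTheory.Filtration

/-!
# Kernels of maps of coherent formal modules

The kernel is the completion of the kernel of the map of limits; its truncations are coherent because they
stabilise, by the Artin-Rees lemma over completions.
-/

set_option autoImplicit false
set_option linter.style.haveILetI false
set_option linter.unusedSectionVars false
universe u

open CategoryTheory CategoryTheory.Limits AlgebraicGeometry Opposite

namespace Groth.Agent.H24GE

open Groth.Agent.H24Formal Groth.Agent.H24Formal.HomC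

theorem map_smul_mem_smul {R R' M : Type*} [CommRing R] [CommRing R'] [Algebra R R'] [AddCommGroup M] [Module R M]
    [Module R' M] [IsScalarTower R R' M] (I : Ideal R) (N : Submodule R' M) (x : M) :
    x ∈ I.map (algebraMap R R') • N ↔ x ∈ I • N.restrictScalars R := by
  constructor
  · intro h
    refine Submodule.smul_induction_on h (fun r hr y hy => ?_) fun a b ha hb => add_mem ha hb
    revert y
    refine Submodule.span_induction (p := fun r _ => ∀ y ∈ N, r • y ∈ I • N.restrictScalars R) ?_ ?_ ?_ ?_ hr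
    · rintro _ ⟨a, ha, rfl⟩ y hy
      rw [algebraMap_smul]
      exact Submodule.smul_mem_smul ha hy
    · intro y _
      rw [zero_smul]
      exact zero_mem _
    · intro a b _ _ ha hb y hy
      rw [add_smul]
      exact add_mem (ha y hy) (hb y hy)
    · intro b a _ ha y hy
      rw [smul_eq_mul, mul_comm, mul_smul]
      exact ha _ (N.smul_mem b hy)
  · intro h
    refine Submodule.smul_induction_on h (fun r hr y hy => ?_) fun a b ha hb => add_mem ha hb
    rw [← algebraMap_smul R' r y]
    exact Submodule.smul_mem_smul (Ideal.mem_map_of_mem _ hr) hy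

variable {A : Type u} [CommRing A] {X : Scheme.{u}} [X.Over (Spec (CommRingCat.of A))] [IsNoetherian X]
  {I : Ideal A} {F G : ℕᵒᵖ ⥤ X.Modules} (α : F ⟶ G)

/-- The linear map of the limits on sections. -/
noncomputable abbrev limL (V : X.Opens) : Γ(limit F, V) →ₗ[Γ(X, V)] Γ(limit G, V) := appL (limMap α) V

/-- Artin-Rees for a map of limits. -/
theorem exists_artinRees (hI : I.FG) (hF : Formal.IsCohFormal I F) (hG : Formal.IsCohFormal I G) {V : X.Opens}
    (hV : IsAffineOpen V) :
    ∃ c : ℕ, (∀ (k : ℕ) (x : Γ(limit F, V)), limL α V x ∈ secIdeal I V ^ (k + c) • (⊤ : Submodule Γ(X, V) _) →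
      ∃ w ∈ secIdeal I V ^ k • (⊤ : Submodule Γ(X, V) Γ(limit F, V)), limL α V w = limL α V x) ∧
      ∀ (k : ℕ) (x : Γ(limit F, V)), x ∈ secIdeal I V ^ (k + c) • (⊤ : Submodule Γ(X, V) Γ(limit F, V)) →
        limL α V x = 0 → x ∈ secIdeal I V ^ k • LinearMap.ker (limL α V) := by
  haveI := isNoetherianRing_sections (X := X) hV
  haveI := finite_sections' (hF.1 0) hV
  haveI := finite_sections' (hG.1 0) hV
  let SM := secSys hI hF hV
  let SN := secSys hI hG hV
  letI := cmodule SM
  letI := cmodule SN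
  haveI : IsScalarTower Γ(X, V) (AdicCompletion (secIdeal I V) Γ(X, V)) Γ(limit F, V) :=
    IsScalarTower.of_algebraMap_smul fun a x => csmul_algebraMap SM a x
  haveI : IsScalarTower Γ(X, V) (AdicCompletion (secIdeal I V) Γ(X, V)) Γ(limit G, V) :=
    IsScalarTower.of_algebraMap_smul fun a x => csmul_algebraMap SN a x
  haveI := finite_limit SM
  haveI := finite_limit SN
  haveI := H24Adic.isNoetherianRing_adicCompletion (secIdeal I V)
  let J' := (secIdeal I V).map (algebraMap Γ(X, V) (AdicCompletion (secIdeal I V) Γ(X, V)))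
  let φ : Γ(limit F, V) →ₗ[AdicCompletion (secIdeal I V) Γ(X, V)] Γ(limit G, V) :=
    { toFun := limL α V
      map_add' := fun a b => map_add _ a b
      map_smul' := fun r x => map_csmul SN SM (limL α V) r x }
  obtain ⟨c₁, h₁⟩ := exists_pow_range (R := AdicCompletion (secIdeal I V) Γ(X, V)) (M := Γ(limit F, V)) (N := Γ(limit G, V)) J' φ
  obtain ⟨c₂, h₂⟩ := Ideal.exists_pow_inf_eq_pow_smul J' (LinearMap.ker φ)
  refine ⟨max c₁ c₂, fun k x hx => ?_, fun k x hx hx0 => ?_⟩
  · have hx' : φ x ∈ J' ^ (k + c₁) • (⊤ : Submodule (AdicCompletion (secIdeal I V) Γ(X, V)) Γ(limit G, V)) := by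
      rw [← Ideal.map_pow, map_smul_mem_smul, Submodule.restrictScalars_top]
      exact Submodule.smul_mono (Ideal.pow_le_pow_right (by omega)) le_rfl hx
    obtain ⟨w, hw, hwx⟩ := h₁ k x hx'
    rw [← Ideal.map_pow, map_smul_mem_smul, Submodule.restrictScalars_top] at hw
    exact ⟨w, hw, hwx⟩
  · have hx' : x ∈ J' ^ (k + c₂) • (⊤ : Submodule (AdicCompletion (secIdeal I V) Γ(X, V)) Γ(limit F, V)) ⊓ LinearMap.ker φ := by
      refine ⟨?_, hx0⟩
      show x ∈ J' ^ (k + c₂) • (⊤ : Submodule (AdicCompletion (secIdeal I V) Γ(X, V)) Γ(limit F, V))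
      rw [← Ideal.map_pow, map_smul_mem_smul, Submodule.restrictScalars_top]
      exact Submodule.smul_mono (Ideal.pow_le_pow_right (by omega)) le_rfl hx
    rw [h₂ (k + c₂) (Nat.le_add_left _ _), Nat.add_sub_cancel] at hx'
    have h3 : x ∈ J' ^ k • LinearMap.ker φ := Submodule.smul_mono le_rfl inf_le_right hx'
    rw [← Ideal.map_pow, map_smul_mem_smul] at h3
    exact h3

/-- Elements of a level killed by the map lift to the kernel of the limits after a shift. -/
theorem exists_lift_kernel (hI : I.FG) (hF : Formal.IsCohFormal I F) (hG : Formal.IsCohFormal I G) :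
    ∃ c : ℕ, ∀ (d m : ℕ) (h : d + c ≤ m) (V : X.affineOpens) (z : Γ(F.obj (op m), V.1)),
      (α.app (op m)).app V.1 z = 0 → ∃ q : Γ(limit F, V.1), limL α V.1 q = 0 ∧
        (limit.π F (op d)).app V.1 q = (F.map (homOfLE (le_of_add_le_left h)).op).app V.1 z := by
  have hw : ∀ {V : X.Opens} {k l : ℕ} (h : k ≤ l) (q : Γ(limit F, V)),
      (F.map (homOfLE h).op).app V ((limit.π F (op l)).app V q) = (limit.π F (op k)).app V q :=
    fun h q => app_congr (limit.w F (homOfLE h).op) _ q
  -- one affine open with its own bound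
  have hone : ∀ (V : X.affineOpens), ∃ c, ∀ (d m : ℕ) (h : d + c ≤ m) (z : Γ(F.obj (op m), V.1)),
      (α.app (op m)).app V.1 z = 0 → ∃ q : Γ(limit F, V.1), limL α V.1 q = 0 ∧
        (limit.π F (op d)).app V.1 q = (F.map (homOfLE (le_of_add_le_left h)).op).app V.1 z := fun V => by
    obtain ⟨c, hc, -⟩ := exists_artinRees α hI hF hG V.2
    haveI := isNoetherianRing_sections (X := X) V.2
    haveI := finite_sections' (hF.1 0) V.2
    haveI := finite_sections' (hG.1 0) V.2
    refine ⟨c, fun d m h z hz => ?_⟩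
    obtain ⟨x, rfl⟩ := (secSys hI hF V.2).π_surjective m z
    have h1 : limL α V.1 x ∈ secIdeal I V.1 ^ (d + 1 + c) • (⊤ : Submodule Γ(X, V.1) _) := by
      refine Submodule.smul_mono (Ideal.pow_le_pow_right (show d + 1 + c ≤ m + 1 by omega)) le_rfl ?_
      rw [← (secSys hI hG V.2).ker_eq_of_fg (IsNoetherian.noetherian _) m, LinearMap.mem_ker]
      exact (limMap_π_app α m V.1 x).trans hz
    obtain ⟨w, hw', hwx⟩ := hc (d + 1) x h1
    refine ⟨x - w, by rw [map_sub, hwx, sub_self], ?_⟩
    have h2 : (secSys hI hF V.2).π d w = 0 := by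
      rwa [← LinearMap.mem_ker, (secSys hI hF V.2).ker_eq_of_fg (IsNoetherian.noetherian _) d]
    show (secSys hI hF V.2).π d (x - w) = _
    rw [map_sub, h2, sub_zero]
    exact (hw (le_of_add_le_left h) x).symm
  obtain ⟨r, U, hU, -, hcov⟩ := H10Coh.exists_finite_affine_cover (X := X) (W := ⊤) isCompact_univ
  choose c hc using fun i => hone ⟨U i, hU i⟩
  refine ⟨Finset.univ.sup c, fun d m h V z hz => ?_⟩
  -- compare with a level which is large enough for `V`
  obtain ⟨cV, hcV⟩ := hone V
  have hm : d + Finset.univ.sup c ≤ m := h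
  let m' := m + cV
  have hm' : m ≤ m' := Nat.le_add_right m cV
  have hdm' : d ≤ m' := (le_of_add_le_left h).trans hm'
  let g : kernel (α.app (op m)) ⟶ F.obj (op d) := kernel.ι _ ≫ F.map (homOfLE (le_of_add_le_left h)).op
  let g' : kernel (α.app (op m')) ⟶ F.obj (op d) := kernel.ι _ ≫ F.map (homOfLE hdm').op
  haveI := (hF.1 d).1
  have hk : Coh.IsQCoh (kernel (α.app (op m))) := (H10Coh.isCoh_kernel _ (hF.1 m) (hG.1 m).1).1
  have hk' : Coh.IsQCoh (kernel (α.app (op m'))) := (H10Coh.isCoh_kernel _ (hF.1 m') (hG.1 m').1).1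
  have hgc : g ≫ cokernel.π g' = 0 := by
    refine eq_zero_on_cover hk _ U hU (fun x => TopologicalSpace.Opens.mem_iSup.1 (hcov trivial)) fun i z' => ?_
    obtain ⟨q, hq0, hq⟩ := hc i d m ((Nat.add_le_add_left (Finset.le_sup (Finset.mem_univ i)) d).trans hm)
      ((kernel.ι (α.app (op m))).app (U i) z') (app_congr (kernel.condition _) _ z')
    obtain ⟨z'', hz''⟩ := exists_kernel_section (α.app (op m')) (U i) ((limit.π F (op m')).app (U i) q) (by
      rw [← limMap_π_app α m' (U i) q]
      exact (congrArg ((limit.π G (op m')).app (U i)) hq0).trans (map_zero _))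
    show (cokernel.π g').app (U i) ((F.map (homOfLE (le_of_add_le_left h)).op).app (U i) _) = 0
    refine (congrArg ((cokernel.π g').app (U i)) (hq.symm.trans ((hw hdm' q).symm.trans
      (congrArg ((F.map (homOfLE hdm').op).app (U i)) hz''.symm)))).trans ?_
    exact app_congr (cokernel.condition g') (U i) z''
  obtain ⟨y, hy⟩ := exists_kernel_section (α.app (op m)) V.1 z hz
  obtain ⟨z', hz'⟩ := exists_app_eq (ShortComplex.exact_cokernel g') hk' (hF.1 d).1 V.2 (g.app V.1 y)
    (app_congr hgc V.1 y)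
  obtain ⟨q, hq0, hq⟩ := hcV d m' (Nat.add_le_add_right (le_of_add_le_left h) cV)
    ((kernel.ι (α.app (op m'))).app V.1 z') (app_congr (kernel.condition _) _ z')
  refine ⟨q, hq0, hq.trans ?_⟩
  refine hz'.trans ?_
  show (F.map (homOfLE (le_of_add_le_left h)).op).app V.1 ((kernel.ι (α.app (op m))).app V.1 y) = _
  rw [hy]

variable (hI : I.FG) (hF : Formal.IsCohFormal I F) (hG : Formal.IsCohFormal I G)

/-- The kernel of the map of limits maps into the kernels of the levels. -/
noncomputable def kerLevel (m : ℕ) : kernel (limMap α) ⟶ kernel (α.app (op m)) :=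
  kernel.lift _ (kernel.ι (limMap α) ≫ limit.π F (op m)) (by
    rw [Category.assoc, ← limMap_π, ← Category.assoc, kernel.condition, zero_comp])

theorem kerLevel_ι (m : ℕ) : kerLevel α m ≫ kernel.ι (α.app (op m)) = kernel.ι (limMap α) ≫ limit.π F (op m) :=
  kernel.lift_ι _ _ _

/-- The image of the kernel of the limits in one level. -/
noncomputable abbrev imLevel (d c : ℕ) : X.Modules :=
  kernel (cokernel.π (kernel.ι (α.app (op (d + c))) ≫ F.map (homOfLE (Nat.le_add_right d c)).op))

/-- The inclusion of the image. -/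
noncomputable abbrev imι (d c : ℕ) : imLevel α d c ⟶ F.obj (op d) := kernel.ι _

/-- The map onto the image in one level. -/
noncomputable def toImLevel (d c : ℕ) : kernel (limMap α) ⟶ imLevel α d c :=
  kernel.lift _ (kernel.ι (limMap α) ≫ limit.π F (op d)) (by
    rw [← limit.w F (homOfLE (Nat.le_add_right d c)).op, ← Category.assoc (kernel.ι (limMap α)), ← kerLevel_ι α (d + c),
      Category.assoc (kerLevel α (d + c)), Category.assoc]
    exact (congrArg (kerLevel α (d + c) ≫ ·) (cokernel.condition _)).trans comp_zero)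

theorem toImLevel_ι (d c : ℕ) :
    toImLevel α d c ≫ imι α d c = kernel.ι (limMap α) ≫ limit.π F (op d) := kernel.lift_ι _ _ _

include hI hF hG in
theorem surjective_toImLevel {c : ℕ} (hc : ∀ (d m : ℕ) (h : d + c ≤ m) (V : X.affineOpens) (z : Γ(F.obj (op m), V.1)),
      (α.app (op m)).app V.1 z = 0 → ∃ q : Γ(limit F, V.1), limL α V.1 q = 0 ∧
        (limit.π F (op d)).app V.1 q = (F.map (homOfLE (le_of_add_le_left h)).op).app V.1 z) (d : ℕ)
    (V : X.affineOpens) : Function.Surjective ((toImLevel α d c).app V.1) := fun p => by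
  let g := kernel.ι (α.app (op (d + c))) ≫ F.map (homOfLE (Nat.le_add_right d c)).op
  have hk : Coh.IsQCoh (kernel (α.app (op (d + c)))) := (H10Coh.isCoh_kernel _ (hF.1 _) (hG.1 _).1).1
  obtain ⟨z, hz⟩ := exists_app_eq (ShortComplex.exact_cokernel g) hk (hF.1 d).1 V.2
    ((kernel.ι (cokernel.π g)).app V.1 p) (app_congr (kernel.condition _) V.1 p)
  obtain ⟨q, hq0, hq⟩ := hc d (d + c) le_rfl V ((kernel.ι (α.app (op (d + c)))).app V.1 z)
    (app_congr (kernel.condition _) _ z)
  obtain ⟨s, hs⟩ := exists_kernel_section (limMap α) V.1 q hq0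
  refine ⟨s, H10Coh.injective_app_of_mono' (kernel.ι (cokernel.π g)) V.1 ?_⟩
  refine (app_congr (toImLevel_ι α d c) V.1 s).trans ?_
  show (limit.π F (op d)).app V.1 ((kernel.ι (limMap α)).app V.1 s) = _
  rw [hs, hq, ← hz]
  rfl

theorem exists_eq_kerι_app (V : X.Opens) {k : ℕ} {q : Γ(limit F, V)}
    (h : q ∈ secIdeal I V ^ k • LinearMap.ker (limL α V)) :
    ∃ t ∈ secIdeal I V ^ k • (⊤ : Submodule Γ(X, V) Γ(kernel (limMap α), V)),
      (kernel.ι (limMap α)).app V t = q := by
  have h1 : q ∈ (secIdeal I V ^ k • (⊤ : Submodule Γ(X, V) Γ(kernel (limMap α), V))).map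
      (appL (kernel.ι (limMap α)) V) := by
    rw [Submodule.map_smul'']
    refine Submodule.smul_mono le_rfl (fun y hy => ?_) h
    obtain ⟨s, hs⟩ := exists_kernel_section (limMap α) V y hy
    exact ⟨s, trivial, hs⟩
  exact h1

theorem modPowπ_app_eq_zero {M : X.Modules} {V : X.Opens} {n : ℕ} {s : Γ(M, V)}
    (hs : s ∈ secIdeal I V ^ n • (⊤ : Submodule Γ(X, V) Γ(M, V))) : (Formal.modPowπ I n M).app V s = 0 := by
  rw [← secIdeal_pow] at hs
  exact Submodule.smul_induction_on (p := fun q => (Formal.modPowπ I n M).app V q = 0) hs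
    (fun a ha y _ => ((Formal.modPowπ I n M).app_smul a y).trans
      (smul_eq_zero_of_killedBy (killedBy_modPow I n M) V ha _))
    fun p q hp hq => by rw [map_add, hp, hq, add_zero]

include hI hF hG in
/-- The levels of the kernel of the limits are detected in one level of `F`. -/
theorem exists_ker_bound (n : ℕ) : ∃ d : ℕ, ∀ (V : X.affineOpens) (q : Γ(limit F, V.1)), limL α V.1 q = 0 →
    (limit.π F (op d)).app V.1 q = 0 → q ∈ secIdeal I V.1 ^ (n + 1) • LinearMap.ker (limL α V.1) := by
  have hw : ∀ {V : X.Opens} {k l : ℕ} (h : k ≤ l) (q : Γ(limit F, V)),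
      (F.map (homOfLE h).op).app V ((limit.π F (op l)).app V q) = (limit.π F (op k)).app V q :=
    fun h q => app_congr (limit.w F (homOfLE h).op) _ q
  obtain ⟨c, hc⟩ := exists_lift_kernel α hI hF hG
  have hone : ∀ (V : X.affineOpens), ∃ d, ∀ d', d ≤ d' → ∀ q : Γ(limit F, V.1), limL α V.1 q = 0 →
      (limit.π F (op d')).app V.1 q = 0 → q ∈ secIdeal I V.1 ^ (n + 1) • LinearMap.ker (limL α V.1) := fun V => by
    obtain ⟨cV, -, hcV⟩ := exists_artinRees α hI hF hG V.2
    haveI := isNoetherianRing_sections (X := X) V.2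
    haveI := finite_sections' (hF.1 0) V.2
    refine ⟨n + cV, fun d' hd q hq0 hq => hcV (n + 1) q ?_ hq0⟩
    refine Submodule.smul_mono (Ideal.pow_le_pow_right (show n + 1 + cV ≤ d' + 1 by omega)) le_rfl ?_
    rw [← (secSys hI hF V.2).ker_eq_of_fg (IsNoetherian.noetherian _) d', LinearMap.mem_ker]
    exact hq
  obtain ⟨r, U, hU, -, hcov⟩ := H10Coh.exists_finite_affine_cover (X := X) (W := ⊤) isCompact_univ
  choose d hd using fun i => hone ⟨U i, hU i⟩
  refine ⟨Finset.univ.sup d, fun V q hq0 hq => ?_⟩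
  obtain ⟨dV, hdV⟩ := hone V
  let D := Finset.univ.sup d
  let d' := D + dV
  have hP : Coh.IsCoh (imLevel α d' c) := by
    haveI := (hF.1 d').1
    haveI := (H10Coh.isCoh_kernel (α.app (op (d' + c))) (hF.1 _) (hG.1 _).1).1
    exact H10Coh.isCoh_kernel _ (hF.1 d') (H10Coh.isQuasicoherent_cokernel _)
  let u : imLevel α d' c ⟶ F.obj (op D) := kernel.ι _ ≫ F.map (homOfLE (Nat.le_add_right D dV)).op
  have hu : kernel.ι u ≫ Formal.modPowπ I (n + 1) (imLevel α d' c) = 0 := by
    have hK : Coh.IsQCoh (kernel u) := (H10Coh.isCoh_kernel u hP (hF.1 D).1).1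
    refine eq_zero_on_cover hK _ U hU (fun x => TopologicalSpace.Opens.mem_iSup.1 (hcov trivial)) fun i w => ?_
    obtain ⟨s, hs⟩ := surjective_toImLevel α hI hF hG hc d' ⟨U i, hU i⟩ ((kernel.ι u).app (U i) w)
    have h0 : (limit.π F (op D)).app (U i) ((kernel.ι (limMap α)).app (U i) s) = 0 := by
      rw [← hw (Nat.le_add_right D dV)]
      refine Eq.trans ?_ (app_congr (kernel.condition u) (U i) w)
      show _ = (F.map (homOfLE (Nat.le_add_right D dV)).op).app (U i) ((imι α d' c).app (U i) ((kernel.ι u).app (U i) w))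
      rw [← hs]
      exact congrArg _ (app_congr (toImLevel_ι α d' c) (U i) s).symm
    have h1 := hd i D (Finset.le_sup (Finset.mem_univ i)) _ (app_congr (kernel.condition (limMap α)) (U i) s) h0
    show (Formal.modPowπ I (n + 1) (imLevel α d' c)).app (U i) ((kernel.ι u).app (U i) w) = 0
    rw [← hs]
    obtain ⟨t, ht, hts⟩ := exists_eq_kerι_app α (U i) h1
    obtain rfl : t = s := H10Coh.injective_app_of_mono' (kernel.ι (limMap α)) (U i) hts
    have h2 := Submodule.mem_map_of_mem (f := appL (toImLevel α d' c) (U i)) ht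
    rw [Submodule.map_smul''] at h2
    refine ((modPowπ_eq_iff hI hP (hU i) (n + 1) _ 0).2 ?_).trans (map_zero _)
    rw [sub_zero]
    exact Submodule.smul_mono le_rfl le_top h2
  obtain ⟨s, hs⟩ := exists_kernel_section (limMap α) V.1 q hq0
  have hsu : u.app V.1 ((toImLevel α d' c).app V.1 s) = 0 := by
    refine Eq.trans ?_ hq
    show (F.map (homOfLE (Nat.le_add_right D dV)).op).app V.1 ((imι α d' c).app V.1 ((toImLevel α d' c).app V.1 s)) = _
    rw [← hw (Nat.le_add_right D dV), ← hs]
    exact congrArg _ (app_congr (toImLevel_ι α d' c) V.1 s)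
  obtain ⟨w, hw'⟩ := exists_kernel_section u V.1 _ hsu
  have h1 : (toImLevel α d' c).app V.1 s ∈ secIdeal I V.1 ^ (n + 1) • (⊤ : Submodule Γ(X, V.1) Γ(imLevel α d' c, V.1)) := by
    have h3 : (Formal.modPowπ I (n + 1) (imLevel α d' c)).app V.1 ((toImLevel α d' c).app V.1 s) = 0 := by
      rw [← hw']
      exact app_congr hu V.1 w
    have h4 := (modPowπ_eq_iff hI hP V.2 (n + 1) _ 0).1 (h3.trans (map_zero _).symm)
    rwa [sub_zero] at h4
  have hsur : LinearMap.range (appL (toImLevel α d' c) V.1) = ⊤ :=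
    LinearMap.range_eq_top.2 (surjective_toImLevel α hI hF hG hc d' V)
  rw [← hsur, LinearMap.range_eq_map, ← Submodule.map_smul''] at h1
  obtain ⟨t, ht, hts⟩ := h1
  have ht' : (kernel.ι (limMap α)).app V.1 t ∈ secIdeal I V.1 ^ (n + 1) • LinearMap.ker (limL α V.1) := by
    have h5 := Submodule.mem_map_of_mem (f := appL (kernel.ι (limMap α)) V.1) ht
    rw [Submodule.map_smul''] at h5
    exact Submodule.smul_mono le_rfl
      (fun y hy => by
        obtain ⟨y', -, rfl⟩ := Submodule.mem_map.1 hy
        exact app_congr (kernel.condition (limMap α)) V.1 y') h5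
  have h6 : q - (kernel.ι (limMap α)).app V.1 t ∈ secIdeal I V.1 ^ (n + 1) • LinearMap.ker (limL α V.1) := by
    refine hdV d' (Nat.le_add_left dV D) _ ?_ ?_
    · rw [map_sub, hq0, zero_sub, neg_eq_zero]
      exact app_congr (kernel.condition (limMap α)) V.1 t
    · rw [← hs, map_sub, sub_eq_zero]
      refine (app_congr (toImLevel_ι α d' c) V.1 s).symm.trans (Eq.trans ?_ (app_congr (toImLevel_ι α d' c) V.1 t))
      exact congrArg ((imι α d' c).app V.1) hts.symm
  rw [← sub_add_cancel q ((kernel.ι (limMap α)).app V.1 t)]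
  exact add_mem h6 ht'

include hI hF hG in
/-- The truncation of the kernel of the limits is that of its image in a level. -/
theorem exists_isIso_modPowMap (n : ℕ) :
    ∃ d c : ℕ, Coh.IsCoh (imLevel α d c) ∧ IsIso (modPowMap I (n + 1) (toImLevel α d c)) ∧
      ∀ V : X.affineOpens, Function.Surjective ((toImLevel α d c).app V.1) := by
  obtain ⟨c, hc⟩ := exists_lift_kernel α hI hF hG
  obtain ⟨d, hd⟩ := exists_ker_bound α hI hF hG n
  have hsur := surjective_toImLevel α hI hF hG hc d
  have hP : Coh.IsCoh (imLevel α d c) := by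
    haveI := (hF.1 d).1
    haveI := (H10Coh.isCoh_kernel (α.app (op (d + c))) (hF.1 _) (hG.1 _).1).1
    exact H10Coh.isCoh_kernel _ (hF.1 d) (H10Coh.isQuasicoherent_cokernel _)
  refine ⟨d, c, hP, ?_, hsur⟩
  let e := toImLevel α d c
  haveI : Epi e := H11Tilde.epi_of_locally_surjective _ fun W t x hx => by
    obtain ⟨V, hV, hle, hxV⟩ := exists_affine_le hx
    exact ⟨V, hle, hxV, hsur ⟨V, hV⟩ _⟩
  let π := Formal.modPowπ I (n + 1) (kernel (limMap α))
  have hker : kernel.ι e ≫ π = 0 := by
    refine H24Formal.hom_ext_app _ _ fun W w => H11Tilde.eq_of_locally _ _ fun x hx => ?_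
    obtain ⟨V, hV, hle, hxV⟩ := exists_affine_le hx
    refine ⟨V, hle, hxV, ?_⟩
    refine (H11Tilde.app_map_apply (kernel.ι e ≫ π) hle w).symm.trans (Eq.trans ?_ (map_zero _).symm)
    let s := (kernel.ι e).app V ((kernel e).presheaf.map (homOfLE hle).op w)
    have h0 : (limit.π F (op d)).app V ((kernel.ι (limMap α)).app V s) = 0 := by
      refine (app_congr (toImLevel_ι α d c) V s).symm.trans ?_
      refine (congrArg ((imι α d c).app V) ?_).trans (map_zero _)
      exact app_congr (kernel.condition e) V _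
    obtain ⟨t, ht, hts⟩ := exists_eq_kerι_app α V
      (hd ⟨V, hV⟩ _ (app_congr (kernel.condition (limMap α)) V s) h0)
    obtain rfl : t = s := H10Coh.injective_app_of_mono' (kernel.ι (limMap α)) V hts
    show π.app V s = 0
    exact modPowπ_app_eq_zero (M := kernel (limMap α)) (n := n + 1) ht
  let δ : imLevel α d c ⟶ Formal.modPow I (n + 1) (kernel (limMap α)) := Abelian.epiDesc e π hker
  have hδ : e ≫ δ = π := Abelian.comp_epiDesc e π hker
  let ψ : Formal.modPow I (n + 1) (imLevel α d c) ⟶ Formal.modPow I (n + 1) (kernel (limMap α)) :=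
    cokernel.desc _ δ (smulFamily_comp_eq_zero _ (killedBy_modPow I (n + 1) _))
  have h1 : Formal.modPowπ I (n + 1) (imLevel α d c) ≫ ψ = δ := cokernel.π_desc _ _ _
  have h2 : π ≫ modPowMap I (n + 1) e = e ≫ Formal.modPowπ I (n + 1) (imLevel α d c) := π_modPowMap I (n + 1) e
  refine ⟨ψ, ?_, ?_⟩
  · refine (cancel_epi π).1 ?_
    rw [← Category.assoc, h2, Category.assoc, h1, hδ, Category.comp_id]
  · refine (cancel_epi (Formal.modPowπ I (n + 1) (imLevel α d c))).1 ((cancel_epi e).1 ?_)
    rw [← Category.assoc (Formal.modPowπ I (n + 1) _) ψ, h1, ← Category.assoc e δ, hδ, h2, Category.comp_id]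

include hI hF hG in
/-- The truncations of the kernel of the limits are coherent. -/
theorem isCoh_modPow_kernel (n : ℕ) : Coh.IsCoh (Formal.modPow I (n + 1) (kernel (limMap α))) := by
  obtain ⟨d, c, hP, hiso, -⟩ := exists_isIso_modPowMap α hI hF hG n
  haveI := hiso
  exact H10Coh.isCoh_of_iso (asIso (modPowMap I (n + 1) (toImLevel α d c))).symm (isCoh_modPow I (n + 1) hP)

include hI hF hG in
theorem surjective_modPowπ_kernel (n : ℕ) (V : X.affineOpens) :
    Function.Surjective ((Formal.modPowπ I (n + 1) (kernel (limMap α))).app V.1) := by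
  obtain ⟨d, c, hP, hiso, hsur⟩ := exists_isIso_modPowMap α hI hF hG n
  haveI := hiso
  intro y
  obtain ⟨p, hp⟩ := surjective_modPowπ I (n + 1) hP V.2 ((modPowMap I (n + 1) (toImLevel α d c)).app V.1 y)
  obtain ⟨s, rfl⟩ := hsur V p
  refine ⟨s, H10Coh.injective_app_of_mono' (modPowMap I (n + 1) (toImLevel α d c)) V.1 ?_⟩
  exact (app_congr (π_modPowMap I (n + 1) (toImLevel α d c)) V.1 s).trans hp

/-- The map from the completion of the kernel of the limits. -/
noncomputable def kerι : Formal.completion I (kernel (limMap α)) ⟶ F :=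
  NatTrans.ofOpSequence (fun n => cokernel.desc _ (kernel.ι (limMap α) ≫ limit.π F (op n))
    (smulFamily_comp_eq_zero _ (hF.2.1 n))) fun n => by
      rw [completion_map_succ]
      refine (cancel_epi (Formal.modPowπ I (n + 1 + 1) (kernel (limMap α)))).1 ?_
      refine (Category.assoc _ _ _).symm.trans ((congrArg (· ≫ _) (Formal.modPowπ_trans I (n + 1) _)).trans ?_)
      refine (cokernel.π_desc _ _ _).trans (Eq.trans ?_ (Category.assoc _ _ _))
      refine Eq.trans ?_ (congrArg (· ≫ _) (cokernel.π_desc _ _ _).symm)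
      exact ((congrArg (kernel.ι (limMap α) ≫ ·) (limit.w F (homOfLE (Nat.le_succ n)).op)).symm).trans
        (Category.assoc _ _ _).symm

theorem π_kerι (n : ℕ) :
    Formal.modPowπ I (n + 1) (kernel (limMap α)) ≫ (kerι α hF).app (op n) =
      kernel.ι (limMap α) ≫ limit.π F (op n) := cokernel.π_desc _ _ _

include hI hF hG in
theorem isCohFormal_kerSys : Formal.IsCohFormal I (Formal.completion I (kernel (limMap α))) := by
  refine ⟨fun n => isCoh_modPow_kernel α hI hF hG n, fun n => killedBy_modPow I (n + 1) _, fun n => ?_⟩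
  let M := kernel (limMap α)
  have h : Formal.smulFamily (I ^ (n + 1)) ((Formal.completion I M).obj (op (n + 1))) ≫
      (Formal.completion I M).map (homOfLE (Nat.le_succ n)).op = 0 :=
    smulFamily_comp_eq_zero _ (killedBy_modPow I (n + 1) M)
  refine ⟨h, ?_⟩
  have hz : Formal.KilledBy (I ^ (n + 1)) (cokernel (Formal.smulFamily (I ^ (n + 1)) ((Formal.completion I M).obj (op (n + 1))))) :=
    killedBy_cokernel _ _
  let inv : Formal.modPow I (n + 1) M ⟶
      cokernel (Formal.smulFamily (I ^ (n + 1)) ((Formal.completion I M).obj (op (n + 1)))) :=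
    cokernel.desc _ (Formal.modPowπ I (n + 1 + 1) M ≫ cokernel.π _) (smulFamily_comp_eq_zero _ hz)
  have hi : Formal.modPowπ I (n + 1) M ≫ inv = Formal.modPowπ I (n + 1 + 1) M ≫ cokernel.π _ :=
    cokernel.π_desc _ _ _
  refine ⟨inv, coequalizer.hom_ext ((cancel_epi (Formal.modPowπ I (n + 1 + 1) M)).1 ?_), ?_⟩
  · refine Eq.trans ?_ (congrArg (Formal.modPowπ I (n + 1 + 1) M ≫ ·) (Category.comp_id _).symm)
    refine (congrArg (Formal.modPowπ I (n + 1 + 1) M ≫ ·) (cokernel.π_desc_assoc _ _ _ _)).trans ?_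
    exact (Category.assoc _ _ _).symm.trans ((congrArg (· ≫ inv) (modPowπ_map I M (Nat.le_succ n))).trans hi)
  · refine (cancel_epi (Formal.modPowπ I (n + 1) M)).1 ?_
    refine (Category.assoc _ _ _).symm.trans ((congrArg (· ≫ _) hi).trans ?_)
    refine (Category.assoc _ _ _).trans ((congrArg (Formal.modPowπ I (n + 1 + 1) M ≫ ·) (cokernel.π_desc _ _ _)).trans ?_)
    exact (modPowπ_map I M (Nat.le_succ n)).trans (Category.comp_id _).symm

include hI hF hG in
theorem kerι_comp : kerι α hF ≫ α = 0 := by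
  ext j : 2
  refine (cancel_epi (Formal.modPowπ I (j.unop + 1) (kernel (limMap α)))).1 ?_
  refine (Category.assoc _ _ _).symm.trans ((congrArg (· ≫ α.app j) (π_kerι α hF j.unop)).trans ?_)
  refine (Category.assoc _ _ _).trans ((congrArg (kernel.ι (limMap α) ≫ ·) (limMap_π α j).symm).trans ?_)
  rw [← Category.assoc, kernel.condition, zero_comp]
  exact comp_zero.symm

include hI hF hG in
/-- The universal property of the kernel. -/
theorem existsUnique_lift {T : ℕᵒᵖ ⥤ X.Modules} (hT : Formal.IsCohFormal I T) (β : T ⟶ F) (h : β ≫ α = 0) :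
    ∃! γ : T ⟶ Formal.completion I (kernel (limMap α)), γ ≫ kerι α hF = β := by
  let Q := kernel (limMap α)
  have hK := isCohFormal_kerSys α hI hF hG
  have hto : toLim I Q ≫ limMap (kerι α hF) = kernel.ι (limMap α) := limit.hom_ext fun j => by
    rw [Category.assoc, limMap_π, ← Category.assoc, toLim_π I Q j.unop]
    exact π_kerι α hF j.unop
  have hl : limMap β ≫ limMap α = 0 := by rw [← limMap_comp', h, limMap_zero']
  haveI : Mono (limMap (kerι α hF)) := by
    refine Abelian.mono_of_kernel_ι_eq_zero _ (H24Formal.hom_ext_app _ _ fun W s => ?_)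
    refine H11Tilde.eq_of_locally _ _ fun x hx => ?_
    obtain ⟨V, hV, hle, hxV⟩ := exists_affine_le hx
    refine ⟨V, hle, hxV, ?_⟩
    let k := kernel.ι (limMap (kerι α hF))
    refine (H11Tilde.app_map_apply k hle s).symm.trans (Eq.trans ?_ (map_zero _).symm)
    let y := k.app V ((kernel (limMap (kerι α hF))).presheaf.map (homOfLE hle).op s)
    have hy : (limMap (kerι α hF)).app V y = 0 := app_congr (kernel.condition _) V _
    refine limit_section_ext _ V _ _ fun n => ?_
    show (limit.π (Formal.completion I Q) (op n)).app V y = (limit.π (Formal.completion I Q) (op n)).app V 0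
    rw [map_zero]
    obtain ⟨d₀, hd⟩ := exists_ker_bound α hI hF hG n
    let d := max d₀ n
    haveI : (Formal.completion I Q |>.obj (op d)).IsQuasicoherent := (hK.1 d).1
    obtain ⟨c, hc⟩ := exists_lift_kernel α hI hF hG
    obtain ⟨s', hs'⟩ : ∃ q : Γ(Q, V),
        (Formal.modPowπ I (d + 1) Q).app V q = (limit.π (Formal.completion I Q) (op d)).app V y := by
      haveI : Epi (Formal.modPowπ I (d + 1) Q) := coequalizer.π_epi
      exact surjective_modPowπ_kernel α hI hF hG d ⟨V, hV⟩ _
    have h0 : (limit.π F (op d₀)).app V ((kernel.ι (limMap α)).app V s') = 0 := by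
      have h1 : (limit.π F (op d)).app V ((kernel.ι (limMap α)).app V s') = 0 := by
        refine (app_congr (π_kerι α hF d) V s').symm.trans ?_
        refine (congrArg (((kerι α hF).app (op d)).app V) hs').trans ?_
        exact (limMap_π_app (kerι α hF) d V y).symm.trans ((congrArg _ hy).trans (map_zero _))
      refine (app_congr (limit.w F (homOfLE (le_max_left d₀ n)).op) V _).symm.trans ?_
      show (F.map (homOfLE (le_max_left d₀ n)).op).app V ((limit.π F (op d)).app V _) = 0
      rw [h1, map_zero]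
    obtain ⟨t, ht, hts⟩ := exists_eq_kerι_app α V
      (hd ⟨V, hV⟩ _ (app_congr (kernel.condition (limMap α)) V s') h0)
    obtain rfl : t = s' := H10Coh.injective_app_of_mono' (kernel.ι (limMap α)) V hts
    refine (app_congr (limit.w (Formal.completion I Q) (homOfLE (le_max_right d₀ n)).op) V y).symm.trans ?_
    refine (congrArg (((Formal.completion I Q).map (homOfLE (le_max_right d₀ n)).op).app V) hs'.symm).trans ?_
    refine (app_congr (modPowπ_map I Q (le_max_right d₀ n)) V t).trans ?_
    exact modPowπ_app_eq_zero ht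
  obtain ⟨γ, hγ, -⟩ := existsUnique_of_limit hI hT hK (kernel.lift (limMap α) (limMap β) hl ≫ toLim I Q)
  refine ⟨γ, hom_ext_of_limMap hI hT hF ?_, fun γ' hγ' => ?_⟩
  · rw [limMap_comp', hγ, Category.assoc, hto, kernel.lift_ι]
  · refine hom_ext_of_mono hI hT hK (kerι α hF) (hγ'.trans ?_)
    refine (hom_ext_of_limMap hI hT hF ?_).symm
    rw [limMap_comp', hγ, Category.assoc, hto, kernel.lift_ι]

include hI in
/-- Coherent formal modules on a Noetherian scheme have kernels. -/
theorem hasKernels : HasKernels (Formal2.CohFormalCat I X) := ⟨fun {P Q} a => by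
  refine HasLimit.mk ⟨KernelFork.ofι (Z := ⟨_, isCohFormal_kerSys a.hom hI P.2 Q.2⟩)
    (ObjectProperty.homMk (kerι a.hom P.2)) (ObjectProperty.hom_ext _ (kerι_comp a.hom hI P.2 Q.2)),
    KernelFork.IsLimit.ofι _ _
      (fun {T} g hg => ObjectProperty.homMk
        (existsUnique_lift a.hom hI P.2 Q.2 T.2 g.hom (congrArg InducedCategory.Hom.hom hg)).choose)
      (fun {T} g hg => ObjectProperty.hom_ext _
        (existsUnique_lift a.hom hI P.2 Q.2 T.2 g.hom (congrArg InducedCategory.Hom.hom hg)).choose_spec.1)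
      fun {T} g hg m hm => ObjectProperty.hom_ext _
        ((existsUnique_lift a.hom hI P.2 Q.2 T.2 g.hom (congrArg InducedCategory.Hom.hom hg)).choose_spec.2 m.hom
          (congrArg InducedCategory.Hom.hom hm))⟩⟩

end Groth.Agent.H24GE
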