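import Groth.Agent.H24GE.Existence
import Groth.Agent.H24GE.Kernels
import Groth.Agent.H29Blow.Basic
import Groth.Agent.H24FSch.Kernels

/-!
# Ideal sheaves annihilating formal modules, with proper zero locus
-/

set_option autoImplicit false
set_option linter.style.haveILetI false
set_option linter.unusedSectionVars false
universe u

open CategoryTheory CategoryTheory.Limits AlgebraicGeometry Opposite

namespace Groth.Agent.H24GE

open Groth.Agent.H24Formal Groth.Agent.H24Formal.HomC

/-- The zero locus is proper over the base. -/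
def ProperIdeal {X S : Scheme.{u}} (g : X ⟶ S) (L : X.IdealSheafData) : Prop := IsProper (L.subschemeι ≫ g)

section killer

variable {X : Scheme.{u}}

theorem properIdeal_iff {S : Scheme.{u}} (g : X ⟶ S) [LocallyOfFiniteType g] (L : X.IdealSheafData) :
    ProperIdeal g L ↔ ClSub.IsProperOver g (L.support : Set X) :=
  (LeadProper.isProperOver_iff g L.subschemeι (Scheme.IdealSheafData.range_subschemeι L)).symm

theorem properIdeal_mul {S : Scheme.{u}} (g : X ⟶ S) [LocallyOfFiniteType g] {L L' : X.IdealSheafData}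
    (h : ProperIdeal g L) (h' : ProperIdeal g L') : ProperIdeal g (L * L') := by
  rw [properIdeal_iff] at h h' ⊢
  have e : ((L * L').support : Set X) = ⋃ b : Bool, cond b (L.support : Set X) (L'.support : Set X) := by
    rw [Scheme.IdealSheafData.support_mul, TopologicalSpace.Closeds.coe_sup, ← Set.union_eq_iUnion]
  rw [e]
  exact LeadProper.isProperOver_iUnion g _ fun b => by cases b <;> assumption

/-- A section of a killed module away from the zero locus vanishes. -/
theorem eq_zero_of_disjoint {K : X.IdealSheafData} {M : X.Modules} (hk : ClSub.KilledByIdeal K M) {W : X.Opens}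
    (hW : ∀ x ∈ W, x ∉ K.support) (s : Γ(M, W)) : s = 0 := by
  refine H11Tilde.eq_of_locally _ _ fun x hx => ?_
  obtain ⟨V, hV, hxV, hle'⟩ := exists_isAffineOpen_mem_and_subset (U := W) hx
  have hle : V ≤ W := hle'
  have h1 : x ∉ X.zeroLocus (U := V) (K.ideal ⟨V, hV⟩) := fun h => hW x hx <| by
    have h2 : x ∈ X.zeroLocus (U := V) (K.ideal ⟨V, hV⟩) ∩ (V : Set X) := ⟨h, hxV⟩
    rw [← K.coe_support_inter ⟨V, hV⟩] at h2
    exact h2.1
  rw [Scheme.mem_zeroLocus_iff] at h1
  push Not at h1
  obtain ⟨a, ha, hxa⟩ := h1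
  refine ⟨X.basicOpen a, (X.basicOpen_le a).trans hle, hxa, ?_⟩
  rw [map_zero]
  let s' := M.presheaf.map (homOfLE hle).op s
  have h3 : a • s' = 0 := hk ⟨V, hV⟩ a ha s'
  have h4 := congrArg (M.presheaf.map (homOfLE (X.basicOpen_le a)).op) h3
  rw [Scheme.Modules.map_smul, map_zero] at h4
  have hu : IsUnit ((X.presheaf.map (homOfLE (X.basicOpen_le a)).op).hom a) :=
    AlgebraicGeometry.RingedSpace.isUnit_res_basicOpen _ a
  have h5 := hu.smul_eq_zero.1 h4
  refine Eq.trans ?_ h5
  show _ = M.presheaf.map _ (M.presheaf.map _ s)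
  rw [← ConcreteCategory.comp_apply, ← M.presheaf.map_comp]
  rfl

theorem killedByIdeal_mono {K K' : X.IdealSheafData} (h : K' ≤ K) {M : X.Modules} (hk : ClSub.KilledByIdeal K M) :
    ClSub.KilledByIdeal K' M := fun U a ha m => hk U a (h U ha) m

end killer

variable {A : Type u} [CommRing A] {X : Scheme.{u}} [X.Over (Spec (CommRingCat.of A))] {I : Ideal A}

/-- If the first level is killed by `L`, the `d`-th is killed by `L ^ (d + 1)`. -/
theorem killed_level [IsNoetherian X] (hI : I.FG) {G : ℕᵒᵖ ⥤ X.Modules} (hG : Formal.IsCohFormal I G)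
    {L : X.IdealSheafData} (h0 : ClSub.KilledByIdeal L (G.obj (op 0))) (d : ℕ) :
    ClSub.KilledByIdeal (L ^ (d + 1)) (G.obj (op d)) := by
  induction d with
  | zero => rwa [zero_add, pow_one]
  | succ d ih =>
    intro V a ha g
    haveI := isNoetherianRing_sections (X := X) V.2
    haveI := finite_sections' (hG.1 0) V.2
    let S := secSys hI hG V.2
    rw [Scheme.IdealSheafData.ideal_pow, Pi.pow_apply, pow_succ] at ha
    refine Submodule.mul_induction_on ha (fun b hb c hc => ?_)
      fun p q (hp : p • _ = 0) (hq : q • _ = 0) => by rw [add_smul, hp, hq, add_zero]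
    obtain ⟨x, rfl⟩ := S.π_surjective (d + 1) g
    have h1 : b • x ∈ secIdeal I V.1 ^ (d + 1) • (⊤ : Submodule Γ(X, V.1) Γ(limit G, V.1)) := by
      rw [← S.ker_eq_of_fg (IsNoetherian.noetherian _) d, LinearMap.mem_ker, map_smul]
      refine ih V b ?_ _
      rw [Scheme.IdealSheafData.ideal_pow, Pi.pow_apply]
      exact hb
    have h2 : ∀ y : Γ(limit G, V.1), c • y ∈ secIdeal I V.1 ^ (0 + 1) • (⊤ : Submodule Γ(X, V.1) Γ(limit G, V.1)) :=
      fun y => by
        rw [← S.ker_eq_of_fg (IsNoetherian.noetherian _) 0, LinearMap.mem_ker, map_smul]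
        exact h0 V c hc _
    have h3 : c • b • x ∈ secIdeal I V.1 ^ (d + 1 + 1) • (⊤ : Submodule Γ(X, V.1) Γ(limit G, V.1)) := by
      refine Submodule.smul_induction_on h1 (fun r hr y _ => ?_) fun p q hp hq => by rw [smul_add]; exact add_mem hp hq
      rw [smul_comm, pow_succ, Submodule.mul_smul]
      refine Submodule.smul_mem_smul hr ?_
      have h4 := h2 y
      rwa [zero_add, pow_one] at h4
    rw [← S.ker_eq_of_fg (IsNoetherian.noetherian _) (d + 1), LinearMap.mem_ker, map_smul, map_smul] at h3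
    rw [mul_comm b c]
    exact (mul_smul c b _).trans h3

/-- Pullback of a module killed by an ideal sheaf. -/
theorem killedByIdeal_pullback {Y : Scheme.{u}} [IsNoetherian X] (f : X ⟶ Y) {K : Y.IdealSheafData} {M : Y.Modules}
    (hM : Coh.IsQCoh M) (hk : ClSub.KilledByIdeal K M) :
    ClSub.KilledByIdeal (K.comap f) ((Scheme.Modules.pullback f).obj M) := by
  choose V U hxU e using fun x : X => exists_affines f x
  refine killedByIdeal_of_cover (K.comap f) (H29Fitt.isQCoh_pullback f M hM) U (fun x => ⟨x, hxU x⟩)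
    fun x a ha m => ?_
  letI := (f.appLE (V x).1 (U x).1 (e x)).hom.toAlgebra
  letI := Module.compHom Γ((Scheme.Modules.pullback f).obj M, (U x).1) (f.appLE (V x).1 (U x).1 (e x)).hom
  haveI : IsScalarTower Γ(Y, (V x).1) Γ(X, (U x).1) Γ((Scheme.Modules.pullback f).obj M, (U x).1) :=
    .of_algebraMap_smul fun _ _ => rfl
  have hb := H8Props.PullSections.isBaseChange_pullLin f M (e x) hM (V x).2 (U x).2
  rw [H29Blow.ideal_comap K f (V x) (U x) (e x)] at ha
  refine hb.inductionOn m (fun m => a • m = 0) (smul_zero a) (fun g => ?_)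
    (fun s w hw => by rw [smul_comm, hw, smul_zero]) fun p q hp hq => by rw [smul_add, hp, hq, add_zero]
  refine Submodule.span_induction (p := fun a _ => a • H8Props.PullSections.pullLin f M (e x) g = 0) ?_
    (zero_smul _ _) (fun p q _ _ hp hq => by rw [add_smul, hp, hq, add_zero])
    (fun r p _ hp => by rw [smul_eq_mul, mul_smul, hp, smul_zero]) ha
  rintro _ ⟨b, hb', rfl⟩
  show b • H8Props.PullSections.pullLin f M (e x) g = 0
  rw [← map_smul]
  exact (congrArg (H8Props.PullSections.pullLin f M (e x)) (hk (V x) b hb' g)).trans (map_zero _)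
where
  exists_affines {X Y : Scheme.{u}} (f : X ⟶ Y) (x : X) :
      ∃ (V : Y.affineOpens) (U : X.affineOpens), x ∈ U.1 ∧ U.1 ≤ f ⁻¹ᵁ V.1 := by
    obtain ⟨V, hV, hxV, -⟩ := exists_isAffineOpen_mem_and_subset (x := f x) (U := ⊤) trivial
    obtain ⟨U, hU, hxU, hUV⟩ := exists_isAffineOpen_mem_and_subset (x := x) (U := f ⁻¹ᵁ V) hxV
    exact ⟨⟨V, hV⟩, ⟨U, hU⟩, hxU, hUV⟩

section extend

variable {P : Scheme.{u}} [P.Over (Spec (CommRingCat.of A))] (o : X ⟶ P) [IsOpenImmersion o]
  (ho : o ≫ (P ↘ Spec (CommRingCat.of A)) = X ↘ Spec (CommRingCat.of A))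

variable [IsNoetherian X] [IsLocallyNoetherian P]

include ho in
/-- A formal module with support closed in a larger scheme extends to it. -/
theorem isCohFormal_push_open (hI : I.FG) {G : ℕᵒᵖ ⥤ X.Modules} (hG : Formal.IsCohFormal I G)
    {L : X.IdealSheafData} (h0 : ClSub.KilledByIdeal L (G.obj (op 0))) (hT : IsClosed (o '' (L.support : Set X))) :
    Formal.IsCohFormal I (G ⋙ Scheme.Modules.pushforward o) := by
  have hk : ∀ n, ClSub.KilledByIdeal (L ^ (n + 1)) (G.obj (op n)) := killed_level hI hG h0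
  have hcoh : ∀ n, Coh.IsCoh ((Scheme.Modules.pushforward o).obj (G.obj (op n))) := fun n => by
    let w := (L ^ (n + 1)).subschemeι
    haveI : IsClosedImmersion (w ≫ o) := by
      refine IsClosedImmersion.of_isPreimmersion _ ?_
      have : Set.range (w ≫ o) = o '' (L.support : Set X) := by
        rw [← Scheme.IdealSheafData.support_pow_succ L n, ← Scheme.IdealSheafData.range_subschemeι, ← Set.range_comp]
        rfl
      rw [this]
      exact hT
    haveI := LeadProper.isIso_unit_of_killedByIdeal (G.obj (op n)) (hG.1 n).1 w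
      (by rw [Scheme.IdealSheafData.ker_subschemeι]; exact hk n)
    have hM : Coh.IsCoh ((Scheme.Modules.pullback w).obj (G.obj (op n))) :=
      H17.ConsProp.isCoh_pullback w (hG.1 n)
    exact H10Coh.isCoh_of_iso
      (((Scheme.Modules.pushforwardComp w o).symm.app _) ≪≫ (Scheme.Modules.pushforward o).mapIso
        (asIso ((Scheme.Modules.pullbackPushforwardAdjunction w).unit.app (G.obj (op n)))).symm)
      (isCoh_pushforward (w ≫ o) hM)
  have hout : ∀ n (W : P.Opens) (y : P), y ∈ W → y ∉ Set.range o →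
      ∃ W' : P.Opens, W' ≤ W ∧ y ∈ W' ∧ ∀ s : Γ((Scheme.Modules.pushforward o).obj (G.obj (op n)), W'), s = 0 :=
    fun n W y hy hyo => by
      refine ⟨W ⊓ ⟨(o '' (L.support : Set X))ᶜ, hT.isOpen_compl⟩, inf_le_left,
        ⟨hy, fun ⟨z, _, hz⟩ => hyo ⟨z, hz⟩⟩, fun s => ?_⟩
      refine eq_zero_of_disjoint
        (W := o ⁻¹ᵁ (W ⊓ ⟨(o '' (L.support : Set X))ᶜ, hT.isOpen_compl⟩)) (hk n) (fun x hx hxs => ?_) s
      rw [Scheme.IdealSheafData.support_pow_succ] at hxs
      exact hx.2 ⟨x, hxs, rfl⟩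
  refine ⟨hcoh, fun n => killedBy_push o ho I (hG.2.1 n), fun n => ?_⟩
  let t := G.map (homOfLE (Nat.le_succ n)).op
  let e := (Scheme.Modules.pushforward o).map t
  have hz : Formal.smulFamily (I ^ (n + 1)) ((Scheme.Modules.pushforward o).obj (G.obj (op (n + 1)))) ≫ e = 0 :=
    smulFamily_comp_eq_zero _ (killedBy_push o ho I (hG.2.1 n))
  refine ⟨hz, ?_⟩
  have hepi : Epi e := H11Tilde.epi_of_locally_surjective _ fun W s y hy => by
    by_cases hyo : y ∈ Set.range o
    · obtain ⟨V, hV, hle, hyV⟩ := exists_affine_le (W := W ⊓ o.opensRange) ⟨hy, hyo⟩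
      have hU : IsAffineOpen (o ⁻¹ᵁ V) := hV.preimage_of_isOpenImmersion o (hle.trans inf_le_right)
      refine ⟨V, hle.trans inf_le_left, hyV, ?_⟩
      exact (secSys hI hG hU).hf n _
    · obtain ⟨W', hle, hyW, h⟩ := hout n W y hy hyo
      exact ⟨W', hle, hyW, 0, (map_zero _).trans (h _).symm⟩
  let q := cokernel.π (Formal.smulFamily (I ^ (n + 1)) ((Scheme.Modules.pushforward o).obj (G.obj (op (n + 1)))))
  have hker : kernel.ι e ≫ q = 0 := by
    refine H24Formal.hom_ext_app _ _ fun W w => H11Tilde.eq_of_locally _ _ fun y hy => ?_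
    by_cases hyo : y ∈ Set.range o
    · obtain ⟨V, hV, hle, hyV⟩ := exists_affine_le (W := W ⊓ o.opensRange) ⟨hy, hyo⟩
      have hU : IsAffineOpen (o ⁻¹ᵁ V) := hV.preimage_of_isOpenImmersion o (hle.trans inf_le_right)
      refine ⟨V, hle.trans inf_le_left, hyV, ?_⟩
      refine (H11Tilde.app_map_apply (kernel.ι e ≫ q) (hle.trans inf_le_left) w).symm.trans
        (Eq.trans ?_ (map_zero _).symm)
      let x := (kernel.ι e).app V ((kernel e).presheaf.map (homOfLE (hle.trans inf_le_left)).op w)
      let x' : Γ(G.obj (op (n + 1)), o ⁻¹ᵁ V) := x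
      have h2 : x' ∈ secIdeal I (o ⁻¹ᵁ V) ^ (n + 1) •
          (⊤ : Submodule Γ(X, o ⁻¹ᵁ V) Γ(G.obj (op (n + 1)), o ⁻¹ᵁ V)) := by
        rw [← (secSys hI hG hU).hker n, LinearMap.mem_ker]
        exact app_congr (kernel.condition e) V _
      have hsur : Function.Surjective (o.appLE V (o ⁻¹ᵁ V) le_rfl).hom := by
        rw [← Scheme.Hom.app_eq_appLE]
        haveI := o.isIso_app V (hle.trans inf_le_right)
        exact (ConcreteCategory.bijective_of_isIso (o.app V)).2
      let up : Γ(G.obj (op (n + 1)), o ⁻¹ᵁ V) → preSec o (G.obj (op (n + 1))) V := fun q => q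
      have h4 : up x' ∈ secIdeal I V ^ (n + 1) • (⊤ : Submodule Γ(P, V) (preSec o (G.obj (op (n + 1))) V)) := by
        refine Submodule.smul_induction_on h2 (p := fun q => up q ∈ secIdeal I V ^ (n + 1) •
          (⊤ : Submodule Γ(P, V) (preSec o (G.obj (op (n + 1))) V))) (fun r hr z _ => ?_) fun p q hp hq => add_mem hp hq
        rw [← secIdeal_map o ho I (le_rfl : o ⁻¹ᵁ V ≤ o ⁻¹ᵁ V), ← Ideal.map_pow] at hr
        obtain ⟨b, hb, rfl⟩ := (Ideal.mem_map_iff_of_surjective _ hsur).1 hr
        rw [← Scheme.Hom.app_eq_appLE]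
        exact Submodule.smul_mem_smul hb (Submodule.mem_top (x := up z))
      show q.app V x = 0
      rw [← secIdeal_pow] at h4
      exact Submodule.smul_induction_on (p := fun z => q.app V z = 0) h4
        (fun a ha z _ => (q.app_smul a z).trans (smul_eq_zero_of_killedBy (killedBy_cokernel _ _) V ha _))
        fun p p' hp hp' => by rw [map_add, hp, hp', add_zero]
    · obtain ⟨W', hle, hyW, h⟩ := hout (n + 1) W y hy hyo
      refine ⟨W', hle, hyW, ?_⟩
      refine (H11Tilde.app_map_apply (kernel.ι e ≫ q) hle w).symm.trans (Eq.trans ?_ (map_zero _).symm)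
      show q.app W' ((kernel.ι e).app W' _) = 0
      rw [h ((kernel.ι e).app W' _), map_zero]
  haveI := hepi
  let g := Abelian.epiDesc e q hker
  have hg : e ≫ g = q := Abelian.comp_epiDesc e q hker
  have hd : q ≫ cokernel.desc _ e hz = e := cokernel.π_desc _ _ _
  refine ⟨g, ?_, ?_⟩
  · refine (cancel_epi q).1 ?_
    exact (Category.assoc _ _ _).symm.trans ((congrArg (· ≫ g) hd).trans (hg.trans (Category.comp_id _).symm))
  · refine (cancel_epi e).1 ?_
    exact (Category.assoc _ _ _).symm.trans ((congrArg (· ≫ cokernel.desc _ e hz) hg).trans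
      (hd.trans (Category.comp_id _).symm))

end extend

end Groth.Agent.H24GE
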