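import Groth.Agent.H24GE.Core
import Groth.Agent.LeadDev.Basic

/-!
# Algebraization from algebraization modulo powers of an ideal sheaf
-/

set_option autoImplicit false
set_option linter.style.haveILetI false
set_option linter.unusedSectionVars false
universe u

open CategoryTheory CategoryTheory.Limits AlgebraicGeometry Opposite

namespace Groth.Agent.H24GE

open Groth.Agent.H24Formal Groth.Agent.H24Formal.HomC

variable {A : Type u} [CommRing A] {X : Scheme.{u}} [X.Over (Spec (CommRingCat.of A))]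

/-- Existence and uniqueness of algebraizations for the modules killed by an ideal sheaf. -/
def AlgKilled (I : Ideal A) (K : X.IdealSheafData) : Prop :=
  (∀ (M N : X.Modules), Coh.IsCoh M → Coh.IsCoh N → ClSub.KilledByIdeal K M →
    ClSub.KilledByIdeal K N → ∀ ψ : Formal.completion I M ⟶ Formal.completion I N,
      ∃! φ : M ⟶ N, ∀ n : ℕ, Formal.modPowπ I (n + 1) M ≫ ψ.app (op n) = φ ≫ Formal.modPowπ I (n + 1) N) ∧
  (∀ G : ℕᵒᵖ ⥤ X.Modules, Formal.IsCohFormal I G → (∀ n : ℕ, ClSub.KilledByIdeal K (G.obj (op n))) →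
    ∃ M : X.Modules, Coh.IsCoh M ∧ ClSub.KilledByIdeal K M ∧ Nonempty (Formal.completion I M ≅ G))

variable [IsNoetherian X] {I : Ideal A}

theorem eq_complMap {M N : X.Modules} {ψ : Formal.completion I M ⟶ Formal.completion I N} {φ : M ⟶ N}
    (h : ∀ n : ℕ, Formal.modPowπ I (n + 1) M ≫ ψ.app (op n) = φ ≫ Formal.modPowπ I (n + 1) N) :
    ψ = complMap I φ :=
  complMap_ext I fun n => (h n).trans (π_complMap I φ n).symm

theorem complMap_neg {M N : X.Modules} (u : M ⟶ N) : complMap I (-u) = -complMap I u :=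
  eq_neg_of_add_eq_zero_left (by rw [← complMap_add, neg_add_cancel, complMap_zero])

theorem killedByIdeal_compl {K : X.IdealSheafData} {N : X.Modules} (hN : Coh.IsCoh N)
    (hk : ClSub.KilledByIdeal K N) (n : ℕ) : ClSub.KilledByIdeal K ((Formal.completion I N).obj (op n)) :=
  @killedByIdeal_of_epi _ _ _ _ hN.1 ((isCohFormal_compl (I := I) hN).1 n).1 (Formal.modPowπ I (n + 1) N)
    coequalizer.π_epi hk

theorem killedByIdeal_of_le {K : X.IdealSheafData} {a b : ℕ} (h : a ≤ b) {M : X.Modules}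
    (hk : ClSub.KilledByIdeal (K ^ a) M) : ClSub.KilledByIdeal (K ^ b) M := fun U r hr m => by
  rw [Scheme.IdealSheafData.ideal_pow, Pi.pow_apply] at hr
  refine hk U r ?_ m
  rw [Scheme.IdealSheafData.ideal_pow, Pi.pow_apply]
  exact Ideal.pow_le_pow_right h hr

theorem smul_eq_zero_of_ker {K : X.IdealSheafData} {M N : X.Modules} (f : M ⟶ N)
    (hk : ClSub.KilledByIdeal K (kernel f)) (V : X.affineOpens) (x : Γ(M, V.1)) (hx : f.app V.1 x = 0)
    {a : Γ(X, V.1)} (ha : a ∈ K.ideal V) : a • x = 0 := by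
  obtain ⟨z, rfl⟩ := exists_kernel_section f V.1 x hx
  exact ((kernel.ι f).app_smul a z).symm.trans ((congrArg ((kernel.ι f).app V.1) (hk V a ha z)).trans (map_zero _))

theorem exact_comp_mono {D : Type*} [Category D] [Abelian D] {P M N N' : D} {a : P ⟶ M} {g : M ⟶ N} (w : a ≫ g = 0)
    (h : (ShortComplex.mk a g w).Exact) (m : N ⟶ N') (hm : Mono m) (w' : a ≫ g ≫ m = 0) :
    (ShortComplex.mk a (g ≫ m) w').Exact := by
  let S₁ := ShortComplex.mk a g w
  let S₂ := ShortComplex.mk a (g ≫ m) w'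
  let e : S₁ ⟶ S₂ :=
    { τ₁ := 𝟙 P, τ₂ := 𝟙 M, τ₃ := m
      comm₁₂ := (Category.id_comp _).trans (Category.comp_id _).symm
      comm₂₃ := Category.id_comp _ }
  haveI : Epi e.τ₁ := inferInstanceAs (Epi (𝟙 P))
  haveI : IsIso e.τ₂ := inferInstanceAs (IsIso (𝟙 M))
  haveI : Mono e.τ₃ := ‹Mono m›
  exact (ShortComplex.exact_iff_of_epi_of_isIso_of_mono e).1 h

theorem app_comp_eq {F G H : ℕᵒᵖ ⥤ X.Modules} (a : F ⟶ G) (b : G ⟶ H) (c : F ⟶ H) (e : a ≫ b = c) (n : ℕ)
    (V : X.Opens) (x : Γ(F.obj (op n), V)) :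
    (b.app (op n)).app V ((a.app (op n)).app V x) = (c.app (op n)).app V x := by
  subst e; rfl

theorem app_eq_zero_of_comp {F G H : ℕᵒᵖ ⥤ X.Modules} (a : F ⟶ G) (b : G ⟶ H) (c : F ⟶ H) (e : a ≫ b = c) (n : ℕ)
    (V : X.Opens) (x : Γ(F.obj (op n), V)) (hx : (a.app (op n)).app V x = 0) : (c.app (op n)).app V x = 0 := by
  rw [← app_comp_eq a b c e n V x, hx, map_zero]

theorem complMap_biprod_ext {M N : X.Modules} (n : ℕ) (V : X.Opens)
    (y z : Γ((Formal.completion I (M ⊞ N)).obj (op n), V))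
    (h₁ : ((complMap I (biprod.fst : M ⊞ N ⟶ M)).app (op n)).app V y =
      ((complMap I (biprod.fst : M ⊞ N ⟶ M)).app (op n)).app V z)
    (h₂ : ((complMap I (biprod.snd : M ⊞ N ⟶ N)).app (op n)).app V y =
      ((complMap I (biprod.snd : M ⊞ N ⟶ N)).app (op n)).app V z) : y = z := by
  have htot : complMap I (biprod.fst : M ⊞ N ⟶ M) ≫ complMap I biprod.inl +
      complMap I (biprod.snd : M ⊞ N ⟶ N) ≫ complMap I biprod.inr = 𝟙 _ := by
    rw [← complMap_comp, ← complMap_comp, ← complMap_add, biprod.total, complMap_id]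
  have key : ∀ w : Γ((Formal.completion I (M ⊞ N)).obj (op n), V),
      ((complMap I biprod.inl).app (op n)).app V (((complMap I (biprod.fst : M ⊞ N ⟶ M)).app (op n)).app V w) +
        ((complMap I biprod.inr).app (op n)).app V (((complMap I (biprod.snd : M ⊞ N ⟶ N)).app (op n)).app V w) = w :=
    fun w => app_congr (congr_app htot (op n)) V w
  rw [← key y, ← key z, h₁, h₂]

/-- Maps to completions of modules killed by `K` are algebraic. -/
theorem exists_hom {K : X.IdealSheafData} (hK : AlgKilled I K) {H N : X.Modules} (hH : Coh.IsCoh H)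
    (hN : Coh.IsCoh N) (hk : ClSub.KilledByIdeal K N) (ψ : Formal.completion I H ⟶ Formal.completion I N) :
    ∃ φ : H ⟶ N, complMap I φ = ψ := by
  have hex : ∀ n : ℕ, ∃ g : (qm K).obj H ⟶ (Formal.completion I N).obj (op n),
      qmη K H ≫ g = Formal.modPowπ I (n + 1) H ≫ ψ.app (op n) := fun n =>
    exists_qm_desc K ((isCohFormal_compl (I := I) hN).1 n).1 (killedByIdeal_compl hN hk n) _
  choose g hg using hex
  haveI : Epi (qmη K H) := epi_qmη K hH.1
  have hz : ∀ n, Formal.smulFamily (I ^ (n + 1)) ((qm K).obj H) ≫ g n = 0 := fun n =>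
    smulFamily_comp_eq_zero _ ((isCohFormal_compl hN).2.1 n)
  let ψ' : Formal.completion I ((qm K).obj H) ⟶ Formal.completion I N :=
    NatTrans.ofOpSequence (fun n => cokernel.desc _ (g n) (hz n)) fun n => by
      refine coequalizer.hom_ext ?_
      refine (cancel_epi (qmη K H)).1 ?_
      refine (congrArg (qmη K H ≫ ·) ((Category.assoc _ _ _).symm.trans ((congrArg (· ≫ _)
        (modPowπ_map I _ (Nat.le_succ n))).trans (cokernel.π_desc _ _ _)))).trans ?_
      refine (hg n).trans ?_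
      refine Eq.trans ?_ (congrArg (qmη K H ≫ ·) (cokernel.π_desc_assoc _ (g (n + 1)) (hz (n + 1)) _)).symm
      rw [← Category.assoc, hg]
      refine Eq.trans ?_ ((congrArg (Formal.modPowπ I (n + 1 + 1) H ≫ ·) (ψ.naturality _)).trans
        (Category.assoc _ _ _).symm)
      exact (congrArg (· ≫ ψ.app (op n)) (modPowπ_map I H (Nat.le_succ n)).symm).trans (Category.assoc _ _ _)
  obtain ⟨φ', hφ', -⟩ := hK.1 _ _ (isCoh_qm K hH) hN (killed_qm K H) hk ψ'
  refine ⟨qmη K H ≫ φ', complMap_ext I fun n => ?_⟩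
  rw [π_complMap, Category.assoc, ← hφ' n]
  refine Eq.trans ?_ (hg n)
  exact congrArg (qmη K H ≫ ·) (cokernel.π_desc _ _ _)

/-- The formal module is the fibre product of a module killed by `K ^ m` and the completion it maps onto. -/
theorem left_main (hI : I.FG) (K : X.IdealSheafData) (t m : ℕ) {F : ℕᵒᵖ ⥤ X.Modules} (hF : Formal.IsCohFormal I F)
    (hm : ∀ (T : ℕᵒᵖ ⥤ X.Modules) (α : F ⟶ T), (∀ n, Coh.IsQCoh (T.obj (op n))) →
      (∀ n (V : X.affineOpens) (x : Γ(F.obj (op n), V.1)), (α.app (op n)).app V.1 x = 0 →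
        (∀ a ∈ (K ^ (t + 1)).ideal V, a • x = 0) ∧
          x ∈ (K ^ m).ideal V • (⊤ : Submodule Γ(X, V.1) Γ(F.obj (op n), V.1))) →
      Mono (limMap α))
    {H' M : X.Modules} (hH' : Coh.IsCoh H') (hM : Coh.IsCoh M) (β : F ⟶ Formal.completion I H')
    (hβe : ∀ n, Epi (β.app (op n)))
    (hβk : ∀ n (V : X.affineOpens) (x : Γ(F.obj (op n), V.1)), (β.app (op n)).app V.1 x = 0 →
      ∀ a ∈ (K ^ (t + 1)).ideal V, a • x = 0)
    (j : Formal.completion I M ≅ qmSys (K ^ m) F)
    (γ : qmSys (K ^ m) F ⟶ Formal.completion I ((qm (K ^ m)).obj H'))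
    (hγη : qmSysη (K ^ m) F ≫ γ = β ≫ complMap I (qmη (K ^ m) H'))
    (v : M ⟶ (qm (K ^ m)).obj H') (hv' : complMap I v = j.hom ≫ γ) :
    ∃ (F' : X.Modules) (p : F' ⟶ M) (r : F' ⟶ H') (e : F ≅ Formal.completion I F'), Coh.IsCoh F' ∧
      (∀ (Z : X.Modules) (g : Z ⟶ F'), g ≫ p = 0 → g ≫ r = 0 → g = 0) ∧
      (∀ (V : X.affineOpens) (b : Γ(X, V.1)), b ∈ (K ^ m).ideal V → ∀ x' : Γ(H', V.1),
        ∃ z, r.app V.1 z = b • x') ∧
      e.hom ≫ complMap I r = β := by
  let q := qmη (K ^ m) H'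
  have hH₁ := isCoh_qm (K ^ m) hH'
  let u : M ⊞ H' ⟶ (qm (K ^ m)).obj (H') := biprod.desc v (-q)
  have hH₂ : Coh.IsCoh (M ⊞ H') := LeadDev.isCoh_biprod hM hH'
  obtain ⟨α', hfst, hsnd, hu⟩ : ∃ α' : F ⟶ Formal.completion I (M ⊞ H'),
      α' ≫ complMap I biprod.fst = qmSysη (K ^ m) F ≫ j.inv ∧ α' ≫ complMap I biprod.snd = β ∧
        α' ≫ complMap I u = 0 := by
    refine ⟨(qmSysη (K ^ m) F ≫ j.inv) ≫ complMap I biprod.inl + β ≫ complMap I biprod.inr, ?_, ?_, ?_⟩
    · simp only [Preadditive.add_comp, Category.assoc, ← complMap_comp, biprod.inl_fst, biprod.inr_fst,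
        complMap_id, complMap_zero, Category.comp_id, comp_zero, add_zero]
    · simp only [Preadditive.add_comp, Category.assoc, ← complMap_comp, biprod.inl_snd, biprod.inr_snd,
        complMap_id, complMap_zero, Category.comp_id, comp_zero, zero_add]
    · simp only [u, q, Preadditive.add_comp, Category.assoc, ← complMap_comp, biprod.inl_desc, biprod.inr_desc,
        complMap_neg, Preadditive.comp_neg, hv', Iso.inv_hom_id_assoc, hγη, Preadditive.neg_comp, add_neg_cancel]
  have hw : ∀ n, α'.app (op n) ≫ (complMap I u).app (op n) = 0 := fun n => by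
    rw [← NatTrans.comp_app, hu]; rfl
  haveI : Mono (limMap α') := by
    refine hm _ α' (fun n => ((isCohFormal_compl (I := I) hH₂).1 n).1) fun n V x hx =>
      ⟨hβk n V x (app_eq_zero_of_comp α' _ β hsnd n V.1 x hx), ?_⟩
    · refine (qmη_eq_zero_iff (K ^ m) (hF.1 n).1 V.2 x).1 ?_
      have h1 : ((qmSysη (K ^ m) F ≫ j.inv).app (op n)).app V.1 x = 0 :=
        app_eq_zero_of_comp α' _ _ hfst n V.1 x hx
      refine (app_congr (j.inv_hom_id_app (op n)) V.1 (((qmSysη (K ^ m) F).app (op n)).app V.1 x)).symm.trans ?_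
      exact (congrArg ((j.hom.app (op n)).app V.1) h1).trans (map_zero _)
  have hexact : ∀ n, (ShortComplex.mk _ _ (hw n)).Exact := fun n => by
    refine H11Tilde.exact_of_locally _ fun W s hs x hx => ?_
    obtain ⟨V, hV, hle, hxV⟩ := exists_affine_le hx
    refine ⟨V, hle, hxV, ?_⟩
    let y : Γ((Formal.completion I (M ⊞ H')).obj (op n), V) :=
      ((Formal.completion I (M ⊞ H')).obj (op n)).presheaf.map (homOfLE hle).op s
    have hy : ((complMap I u).app (op n)).app V y = 0 :=
      (H11Tilde.app_map_apply ((complMap I u).app (op n)) hle s).trans ((congrArg _ hs).trans (map_zero _))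
    let p := ((complMap I (biprod.fst : M ⊞ H' ⟶ M)).app (op n)).app V y
    let h := ((complMap I (biprod.snd : M ⊞ H' ⟶ H')).app (op n)).app V y
    obtain ⟨f, hf⟩ := surjective_qmη (K ^ m) (hF.1 n).1 hV ((j.hom.app (op n)).app V p)
    have hvp : ((complMap I v).app (op n)).app V p = ((complMap I q).app (op n)).app V h := by
      rw [← sub_eq_zero]
      have hue : complMap I u = complMap I biprod.fst ≫ complMap I v + -(complMap I biprod.snd ≫ complMap I q) := by
        have hue0 : u = biprod.fst ≫ v + -(biprod.snd ≫ q) := by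
          simp only [u, biprod.desc_eq, Preadditive.comp_neg]
        rw [hue0, complMap_add, complMap_neg, complMap_comp, complMap_comp]
      rw [hue] at hy
      rw [sub_eq_add_neg]
      exact hy
    let d := h - (β.app (op n)).app V f
    have hd : ((complMap I q).app (op n)).app V d = 0 := by
      refine (map_sub _ _ _).trans (sub_eq_zero.2 (hvp.symm.trans ?_))
      rw [hv']
      refine (congrArg ((γ.app (op n)).app V) hf).symm.trans ?_
      exact app_congr (congr_app hγη (op n)) V f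
    haveI : Epi q := epi_qmη (K ^ m) hH'.1
    let S₁ := ShortComplex.mk (kernel.ι q) q (kernel.condition q)
    obtain ⟨z, hz⟩ := exists_app_complMap (kernel.ι q) hI (H10Coh.isCoh_kernel q hH' hH₁.1) hH' hH₁ q
      (kernel.condition q) (ShortComplex.exact_of_f_is_kernel S₁ (kernelIsKernel q)) hV n d hd
    have hz' : (kernel.ι q).app V z ∈ (K ^ m).ideal ⟨V, hV⟩ • (⊤ : Submodule Γ(X, V) Γ(H', V)) :=
      (qmη_eq_zero_iff (K ^ m) hH'.1 hV _).1 (app_congr (kernel.condition q) V z)
    have h2 := Submodule.mem_map_of_mem (f := appL (Formal.modPowπ I (n + 1) (H')) V) hz'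
    rw [Submodule.map_smul''] at h2
    have hd2 : d ∈ (K ^ m).ideal ⟨V, hV⟩ •
        (⊤ : Submodule Γ(X, V) Γ((Formal.completion I (H')).obj (op n), V)) := by
      rw [← hz]
      erw [← comp_app_apply, π_complMap]
      exact Submodule.smul_mono le_rfl le_top h2
    haveI := hβe n
    haveI : (F.obj (op n)).IsQuasicoherent := (hF.1 n).1
    haveI : ((Formal.completion I (H')).obj (op n)).IsQuasicoherent := ((isCohFormal_compl (I := I) hH').1 n).1
    have hsur : LinearMap.range (appL (β.app (op n)) V) = ⊤ :=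
      LinearMap.range_eq_top.2 (H10Coh.surjective_app_of_epi _ hV)
    rw [← hsur, LinearMap.range_eq_map, ← Submodule.map_smul''] at hd2
    obtain ⟨g', hg', hg'd⟩ := hd2
    refine ⟨f + g', ?_⟩
    show (α'.app (op n)).app V (f + g') = y
    have hη : ((qmSysη (K ^ m) F).app (op n)).app V g' = 0 := (qmη_eq_zero_iff (K ^ m) (hF.1 n).1 hV g').2 hg'
    have e1 : ((qmSysη (K ^ m) F ≫ j.inv).app (op n)).app V (f + g') = p := by
      refine (congrArg ((j.inv.app (op n)).app V)
        (((map_add _ _ _).trans (congrArg (((qmSysη (K ^ m) F).app (op n)).app V f + ·) hη)).trans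
          ((add_zero _).trans hf))).trans ?_
      exact app_congr (j.hom_inv_id_app (op n)) V p
    have e2 : (β.app (op n)).app V (f + g') = h := by
      refine (map_add _ _ _).trans ?_
      rw [show (β.app (op n)).app V g' = d from hg'd]
      exact add_sub_cancel _ _
    refine complMap_biprod_ext n V _ y ?_ ?_
    · exact (app_comp_eq α' _ _ hfst n V (f + g')).trans e1
    · exact (app_comp_eq α' _ _ hsnd n V (f + g')).trans e2
  obtain ⟨e, he⟩ := main hI hH₂ hH₁ u hF α' hw hexact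
  refine ⟨kernel u, kernel.ι u ≫ biprod.fst, kernel.ι u ≫ biprod.snd, e, H10Coh.isCoh_kernel u hH₂ hH₁.1,
    fun Z g h₁ h₂ => ?_, fun V b hb x' => ?_, ?_⟩
  · rw [← cancel_mono (kernel.ι u), zero_comp]
    refine biprod.hom_ext _ _ ?_ ?_
    · rw [Category.assoc, zero_comp]; exact h₁
    · rw [Category.assoc, zero_comp]; exact h₂
  · have hqb : q.app V.1 (b • x') = 0 := (q.app_smul b x').trans (killed_qm (K ^ m) H' V b hb _)
    obtain ⟨z, hz⟩ := exists_kernel_section u V.1 ((biprod.inr : H' ⟶ M ⊞ H').app V.1 (b • x')) (by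
      refine (app_congr (biprod.inr_desc v (-q)) V.1 (b • x')).trans ?_
      show -(q.app V.1 (b • x')) = 0
      rw [hqb, neg_zero])
    refine ⟨z, ?_⟩
    show (biprod.snd : M ⊞ H' ⟶ H').app V.1 ((kernel.ι u).app V.1 z) = b • x'
    rw [hz]
    exact app_congr biprod.inr_snd V.1 _
  · rw [complMap_comp, ← Category.assoc, he, hsnd]

/-- Algebraization of a map to a completion with kernels and cokernels killed by powers of `K`. -/
theorem left (hI : I.FG) (K : X.IdealSheafData) (hK : ∀ e : ℕ, AlgKilled I (K ^ e)) {H : X.Modules}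
    (hH : Coh.IsCoh H) {F : ℕᵒᵖ ⥤ X.Modules} (hF : Formal.IsCohFormal I F) (α : F ⟶ Formal.completion I H)
    (hα : Formal2.KerCokerKilledByPow K α) :
    ∃ (F' : X.Modules) (a : F' ⟶ H) (β : F ≅ Formal.completion I F'), Coh.IsCoh F' ∧
      Formal2.KerCokerKilledByPowHom K a ∧ β.hom ≫ complMap I a = α := by
  obtain ⟨t, ht⟩ := hα
  -- the cokernels come from a module
  obtain ⟨C, hC, hCk, ⟨i⟩⟩ := (hK (t + 1)).2 (cokSys α) (isCohFormal_cokSys hF (isCohFormal_compl hH) α)
    fun n => (ht n).2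
  obtain ⟨φ, hφ⟩ := exists_hom (hK (t + 1)) hH hC hCk (cokSysπ α ≫ i.inv)
  have happ : ∀ n, (complMap I φ).app (op n) = cokernel.π (α.app (op n)) ≫ i.inv.app (op n) := fun n => by
    rw [hφ]; rfl
  have w0 : ∀ n, α.app (op n) ≫ (complMap I φ).app (op n) = 0 := fun n => by
    rw [happ]
    exact (Category.assoc _ _ _).symm.trans ((congrArg (· ≫ i.inv.app (op n)) (cokernel.condition _)).trans zero_comp)
  have hex : ∀ n, (ShortComplex.mk _ _ (w0 n)).Exact := fun n => by
    have hcast : ∀ (g : (Formal.completion I H).obj (op n) ⟶ (Formal.completion I C).obj (op n)) (w),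
        g = cokernel.π (α.app (op n)) ≫ i.inv.app (op n) → (ShortComplex.mk (α.app (op n)) g w).Exact := by
      intro g w hg
      subst hg
      exact exact_comp_mono _ (ShortComplex.exact_cokernel _) _
        (@IsIso.mono_of_iso _ _ _ _ _ ⟨i.hom.app (op n), i.inv_hom_id_app _, i.hom_inv_id_app _⟩) w
    exact hcast _ _ (happ n)
  have hH' := H10Coh.isCoh_kernel φ hH hC.1
  let S := ShortComplex.mk (kernel.ι φ) φ (kernel.condition φ)
  have hS : S.Exact := ShortComplex.exact_of_f_is_kernel S (kernelIsKernel φ)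
  haveI : Mono S.f := inferInstanceAs (Mono (kernel.ι φ))
  obtain ⟨β, hβ⟩ : ∃ β : F ⟶ Formal.completion I (kernel φ), β ≫ complMap I (kernel.ι φ) = α :=
    exists_lift hI hS hH' hH hC hF α (by ext j : 2; exact w0 j.unop)
  have hβe : ∀ n, Epi (β.app (op n)) := epi_lift hI hH hC φ hF α w0 hex β hβ
  have hβk : ∀ n (V : X.affineOpens) (x : Γ(F.obj (op n), V.1)), (β.app (op n)).app V.1 x = 0 →
      ∀ a ∈ (K ^ (t + 1)).ideal V, a • x = 0 := fun n V x hx a ha => by
    refine smul_eq_zero_of_ker (α.app (op n)) (ht n).1 V x ?_ ha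
    rw [← hβ]
    exact (congrArg (((complMap I (kernel.ι φ)).app (op n)).app V.1) hx).trans (map_zero _)
  obtain ⟨m, hm⟩ := exists_mono_bound hI hF K (t + 1)
  -- the truncations modulo `K ^ m` come from a module
  obtain ⟨M, hM, hMk, ⟨j⟩⟩ := (hK m).2 (qmSys (K ^ m) F) (isCohFormal_qmSys (K ^ m) hF)
    fun n => killed_qm (K ^ m) _
  let q := qmη (K ^ m) (kernel φ)
  have hH₁ := isCoh_qm (K ^ m) hH'
  have hk₁ := killed_qm (K ^ m) (kernel φ)
  have hγex : ∀ n : ℕ, ∃ g : (qmSys (K ^ m) F).obj (op n) ⟶ (Formal.completion I ((qm (K ^ m)).obj (kernel φ))).obj (op n),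
      (qmSysη (K ^ m) F).app (op n) ≫ g = (β ≫ complMap I q).app (op n) := fun n =>
    exists_qm_desc (K ^ m) ((isCohFormal_compl (I := I) hH₁).1 n).1 (killedByIdeal_compl hH₁ hk₁ n) _
  choose g hg using hγex
  let γ : qmSys (K ^ m) F ⟶ Formal.completion I ((qm (K ^ m)).obj (kernel φ)) :=
    NatTrans.ofOpSequence g fun n => by
      haveI : Epi ((qmSysη (K ^ m) F).app (op (n + 1))) := epi_qmη (K ^ m) (hF.1 (n + 1)).1
      rw [← cancel_epi ((qmSysη (K ^ m) F).app (op (n + 1))), ← Category.assoc, ← NatTrans.naturality, Category.assoc,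
        hg, ← Category.assoc, hg]
      exact (β ≫ complMap I q).naturality _
  obtain ⟨v, hv, -⟩ := (hK m).1 M _ hM hH₁ hMk hk₁ (j.hom ≫ γ)
  have hv' : complMap I v = j.hom ≫ γ := (eq_complMap hv).symm
  have hγη : qmSysη (K ^ m) F ≫ γ = β ≫ complMap I q := by
    ext k : 2
    exact hg k.unop
  obtain ⟨F', p, r, e, hF', hjm, hsurj, her⟩ :=
    left_main hI K t m hF hm hH' hM β hβe hβk j γ hγη v hv'
  let a : F' ⟶ H := r ≫ kernel.ι φ
  refine ⟨F', a, e, hF', ⟨m + t, ?_, ?_⟩, ?_⟩
  · haveI : Mono (kernel.ι a ≫ p) := Preadditive.mono_of_cancel_zero _ fun {Z} g hg => by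
      rw [← cancel_mono (kernel.ι a), zero_comp]
      refine hjm Z _ (by rw [Category.assoc]; exact hg) ?_
      rw [← cancel_mono (kernel.ι φ), zero_comp, Category.assoc, Category.assoc, kernel.condition, comp_zero]
    exact killedByIdeal_of_le (show m ≤ m + t + 1 by omega) (killedByIdeal_of_mono (kernel.ι a ≫ p) hMk)
  · intro V r' hr s
    haveI : H.IsQuasicoherent := hH.1
    haveI : (cokernel a).IsQuasicoherent := (H10Coh.isCoh_cokernel a hF'.1 hH).1
    obtain ⟨x, rfl⟩ := H10Coh.surjective_app_of_epi (cokernel.π a) V.2 s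
    refine ((cokernel.π a).app_smul r' x).symm.trans ?_
    rw [Scheme.IdealSheafData.ideal_pow, Pi.pow_apply, Nat.add_assoc, pow_add] at hr
    refine Submodule.mul_induction_on hr (fun b hb c hc => ?_) fun b c hb hc => by
      rw [add_smul, map_add, hb, hc]
      exact add_zero 0
    have hcx : φ.app V.1 (c • x) = 0 := (φ.app_smul c x).trans (hCk V c (by
      rw [Scheme.IdealSheafData.ideal_pow, Pi.pow_apply]; exact hc) _)
    obtain ⟨x', hx'⟩ := exists_kernel_section φ V.1 _ hcx
    obtain ⟨z, hz⟩ := hsurj V b (by rw [Scheme.IdealSheafData.ideal_pow, Pi.pow_apply]; exact hb) x'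
    have hb' : (b * c) • x = a.app V.1 z := by
      show _ = (kernel.ι φ).app V.1 (r.app V.1 z)
      rw [hz, mul_smul, ← hx']
      exact ((kernel.ι φ).app_smul b x').symm
    exact (congrArg ((cokernel.π a).app V.1) hb').trans (app_congr (cokernel.condition a) V.1 z)
  · rw [complMap_comp, ← Category.assoc, her, hβ]

end Groth.Agent.H24GE
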