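import Groth.Agent.H24GE.Sys
import Groth.Agent.LeadProper.Supp
import Groth.Agent.H10Coh.Local
import Groth.Agent.H10Coh.GenHom
import Groth.Agent.LeadDev.Rules

/-!
# Quotients by powers of an ideal sheaf
-/

set_option autoImplicit false
set_option linter.style.haveILetI false
set_option linter.unusedSectionVars false
universe u

open CategoryTheory CategoryTheory.Limits AlgebraicGeometry Opposite

namespace Groth.Agent.H24GE

open Groth.Agent.H24Formal Groth.Agent.H24Formal.HomC

variable {X : Scheme.{u}} {K : X.IdealSheafData}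

theorem comp_app_apply {M N P : X.Modules} (f : M ⟶ N) (g : N ⟶ P) (V : X.Opens) (x : Γ(M, V)) :
    (f ≫ g).app V x = g.app V (f.app V x) := rfl

theorem app_congr {M N : X.Modules} {f g : M ⟶ N} (e : f = g) (V : X.Opens) (x : Γ(M, V)) :
    f.app V x = g.app V x := by rw [e]

theorem smul_app_of_killed {M N : X.Modules} (h : ClSub.KilledByIdeal K N) (f : M ⟶ N) {V : X.Opens}
    (hV : IsAffineOpen V) {m : Γ(M, V)} (hm : m ∈ K.ideal ⟨V, hV⟩ • (⊤ : Submodule Γ(X, V) Γ(M, V))) :
    f.app V m = 0 :=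
  Submodule.smul_induction_on (p := fun q => f.app V q = 0) hm
    (fun a ha y _ => (f.app_smul a y).trans (h ⟨V, hV⟩ a ha _))
    fun p q hp hq => by rw [map_add, hp, hq, add_zero]

theorem killedByIdeal_of_mono {M N : X.Modules} (f : M ⟶ N) [Mono f] (h : ClSub.KilledByIdeal K N) :
    ClSub.KilledByIdeal K M := fun U a ha m =>
  H10Coh.injective_app_of_mono' f U.1 ((f.app_smul a m).trans ((h U a ha _).trans (map_zero (ConcreteCategory.hom (f.app U.1))).symm))

theorem killedByIdeal_of_epi {M N : X.Modules} (hM : Coh.IsQCoh M) (hN : Coh.IsQCoh N) (f : M ⟶ N) [Epi f]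
    (h : ClSub.KilledByIdeal K M) : ClSub.KilledByIdeal K N := fun U a ha n => by
  haveI : M.IsQuasicoherent := hM
  haveI : N.IsQuasicoherent := hN
  obtain ⟨m, rfl⟩ := H10Coh.surjective_app_of_epi f U.2 n
  exact (f.app_smul a m).symm.trans ((congrArg (f.app U.1) (h U a ha m)).trans (map_zero _))

theorem killedByIdeal_of_iso {M N : X.Modules} (e : M ≅ N) (h : ClSub.KilledByIdeal K N) : ClSub.KilledByIdeal K M :=
  killedByIdeal_of_mono e.hom h

variable (K)

/-- The functor `M ↦ M / K M`. -/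
noncomputable def qm : X.Modules ⥤ X.Modules :=
  Scheme.Modules.pullback K.subschemeι ⋙ Scheme.Modules.pushforward K.subschemeι

/-- The projection `M ⟶ M / K M`. -/
noncomputable def qmη (M : X.Modules) : M ⟶ (qm K).obj M :=
  (Scheme.Modules.pullbackPushforwardAdjunction K.subschemeι).unit.app M

theorem qmη_naturality {M N : X.Modules} (f : M ⟶ N) : f ≫ qmη K N = qmη K M ≫ (qm K).map f :=
  (Scheme.Modules.pullbackPushforwardAdjunction K.subschemeι).unit.naturality f

theorem isQCoh_qm {M : X.Modules} (hM : Coh.IsQCoh M) : Coh.IsQCoh ((qm K).obj M) := by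
  haveI : ((Scheme.Modules.pullback K.subschemeι).obj M).IsQuasicoherent := H29Fitt.isQCoh_pullback _ M hM
  exact H10Coh.isQuasicoherent_pushforward K.subschemeι _

theorem killed_qm (M : X.Modules) : ClSub.KilledByIdeal K ((qm K).obj M) := fun U a ha m => by
  rw [← K.ker_subschemeι_app U, RingHom.mem_ker] at ha
  let m' : Γ((Scheme.Modules.pullback K.subschemeι).obj M, K.subschemeι ⁻¹ᵁ U.1) := m
  show (K.subschemeι.app U.1).hom a • m' = 0
  rw [ha]
  exact zero_smul _ m'

theorem surjective_qmη {M : X.Modules} (hM : Coh.IsQCoh M) {V : X.Opens} (hV : IsAffineOpen V) :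
    Function.Surjective ((qmη K M).app V) :=
  (H17.PullSect.isQuotOn_of_isAffineOpen K.subschemeι M hM hV).1

theorem qmη_eq_zero_iff {M : X.Modules} (hM : Coh.IsQCoh M) {V : X.Opens} (hV : IsAffineOpen V) (m : Γ(M, V)) :
    (qmη K M).app V m = 0 ↔ m ∈ K.ideal ⟨V, hV⟩ • (⊤ : Submodule Γ(X, V) Γ(M, V)) := by
  refine ⟨fun h => ?_, smul_app_of_killed (killed_qm K M) _ hV⟩
  rw [← K.ker_subschemeι_app ⟨V, hV⟩]
  exact (H17.PullSect.isQuotOn_of_isAffineOpen K.subschemeι M hM hV).2 m h

theorem epi_qmη {M : X.Modules} (hM : Coh.IsQCoh M) : Epi (qmη K M) :=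
  H10Coh.epi_of_surjective_on_cover _ (isQCoh_qm K hM) (fun V : X.affineOpens => V.1) (fun V => V.2)
    (fun x => by
      obtain ⟨V, hV, hxV, -⟩ := exists_isAffineOpen_mem_and_subset (x := x) (U := ⊤) trivial
      exact ⟨⟨V, hV⟩, hxV⟩)
    fun V => ⟨Set.univ, Submodule.span_univ, fun σ _ => surjective_qmη K hM V.2 σ⟩

theorem isCoh_qm [IsLocallyNoetherian X] {M : X.Modules} (hM : Coh.IsCoh M) : Coh.IsCoh ((qm K).obj M) := by
  refine (H10Coh.isCoh_iff_finite_sections _).2 ⟨isQCoh_qm K hM.1, fun V hV => ?_⟩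
  haveI := finite_sections' hM hV
  exact Module.Finite.of_surjective (appL (qmη K M) V) (surjective_qmη K hM.1 hV)

/-- A module killed by `K` receives the maps from `M / K M`. -/
theorem exists_qm_desc {M Z : X.Modules} (hZ : Coh.IsQCoh Z) (hk : ClSub.KilledByIdeal K Z) (g : M ⟶ Z) :
    ∃ g' : (qm K).obj M ⟶ Z, qmη K M ≫ g' = g := by
  haveI : IsIso (qmη K Z) :=
    LeadProper.isIso_unit_of_killedByIdeal Z hZ K.subschemeι (by rw [Scheme.IdealSheafData.ker_subschemeι]; exact hk)
  refine ⟨(qm K).map g ≫ inv (qmη K Z), ?_⟩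
  rw [← Category.assoc, ← qmη_naturality, Category.assoc, IsIso.hom_inv_id, Category.comp_id]

section overA

variable {A : Type u} [CommRing A] [X.Over (Spec (CommRingCat.of A))] [IsLocallyNoetherian X]

variable (X) in
/-- The ideal sheaf generated by an ideal of the base ring. -/
noncomputable def idealOf (I : Ideal A) : X.IdealSheafData :=
  Scheme.IdealSheafData.ofIdealTop (I.map (Coh.toGlobal (X ↘ Spec (CommRingCat.of A))))

theorem ideal_idealOf (I : Ideal A) (V : X.affineOpens) : (idealOf X I).ideal V = secIdeal I V.1 :=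
  (Scheme.IdealSheafData.ofIdealTop_ideal _ V).trans (Ideal.map_map _ _)

theorem ideal_idealOf_pow (I : Ideal A) (e : ℕ) (V : X.affineOpens) :
    (idealOf X I ^ e).ideal V = secIdeal (I ^ e) V.1 := by
  rw [Scheme.IdealSheafData.ideal_pow, Pi.pow_apply, ideal_idealOf]
  exact (secIdeal_pow I V.1 e).symm

theorem killedByIdeal_iff (I : Ideal A) (e : ℕ) (M : X.Modules) :
    ClSub.KilledByIdeal (idealOf X I ^ e) M ↔ Formal.KilledBy (I ^ e) M := by
  refine ⟨fun h a ha => ?_, fun h U r hr m => smul_eq_zero_of_killedBy h U.1 (by rwa [← ideal_idealOf_pow]) m⟩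
  refine H24Formal.hom_ext_app _ _ fun W s => ?_
  refine H11Tilde.eq_of_locally _ _ fun x hx => ?_
  obtain ⟨V, hV, hle, hxV⟩ := exists_affine_le hx
  refine ⟨V, hle, hxV, ?_⟩
  refine (H11Tilde.app_map_apply (Formal.smulMod A M a) hle s).symm.trans ?_
  rw [smulMod_app]
  refine (h ⟨V, hV⟩ _ ?_ _).trans (map_zero (ConcreteCategory.hom (M.presheaf.map (homOfLE hle).op))).symm
  rw [ideal_idealOf_pow]
  exact Ideal.mem_map_of_mem _ ha

theorem exists_idealOf_eq_fg [IsNoetherian X] (I : Ideal A) :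
    ∃ I₀ : Ideal A, I₀.FG ∧ idealOf X I₀ = idealOf X I := by
  obtain ⟨r, U, hU, -, hcov⟩ := H10Coh.exists_finite_affine_cover (X := X) (W := ⊤) isCompact_univ
  have hex : ∀ i, ∃ t : Finset A, ↑t ⊆ (I : Set A) ∧ secIdeal I (U i) = secIdeal (Ideal.span (t : Set A)) (U i) := by
    intro i
    haveI := isNoetherianRing_sections (hU i)
    obtain ⟨s, hs, he⟩ := (Submodule.fg_span_iff_fg_span_finset_subset (scalA A (U i) '' (I : Set A))).1
      (IsNoetherian.noetherian (Submodule.span Γ(X, U i) (scalA A (U i) '' (I : Set A))))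
    classical
    obtain ⟨t, ht, rfl⟩ := Finset.subset_set_image_iff.1 hs
    refine ⟨t, ht, ?_⟩
    show Ideal.span _ = Ideal.map (scalA A (U i)) (Ideal.span _)
    rw [Ideal.map_span, ← Finset.coe_image]
    exact he
  choose t ht he using hex
  refine ⟨⨆ i, Ideal.span ↑(t i), Submodule.fg_iSup _ fun i => ⟨t i, rfl⟩, ?_⟩
  have hle : (⨆ i, Ideal.span (↑(t i) : Set A)) ≤ I := iSup_le fun i => Ideal.span_le.2 (ht i)
  refine le_antisymm (fun V => ?_) (Scheme.IdealSheafData.le_of_iSup_eq_top (fun i => ⟨U i, hU i⟩)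
    (top_le_iff.1 hcov) fun i => ?_)
  · rw [ideal_idealOf, ideal_idealOf]
    exact Ideal.map_mono hle
  · rw [ideal_idealOf, ideal_idealOf, he i]
    exact Ideal.map_mono (le_iSup (fun i => Ideal.span (↑(t i) : Set A)) i)

/-- Two families of ideals killing the same modules. -/
def SameKill (I I₀ : Ideal A) : Prop :=
  ∀ (n : ℕ) (M : X.Modules), Formal.KilledBy (I ^ n) M ↔ Formal.KilledBy (I₀ ^ n) M

theorem exists_sameKill [IsNoetherian X] (I : Ideal A) : ∃ I₀ : Ideal A, I₀.FG ∧ SameKill (X := X) I I₀ := by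
  obtain ⟨I₀, h, he⟩ := exists_idealOf_eq_fg (X := X) I
  exact ⟨I₀, h, fun n M => by rw [← killedByIdeal_iff, ← killedByIdeal_iff, he]⟩

theorem killedBy_cokernel (J : Ideal A) (M : X.Modules) : Formal.KilledBy J (cokernel (Formal.smulFamily J M)) := by
  intro a ha
  rw [← cancel_epi (cokernel.π (Formal.smulFamily J M)), comp_zero, ← smulMod_comm]
  have h := Sigma.ι (fun _ : J => M) ⟨a, ha⟩ ≫= cokernel.condition (Formal.smulFamily J M)
  rw [comp_zero, ← Category.assoc] at h
  refine Eq.trans ?_ h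
  rw [Formal.smulFamily, Sigma.ι_desc]

/-- Ideals killing the same modules give the same truncations. -/
noncomputable def cokCongr {J J' : Ideal A} (h : ∀ M : X.Modules, Formal.KilledBy J M ↔ Formal.KilledBy J' M)
    (M : X.Modules) : cokernel (Formal.smulFamily J M) ≅ cokernel (Formal.smulFamily J' M) where
  hom := cokernel.desc _ (cokernel.π _) (smulFamily_comp_eq_zero _ ((h _).2 (killedBy_cokernel J' M)))
  inv := cokernel.desc _ (cokernel.π _) (smulFamily_comp_eq_zero _ ((h _).1 (killedBy_cokernel J M)))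
  hom_inv_id := coequalizer.hom_ext (by erw [← Category.assoc, cokernel.π_desc, cokernel.π_desc, Category.comp_id])
  inv_hom_id := coequalizer.hom_ext (by erw [← Category.assoc, cokernel.π_desc, cokernel.π_desc, Category.comp_id])

theorem isCohFormal_congr {I I₀ : Ideal A} (h : SameKill (X := X) I I₀) {G : ℕᵒᵖ ⥤ X.Modules}
    (hG : Formal.IsCohFormal I G) : Formal.IsCohFormal I₀ G := by
  refine ⟨hG.1, fun n => (h _ _).1 (hG.2.1 n), fun n => ?_⟩
  obtain ⟨hz, hiso⟩ := hG.2.2 n
  refine ⟨smulFamily_comp_eq_zero _ ((h _ _).1 (hG.2.1 n)), ?_⟩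
  haveI := hiso
  have e : cokernel.desc _ _ (smulFamily_comp_eq_zero (G.map (homOfLE (Nat.le_succ n)).op) ((h _ _).1 (hG.2.1 n))) =
      (cokCongr (h (n + 1)) (G.obj (op (n + 1)))).inv ≫ cokernel.desc _ _ hz := by
    refine coequalizer.hom_ext ?_
    erw [cokernel.π_desc, ← Category.assoc, cokernel.π_desc, cokernel.π_desc]
  rw [e]
  infer_instance

theorem isCohFormal_congr' {I I₀ : Ideal A} (h : SameKill (X := X) I I₀) {G : ℕᵒᵖ ⥤ X.Modules}
    (hG : Formal.IsCohFormal I₀ G) : Formal.IsCohFormal I G :=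
  isCohFormal_congr (fun n M => (h n M).symm) hG

/-- Ideals killing the same modules give the same completions. -/
noncomputable def complCongr {I I₀ : Ideal A} (h : SameKill (X := X) I I₀) (M : X.Modules) :
    Formal.completion I M ≅ Formal.completion I₀ M :=
  NatIso.ofComponents (fun j => cokCongr (h (j.unop + 1)) M) (by
    intro i j f
    haveI : Epi (Formal.modPowπ I (i.unop + 1) M) := coequalizer.π_epi
    refine (cancel_epi (Formal.modPowπ I (i.unop + 1) M)).1 ?_
    have e1 : Formal.modPowπ I (i.unop + 1) M ≫ (Formal.completion I M).map f = Formal.modPowπ I (j.unop + 1) M :=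
      modPowπ_map I M (leOfHom f.unop)
    have e2 : Formal.modPowπ I₀ (i.unop + 1) M ≫ (Formal.completion I₀ M).map f = Formal.modPowπ I₀ (j.unop + 1) M :=
      modPowπ_map I₀ M (leOfHom f.unop)
    show _ ≫ _ ≫ (cokCongr (h (j.unop + 1)) M).hom = _ ≫ (cokCongr (h (i.unop + 1)) M).hom ≫ _
    refine (Category.assoc _ _ _).symm.trans ?_
    refine (congrArg (· ≫ (cokCongr (h (j.unop + 1)) M).hom) e1).trans ?_
    refine Eq.trans ?_ (Category.assoc _ _ _)
    refine (cokernel.π_desc _ _ _).trans (e2.symm.trans ?_)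
    exact congrArg (· ≫ (Formal.completion I₀ M).map f) (cokernel.π_desc _ _ _).symm)

theorem π_complCongr_hom {I I₀ : Ideal A} (h : SameKill (X := X) I I₀) (M : X.Modules) (n : ℕ) :
    Formal.modPowπ I (n + 1) M ≫ (complCongr h M).hom.app (op n) = Formal.modPowπ I₀ (n + 1) M :=
  cokernel.π_desc _ _ _

theorem π_complCongr_inv {I I₀ : Ideal A} (h : SameKill (X := X) I I₀) (M : X.Modules) (n : ℕ) :
    Formal.modPowπ I₀ (n + 1) M ≫ (complCongr h M).inv.app (op n) = Formal.modPowπ I (n + 1) M :=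
  cokernel.π_desc _ _ _

end overA

end Groth.Agent.H24GE
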