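import Mathlib.RingTheory.TensorProduct.Finite
import Mathlib.RingTheory.Filtration
import Mathlib.RingTheory.IsTensorProduct
import Mathlib.RingTheory.Nakayama
import Mathlib.RingTheory.FiniteType
import Mathlib.RingTheory.FiniteStability
import Mathlib.RingTheory.Localization.AtPrime.Basic
import Mathlib.Algebra.Module.LocalizedModule.Basic
import Mathlib.RingTheory.TensorProduct.Quotient

/-!
# A map of modules over a completion, read on an affine chart

`R'` stands for the completion of `R`, `M → N` for the limit of a map of systems over `R`, and `S`, `P` for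
the ring and module of an affine chart of a scheme over `R` on which the map becomes bijective modulo powers
of the ideal.
-/

set_option autoImplicit false
set_option linter.style.haveILetI false
universe u

open TensorProduct

namespace Groth.Agent.H24GE.PushAlg

attribute [local instance] Algebra.TensorProduct.rightAlgebra

variable {R R' S : Type u} [CommRing R] [CommRing R'] [CommRing S] [Algebra R R'] [Algebra R S]

/-- The chart over the completion. -/
abbrev S' (R R' S : Type u) [CommRing R] [CommRing R'] [CommRing S] [Algebra R R'] [Algebra R S] : Type u :=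
  S ⊗[R] R'

theorem isNoetherianRing_S' [IsNoetherianRing R'] [Algebra.FiniteType R S] : IsNoetherianRing (S' R R' S) := by
  haveI : IsNoetherianRing (R' ⊗[R] S) := Algebra.FiniteType.isNoetherianRing R' _
  exact isNoetherianRing_of_ringEquiv (R' ⊗[R] S) (Algebra.TensorProduct.comm R R' S).toRingEquiv

variable [IsNoetherianRing R'] [Algebra.FiniteType R S] (J : Ideal R)
  {M N H P : Type u} [AddCommGroup M] [Module R' M] [Module.Finite R' M]
  [AddCommGroup N] [Module R N] [Module R' N] [IsScalarTower R R' N]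
  [AddCommGroup H] [Module R H]
  [AddCommGroup P] [Module R P] [Module S P] [IsScalarTower R S P] [Module.Finite S P]

/-- Kernel and cokernel vanish at a prime which spreads to the special fibre of the chart. -/
theorem exists_smul {ι : H →ₗ[R] N} (hι : IsBaseChange R' ι) (ρ : H →ₗ[R] P) (φ : M →ₗ[R'] N)
    (hker : ∀ m : M, φ m = 0 → ∀ n : ℕ,
      (1 : S' R R' S) ⊗ₜ[R'] m ∈ (J.map (algebraMap R (S' R R' S))) ^ n • (⊤ : Submodule (S' R R' S) (S' R R' S ⊗[R'] M)))
    (hsurj : Submodule.span S (ρ '' {h | ∃ m, φ m - ι h ∈ J.map (algebraMap R R') • (⊤ : Submodule R' N)}) ⊔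
      J.map (algebraMap R S) • (⊤ : Submodule S P) = ⊤)
    (𝔮 : Ideal R') [𝔮.IsPrime] (σ : S' R R' S →ₐ[R'] Localization.AtPrime 𝔮)
    (hunit : ∀ j ∈ J.map (algebraMap R (S' R R' S)), IsUnit (σ (1 + j)))
    (τ : P →+ LocalizedModule 𝔮.primeCompl N) (hτ : ∀ (s : S) (p : P), τ (s • p) = σ (s ⊗ₜ[R] 1) • τ p)
    (hτρ : ∀ h, τ (ρ h) = LocalizedModule.mkLinearMap 𝔮.primeCompl N (ι h)) :
    (∀ m, φ m = 0 → ∃ u ∉ 𝔮, u • m = 0) ∧ ∀ y, ∃ u ∉ 𝔮, u • y ∈ LinearMap.range φ := by
  haveI := isNoetherianRing_S' (R := R) (R' := R') (S := S)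
  let JS := J.map (algebraMap R (S' R R' S))
  refine ⟨fun m hm => ?_, fun y => ?_⟩
  · -- the kernel
    have hx := (Submodule.mem_iInf (fun i : ℕ => JS ^ i • (⊤ : Submodule (S' R R' S) (S' R R' S ⊗[R'] M)))).2
      (hker m hm)
    obtain ⟨⟨j, hj⟩, hjx⟩ := (Ideal.mem_iInf_smul_pow_eq_bot_iff JS _).1 hx
    change j • ((1 : S' R R' S) ⊗ₜ[R'] m) = _ at hjx
    letI : Module (S' R R' S) (LocalizedModule 𝔮.primeCompl M) :=
      Module.compHom _ σ.toRingHom
    haveI : IsScalarTower R' (S' R R' S) (LocalizedModule 𝔮.primeCompl M) := .of_algebraMap_smul fun a z => by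
      show σ (algebraMap R' _ a) • z = a • z
      rw [σ.commutes, algebraMap_smul]
    let T := LinearMap.liftBaseChange (S' R R' S) (LocalizedModule.mkLinearMap 𝔮.primeCompl M)
    have h2 := congrArg T hjx
    rw [map_smul, LinearMap.liftBaseChange_tmul, one_smul] at h2
    change σ j • LocalizedModule.mkLinearMap 𝔮.primeCompl M m = LocalizedModule.mkLinearMap 𝔮.primeCompl M m at h2
    have h3 : σ (1 + -j) • LocalizedModule.mkLinearMap 𝔮.primeCompl M m = 0 := by
      rw [map_add, map_one, map_neg, add_smul, one_smul, neg_smul, h2, add_neg_cancel]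
    rw [(hunit _ (neg_mem hj)).smul_eq_zero] at h3
    rw [LocalizedModule.mkLinearMap_apply, ← LocalizedModule.zero_mk (1 : 𝔮.primeCompl), LocalizedModule.mk_eq] at h3
    obtain ⟨u, hu⟩ := h3
    rw [one_smul, one_smul, smul_zero] at hu
    exact ⟨u, u.2, hu⟩
  · -- the cokernel
    let ν₀ : H →ₗ[R] S' R R' S ⊗[S] P := ((TensorProduct.mk S (S' R R' S) P 1).restrictScalars R).comp ρ
    let ν : N →ₗ[R'] S' R R' S ⊗[S] P := hι.lift ν₀
    let θ := LinearMap.liftBaseChange (S' R R' S) (ν.comp φ)
    have hJS : ∀ (a : R), a ∈ J → algebraMap R' (S' R R' S) (algebraMap R R' a) ∈ JS := fun a ha => by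
      rw [← IsScalarTower.algebraMap_apply]
      exact Ideal.mem_map_of_mem _ ha
    have hJN : ∀ z ∈ J.map (algebraMap R R') • (⊤ : Submodule R' N),
        ν z ∈ JS • (⊤ : Submodule (S' R R' S) (S' R R' S ⊗[S] P)) := fun z hz => by
      refine Submodule.smul_induction_on hz (fun a ha w _ => ?_) fun u v hu hv => by rw [map_add]; exact add_mem hu hv
      rw [map_smul, ← algebraMap_smul (S' R R' S) a (ν w)]
      refine Submodule.smul_mem_smul ?_ trivial
      have : J.map (algebraMap R R') ≤ JS.comap (algebraMap R' (S' R R' S)) :=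
        Ideal.map_le_iff_le_comap.2 fun b hb => hJS b hb
      exact this ha
    have hone : ∀ p : P, (1 : S' R R' S) ⊗ₜ[S] p ∈
        LinearMap.range θ ⊔ JS • (⊤ : Submodule (S' R R' S) (S' R R' S ⊗[S] P)) := fun p => by
      have hp : p ∈ Submodule.span S (ρ '' {h | ∃ m, φ m - ι h ∈ J.map (algebraMap R R') • (⊤ : Submodule R' N)}) ⊔
          J.map (algebraMap R S) • (⊤ : Submodule S P) := by rw [hsurj]; trivial
      obtain ⟨a, ha, b, hb, rfl⟩ := Submodule.mem_sup.1 hp
      rw [TensorProduct.tmul_add]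
      refine add_mem ?_ (Submodule.mem_sup_right ?_)
      · refine Submodule.span_induction (p := fun a _ => (1 : S' R R' S) ⊗ₜ[S] a ∈
          LinearMap.range θ ⊔ JS • (⊤ : Submodule (S' R R' S) (S' R R' S ⊗[S] P))) ?_
          (by rw [TensorProduct.tmul_zero]; exact zero_mem _)
          (fun u v _ _ hu hv => by rw [TensorProduct.tmul_add]; exact add_mem hu hv)
          (fun c u _ hu => by
            rw [TensorProduct.tmul_smul, ← algebraMap_smul (S' R R' S) c]
            exact Submodule.smul_mem _ _ hu) ha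
        rintro _ ⟨h, ⟨m, hm⟩, rfl⟩
        have e : (1 : S' R R' S) ⊗ₜ[S] ρ h = θ (1 ⊗ₜ[R'] m) - ν (φ m - ι h) := by
          rw [LinearMap.liftBaseChange_tmul, one_smul, map_sub, hι.lift_eq]
          exact (sub_sub_cancel _ _).symm
        rw [e]
        exact sub_mem (Submodule.mem_sup_left ⟨_, rfl⟩) (Submodule.mem_sup_right (hJN _ hm))
      · refine Submodule.smul_induction_on hb (fun c hc w _ => ?_) fun u v hu hv => by
          rw [TensorProduct.tmul_add]; exact add_mem hu hv
        rw [TensorProduct.tmul_smul, ← algebraMap_smul (S' R R' S) c]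
        refine Submodule.smul_mem_smul ?_ trivial
        have : J.map (algebraMap R S) ≤ JS.comap (algebraMap S (S' R R' S)) :=
          Ideal.map_le_iff_le_comap.2 fun b hb => by
            rw [Ideal.mem_comap, Ideal.mem_comap, ← IsScalarTower.algebraMap_apply]
            exact Ideal.mem_map_of_mem _ hb
        exact this hc
    have htop : LinearMap.range θ ⊔ JS • (⊤ : Submodule (S' R R' S) (S' R R' S ⊗[S] P)) = ⊤ := by
      refine eq_top_iff.2 ?_
      rintro x -
      induction x with
      | zero => exact zero_mem _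
      | tmul x p =>
        rw [← mul_one x, ← smul_eq_mul, ← TensorProduct.smul_tmul']
        exact Submodule.smul_mem _ _ (hone p)
      | add u v hu hv => exact add_mem hu hv
    let Q := (S' R R' S ⊗[S] P) ⧸ LinearMap.range θ
    have hQ : (⊤ : Submodule (S' R R' S) Q) ≤ JS • ⊤ := by
      have := congrArg (Submodule.map (LinearMap.range θ).mkQ) htop
      rw [Submodule.map_sup, Submodule.map_smul'', Submodule.map_top, Submodule.range_mkQ] at this
      conv_lhs => rw [← this]
      rw [show Submodule.map (LinearMap.range θ).mkQ (LinearMap.range θ) = ⊥ from Submodule.mkQ_map_self _, bot_sup_eq]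
    obtain ⟨r, hr, hrQ⟩ := Submodule.exists_sub_one_mem_and_smul_eq_zero_of_fg_of_le_smul JS ⊤ Module.Finite.fg_top hQ
    have hry : r • ν y ∈ LinearMap.range θ := by
      rw [← Submodule.Quotient.mk_eq_zero, Submodule.Quotient.mk_smul]
      exact hrQ _ trivial
    -- move to the localization
    letI : Module (S' R R' S) (LocalizedModule 𝔮.primeCompl N) := Module.compHom _ σ.toRingHom
    haveI : IsScalarTower R' (S' R R' S) (LocalizedModule 𝔮.primeCompl N) := .of_algebraMap_smul fun a z => by
      show σ (algebraMap R' _ a) • z = a • z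
      rw [σ.commutes, algebraMap_smul]
    letI : Module S (LocalizedModule 𝔮.primeCompl N) := Module.compHom _ (algebraMap S (S' R R' S))
    haveI : IsScalarTower S (S' R R' S) (LocalizedModule 𝔮.primeCompl N) := .of_algebraMap_smul fun _ _ => rfl
    let τl : P →ₗ[S] LocalizedModule 𝔮.primeCompl N := { τ with map_smul' := hτ }
    let T := LinearMap.liftBaseChange (S' R R' S) τl
    have hTν : (T.restrictScalars R').comp ν = LocalizedModule.mkLinearMap 𝔮.primeCompl N := by
      refine hι.algHom_ext _ _ fun h => ?_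
      show T (ν (ι h)) = _
      rw [hι.lift_eq]
      show T ((1 : S' R R' S) ⊗ₜ[S] ρ h) = _
      rw [LinearMap.liftBaseChange_tmul, one_smul]
      exact hτρ h
    have hrange : ∀ w, ∃ (m : M) (u : 𝔮.primeCompl), T (θ w) = LocalizedModule.mk (φ m) u := fun w => by
      induction w with
      | zero => exact ⟨0, 1, by rw [map_zero, map_zero, map_zero, LocalizedModule.zero_mk]⟩
      | tmul x m =>
        obtain ⟨a, u, e⟩ := IsLocalization.exists_mk'_eq 𝔮.primeCompl (σ x)
        refine ⟨a • m, u, ?_⟩
        rw [LinearMap.liftBaseChange_tmul, map_smul]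
        show σ x • (T.restrictScalars R').comp ν (φ m) = _
        rw [hTν, ← e, LocalizedModule.mkLinearMap_apply, ← Localization.mk_eq_mk', LocalizedModule.mk_smul_mk, map_smul,
          mul_one]
      | add u v hu hv =>
        obtain ⟨m₁, u₁, e₁⟩ := hu
        obtain ⟨m₂, u₂, e₂⟩ := hv
        refine ⟨u₂.1 • m₁ + u₁.1 • m₂, u₁ * u₂, ?_⟩
        rw [map_add, map_add, e₁, e₂, LocalizedModule.mk_add_mk, map_add, map_smul, map_smul]
        rfl
    obtain ⟨w, hw⟩ := hry
    obtain ⟨m, u, he⟩ := hrange w
    rw [hw, map_smul] at he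
    change σ r • (T.restrictScalars R').comp ν y = _ at he
    rw [hTν] at he
    have hr1 : IsUnit (σ r) := by
      have := hunit _ hr
      rwa [add_sub_cancel] at this
    obtain ⟨a, b, hab⟩ := IsLocalization.exists_mk'_eq 𝔮.primeCompl (σ r)
    rw [← hab, LocalizedModule.mkLinearMap_apply, ← Localization.mk_eq_mk', LocalizedModule.mk_smul_mk, mul_one,
      LocalizedModule.mk_eq] at he
    obtain ⟨c, hc⟩ := he
    have ha : a ∉ 𝔮 := fun h => by
      refine (IsLocalization.AtPrime.isUnit_mk'_iff (Localization.AtPrime 𝔮) 𝔮 a b).1 ?_ h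
      rw [hab]; exact hr1
    refine ⟨c.1 * u.1 * a, fun h => ?_, ⟨(c.1 * b.1) • m, ?_⟩⟩
    · exact ((‹𝔮.IsPrime›.mem_or_mem h).elim (fun h' => (‹𝔮.IsPrime›.mem_or_mem h').elim c.2 u.2) ha)
    · rw [map_smul, mul_smul, mul_smul, mul_smul]
      exact hc.symm

end Groth.Agent.H24GE.PushAlg
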