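import Groth.Agent.H24GE.Alg
import Mathlib.RingTheory.AdicCompletion.AsTensorProduct
import Mathlib.RingTheory.IsTensorProduct
import Mathlib.RingTheory.Support

/-!
# The limit of the truncations of a finite module is its base change to the completion
-/

set_option autoImplicit false
set_option linter.style.haveILetI false
universe u

open Submodule TensorProduct

namespace Groth.Agent.H24GE

open Groth.Agent.H24Adic

variable {R : Type u} [CommRing R] [IsNoetherianRing R] {J : Ideal R} {M : ℕ → Type u}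
  [∀ n, AddCommGroup (M n)] [∀ n, Module R (M n)] {L : Type u} [AddCommGroup L] [Module R L]
  (S : AdicSystem J M L) {H : Type u} [AddCommGroup H] [Module R H] [Module.Finite R H] (ι : H →ₗ[R] L)

omit [IsNoetherianRing R] in
theorem isScalarTower_cmodule : letI := cmodule S; IsScalarTower R (AdicCompletion J R) L :=
  letI := cmodule S
  IsScalarTower.of_algebraMap_smul fun a x => csmul_algebraMap S a x

theorem isBaseChange_limit (hsurj : ∀ n, Function.Surjective fun h => S.π n (ι h))
    (hker : ∀ n h, S.π n (ι h) = 0 ↔ h ∈ J ^ (n + 1) • (⊤ : Submodule R H)) :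
    letI := cmodule S
    haveI := isScalarTower_cmodule S
    IsBaseChange (AdicCompletion J R) ι := by
  letI := cmodule S
  haveI := isScalarTower_cmodule S
  haveI : Module.Finite R (M 0) := Module.Finite.of_surjective (S.π 0 ∘ₗ ι) (hsurj 0)
  let T := LinearMap.liftBaseChange (AdicCompletion J R) ι
  refine IsBaseChange.of_equiv (LinearEquiv.ofBijective T ⟨?_, ?_⟩) fun h => ?_
  swap
  · intro y
    refine mem_of_forall_level S (LinearMap.range T) y fun n => ?_
    obtain ⟨h, hh⟩ := hsurj n (S.π n y)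
    refine ⟨T (1 ⊗ₜ h), ⟨_, rfl⟩, ?_⟩
    rw [LinearMap.liftBaseChange_tmul, one_smul]
    exact hh
  swap
  · show T (1 ⊗ₜ h) = _
    rw [LinearMap.liftBaseChange_tmul, one_smul]
  have key : ∀ (n : ℕ) (x : AdicCompletion J R ⊗[R] H), ∃ h : H, S.π n (T x) = S.π n (ι h) ∧
      (AdicCompletion.ofTensorProduct J H x).val (n + 1) = Submodule.Quotient.mk h := fun n x => by
    induction x with
    | zero => exact ⟨0, by rw [map_zero, map_zero, map_zero, map_zero], by rw [map_zero]; rfl⟩
    | add x y hx hy =>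
      obtain ⟨a, ha1, ha2⟩ := hx
      obtain ⟨b, hb1, hb2⟩ := hy
      refine ⟨a + b, by rw [map_add, map_add, ha1, hb1, map_add ι, map_add], ?_⟩
      rw [map_add, Submodule.Quotient.mk_add, ← ha2, ← hb2]
      rfl
    | tmul r h =>
      obtain ⟨a, rfl⟩ := AdicCompletion.mk_surjective J R r
      refine ⟨a.val (n + 1) • h, ?_, ?_⟩
      · rw [LinearMap.liftBaseChange_tmul, map_smul ι]
        exact (π_csmul S _ _ (AdicCompletion.evalₐ_mk J (n + 1) a).symm).trans (map_smul _ _ _).symm
      · rw [AdicCompletion.ofTensorProduct_tmul, AdicCompletion.smul_eval]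
        rfl
  refine (injective_iff_map_eq_zero T).2 fun x hx => ?_
  refine (AdicCompletion.ofTensorProduct_bijective_of_finite_of_isNoetherian J H).1 ?_
  rw [map_zero]
  refine AdicCompletion.ext fun n => ?_
  rcases n with _ | n
  · haveI : Subsingleton (H ⧸ (J ^ 0 • ⊤ : Submodule R H)) := by
      rw [Submodule.Quotient.subsingleton_iff, pow_zero, Ideal.one_eq_top, Submodule.top_smul]
    exact Subsingleton.elim _ _
  obtain ⟨h, h1, h2⟩ := key n x
  rw [hx, map_zero, eq_comm, hker] at h1
  rw [h2]
  exact (Submodule.Quotient.mk_eq_zero _).2 h1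

omit [IsNoetherianRing R] in
/-- Torsion at every prime missing `k` gives a power of `k`. -/
theorem exists_pow_smul_eq_zero {P : Type u} [AddCommGroup P] [Module R P] [Module.Finite R P] (k : R)
    (h : ∀ 𝔮 : Ideal R, 𝔮.IsPrime → k ∉ 𝔮 → ∀ y : P, ∃ u ∉ 𝔮, u • y = 0) :
    ∃ N : ℕ, ∀ y : P, k ^ N • y = 0 := by
  obtain ⟨N, hN⟩ : k ∈ (Module.annihilator R P).radical := by
    rw [Ideal.radical_eq_sInf]
    refine Submodule.mem_sInf.2 fun 𝔮 hq => ?_
    by_contra hk
    haveI := hq.2
    have hs : (⟨𝔮, hq.2⟩ : PrimeSpectrum R) ∈ Module.support R P := by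
      rw [Module.support_eq_zeroLocus]
      exact hq.1
    obtain ⟨y, hy⟩ := Module.mem_support_iff'.1 hs
    obtain ⟨u, hu, huy⟩ := h 𝔮 hq.2 hk y
    exact hy u hu huy
  exact ⟨N, fun y => Module.mem_annihilator.1 hN y⟩

end Groth.Agent.H24GE
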