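import Groth.Agent.H24GE.Core
import Groth.Agent.LeadFF.Limit
import Groth.Agent.LeadBC.SectRpush
import Groth.Agent.H24Formal.Pullback

/-!
# The theorem on formal functions on the inverse image of an affine open
-/

set_option autoImplicit false
set_option linter.style.haveILetI false
set_option linter.unusedSectionVars false
universe u

open CategoryTheory CategoryTheory.Limits AlgebraicGeometry Opposite

namespace Groth.Agent.H24GE

open Groth.Agent.H24Formal Groth.Agent.H24Formal.HomC Groth.Agent.LeadFF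

variable {A : Type u} [CommRing A] {X Y : Scheme.{u}} [X.Over (Spec (CommRingCat.of A))]
  [Y.Over (Spec (CommRingCat.of A))] (f : X ⟶ Y)
  (hf : f ≫ (Y ↘ Spec (CommRingCat.of A)) = X ↘ Spec (CommRingCat.of A))

include hf in
theorem appLE_scalA {V : Y.Opens} {U : X.Opens} (h : U ≤ f ⁻¹ᵁ V) (a : A) :
    f.appLE V U h (scalA A V a) = scalA A U a := by
  have h1 : Coh.toGlobal (X ↘ Spec (CommRingCat.of A)) a =
      f.appTop (Coh.toGlobal (Y ↘ Spec (CommRingCat.of A)) a) := by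
    rw [← hf]
    rfl
  show f.appLE V U h (Y.presheaf.map (homOfLE (le_top : V ≤ ⊤)).op (Coh.toGlobal _ a)) =
    X.presheaf.map (homOfLE (le_top : U ≤ ⊤)).op (Coh.toGlobal _ a)
  rw [h1]
  show (Y.presheaf.map (homOfLE (le_top : V ≤ ⊤)).op ≫ f.appLE V U h).hom _ =
    (f.appTop ≫ X.presheaf.map (homOfLE (le_top : U ≤ ⊤)).op).hom _
  rw [Scheme.Hom.map_appLE]
  rfl

include hf in
theorem secIdeal_map (J : Ideal A) {V : Y.Opens} {U : X.Opens} (h : U ≤ f ⁻¹ᵁ V) :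
    (secIdeal J V).map (f.appLE V U h).hom = secIdeal J U :=
  (Ideal.map_map _ _).trans (congrArg (fun φ => Ideal.map φ J) (RingHom.ext fun a => appLE_scalA f hf h a))

theorem eq_on_sections {M N : X.Modules} {g g' : M ⟶ N} (e : g = g') {U : X.Opens} (x : Γ(M, U)) :
    g.app U x = g'.app U x := by rw [e]

/-- `Γ(F, f⁻¹V) = Γ(f_* F, V)`. -/
abbrev preSec (F : X.Modules) (V : Y.Opens) : Type u := Γ((Scheme.Modules.pushforward f).obj F, V)

variable [IsLocallyNoetherian X] {V : Y.Opens} (hV : IsAffineOpen V)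

include hV in
theorem isNoetherianRing_base [IsLocallyNoetherian Y] : IsNoetherianRing Γ(Y, V) :=
  IsLocallyNoetherian.component_noetherian ⟨V, hV⟩

/-- The scalars on the opens of `f⁻¹V`. -/
theorem smulMod_pre_app (N : (f ⁻¹ᵁ V).toScheme.Modules) (r : Γ(Y, V)) (O : (f ⁻¹ᵁ V).toScheme.Opens) (m : Γ(N, O)) :
    letI := LeadBC.preOver f hV
    (Formal.smulMod Γ(Y, V) N r).app O m = H10Coh.gres ((f ⁻¹ᵁ V).topIso.inv (f.app V r)) O • m := by
  letI := LeadBC.preOver f hV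
  rw [H24Formal.smulMod_app]
  show (_ : Γ((f ⁻¹ᵁ V).toScheme, O)) • m = _
  congr 1
  show H10Coh.gres (Coh.toGlobal (A := Γ(Y, V)) ((f ⁻¹ᵁ V).toScheme ↘ Spec (CommRingCat.of Γ(Y, V))) r) O = _
  rw [LeadBC.toGlobal_preOver f hV]
  rfl

theorem image_le (U : X.Opens) (O : U.toScheme.Opens) : U.ι ''ᵁ O ≤ U :=
  (U.ι.image_le_opensRange O).trans_eq U.opensRange_ι

/-- The scalar action on a restricted module, read on `X`. -/
theorem gres_smul_restrict (N : X.Modules) (r : Γ(Y, V)) (O : (f ⁻¹ᵁ V).toScheme.Opens)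
    (x : Γ(N, (f ⁻¹ᵁ V).ι ''ᵁ O)) :
    (show Γ(N, (f ⁻¹ᵁ V).ι ''ᵁ O) from
      H10Coh.gres ((f ⁻¹ᵁ V).topIso.inv (f.app V r)) O • (show Γ(N.restrict (f ⁻¹ᵁ V).ι, O) from x)) =
      f.appLE V ((f ⁻¹ᵁ V).ι ''ᵁ O) (image_le _ O) r • x := by
  have e := H10Coh.restrict_smul_pow (f ⁻¹ᵁ V) N (f.app V r) O (image_le _ O) 1 x
  simp only [pow_one] at e
  refine e.trans ?_
  rfl

variable {J : Ideal A}

include hf in
theorem killedBy_restrict {n : ℕ} {N : X.Modules} (hN : Formal.KilledBy (J ^ n) N) :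
    letI := LeadBC.preOver f hV
    Formal.KilledBy (secIdeal J V ^ n) (N.restrict (f ⁻¹ᵁ V).ι) := by
  letI := LeadBC.preOver f hV
  intro r hr
  refine H24Formal.hom_ext_app _ _ fun O m => ?_
  rw [smulMod_pre_app f hV]
  refine (gres_smul_restrict f N r O m).trans ?_
  refine smul_eq_zero_of_killedBy hN _ ?_ _
  rw [← secIdeal_map f hf (J ^ n) (image_le _ O), secIdeal_pow]
  exact Ideal.mem_map_of_mem _ hr

variable (J) in
include hf in
theorem restrict_π_zero (F : X.Modules) (n : ℕ) :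
    letI := LeadBC.preOver f hV
    Formal.smulFamily (secIdeal J V ^ n) (F.restrict (f ⁻¹ᵁ V).ι) ≫
      (Scheme.Modules.restrictFunctor (f ⁻¹ᵁ V).ι).map (Formal.modPowπ J n F) = 0 := by
  letI := LeadBC.preOver f hV
  exact smulFamily_comp_eq_zero _ (killedBy_restrict f hf hV (killedBy_modPow J n F))

variable (J) in
/-- Truncations commute with restriction to `f⁻¹V`. -/
noncomputable def restrictCmp (F : X.Modules) (n : ℕ) :
    letI := LeadBC.preOver f hV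
    Formal.modPow (secIdeal J V) n (F.restrict (f ⁻¹ᵁ V).ι) ⟶ (Formal.modPow J n F).restrict (f ⁻¹ᵁ V).ι :=
  letI := LeadBC.preOver f hV
  cokernel.desc _ _ (restrict_π_zero f hf hV J F n)

theorem π_restrictCmp (F : X.Modules) (n : ℕ) :
    letI := LeadBC.preOver f hV
    Formal.modPowπ (secIdeal J V) n (F.restrict (f ⁻¹ᵁ V).ι) ≫ restrictCmp f hf hV J F n =
      (Scheme.Modules.restrictFunctor (f ⁻¹ᵁ V).ι).map (Formal.modPowπ J n F) := by
  letI := LeadBC.preOver f hV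
  exact cokernel.π_desc _ _ _

/-- A section of a module, as a section of its restriction. -/
def toRes (F : X.Modules) (U : X.Opens) (O : U.toScheme.Opens) : Γ(F, U.ι ''ᵁ O) →+ Γ(F.restrict U.ι, O) where
  toFun m := m
  map_zero' := rfl
  map_add' _ _ := rfl

include hf in
theorem mem_restrict {F : X.Modules} (n : ℕ) (O : (f ⁻¹ᵁ V).toScheme.Opens) (m : Γ(F, (f ⁻¹ᵁ V).ι ''ᵁ O))
    (h0 : m ∈ secIdeal (J ^ n) ((f ⁻¹ᵁ V).ι ''ᵁ O) • (⊤ : Submodule Γ(X, (f ⁻¹ᵁ V).ι ''ᵁ O) Γ(F, (f ⁻¹ᵁ V).ι ''ᵁ O))) :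
    letI := LeadBC.preOver f hV
    toRes F (f ⁻¹ᵁ V) O m ∈ secIdeal (secIdeal J V ^ n) O •
      (⊤ : Submodule Γ((f ⁻¹ᵁ V).toScheme, O) Γ(F.restrict (f ⁻¹ᵁ V).ι, O)) := by
  letI := LeadBC.preOver f hV
  refine Submodule.smul_induction_on h0 (fun c hc q _ => ?_) fun p q hp hq => by rw [map_add]; exact add_mem hp hq
  rw [← secIdeal_map f hf (J ^ n) (image_le (f ⁻¹ᵁ V) O)] at hc
  refine Submodule.span_induction (p := fun c _ => ∀ q : Γ(F, (f ⁻¹ᵁ V).ι ''ᵁ O),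
      toRes F (f ⁻¹ᵁ V) O (c • q) ∈ secIdeal (secIdeal J V ^ n) O •
        (⊤ : Submodule Γ((f ⁻¹ᵁ V).toScheme, O) Γ(F.restrict (f ⁻¹ᵁ V).ι, O))) ?_ ?_ ?_ ?_ hc q
  · rintro _ ⟨r, hr, rfl⟩ q
    have hr' : r ∈ secIdeal J V ^ n := by rw [← secIdeal_pow]; exact hr
    have e : scalA Γ(Y, V) O r = H10Coh.gres ((f ⁻¹ᵁ V).topIso.inv (f.app V r)) O := by
      show H10Coh.gres (Coh.toGlobal (A := Γ(Y, V)) ((f ⁻¹ᵁ V).toScheme ↘ Spec (CommRingCat.of Γ(Y, V))) r) O = _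
      rw [LeadBC.toGlobal_preOver f hV]
      rfl
    have e2 : toRes F (f ⁻¹ᵁ V) O (f.appLE V ((f ⁻¹ᵁ V).ι ''ᵁ O) (image_le _ O) r • q) =
        scalA Γ(Y, V) O r • toRes F (f ⁻¹ᵁ V) O q := by
      rw [e]
      exact (gres_smul_restrict f F r O q).symm
    exact e2 ▸ Submodule.smul_mem_smul (Ideal.mem_map_of_mem _ hr') trivial
  · intro q
    rw [zero_smul, map_zero]
    exact zero_mem _
  · intro a b _ _ ha hb q
    rw [add_smul, map_add]
    exact add_mem (ha q) (hb q)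
  · intro d b _ hb q
    rw [smul_eq_mul, mul_comm, mul_smul]
    exact hb (d • q)

theorem comp_app_of_eq {M N P : X.Modules} {a : M ⟶ N} {b : N ⟶ P} {c : M ⟶ P} (e : a ≫ b = c) (O : X.Opens)
    (x : Γ(M, O)) : b.app O (a.app O x) = c.app O x := by
  subst e; rfl

theorem restrict_map_app {M N : X.Modules} (g : M ⟶ N) (U : X.Opens) (O : U.toScheme.Opens) (m : Γ(M, U.ι ''ᵁ O)) :
    ((Scheme.Modules.restrictFunctor U.ι).map g).app O (toRes M U O m) = toRes N U O (g.app (U.ι ''ᵁ O) m) := rfl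

theorem restrictCmp_app (F : X.Modules) (n : ℕ) (O : (f ⁻¹ᵁ V).toScheme.Opens) (m : Γ(F, (f ⁻¹ᵁ V).ι ''ᵁ O)) :
    letI := LeadBC.preOver f hV
    (restrictCmp f hf hV J F n).app O
        ((Formal.modPowπ (secIdeal J V) n (F.restrict (f ⁻¹ᵁ V).ι)).app O (toRes F (f ⁻¹ᵁ V) O m)) =
      toRes (Formal.modPow J n F) (f ⁻¹ᵁ V) O ((Formal.modPowπ J n F).app ((f ⁻¹ᵁ V).ι ''ᵁ O) m) := by
  letI := LeadBC.preOver f hV
  refine (comp_app_of_eq (π_restrictCmp f hf hV F n) O (toRes F (f ⁻¹ᵁ V) O m)).trans ?_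
  exact restrict_map_app (Formal.modPowπ J n F) (f ⁻¹ᵁ V) O m

theorem isIso_restrictCmp [IsLocallyNoetherian Y] (hJ : J.FG) {F : X.Modules} (hF : Coh.IsCoh F) (n : ℕ) :
    letI := LeadBC.preOver f hV
    IsIso (restrictCmp f hf hV J F n) := by
  letI := LeadBC.preOver f hV
  haveI := isNoetherianRing_base hV
  haveI : IsLocallyNoetherian (f ⁻¹ᵁ V).toScheme := isLocallyNoetherian_of_isOpenImmersion (f ⁻¹ᵁ V).ι
  have hFr : Coh.IsCoh (F.restrict (f ⁻¹ᵁ V).ι) := H10Coh.isCoh_restrict (f ⁻¹ᵁ V).ι _ hF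
  have hM : Coh.IsCoh (Formal.modPow J n F) := isCoh_modPow J n hF
  refine LeadDev.isIso_of_bijective_affine _ (isCoh_modPow _ n hFr).1 (H10Coh.isCoh_restrict _ _ hM).1 fun O hO => ?_
  have hO' : IsAffineOpen ((f ⁻¹ᵁ V).ι ''ᵁ O) := hO.image_of_isOpenImmersion (f ⁻¹ᵁ V).ι
  refine ⟨(injective_iff_map_eq_zero _).2 fun z hz => ?_, fun z => ?_⟩
  · obtain ⟨m, hm⟩ := surjective_modPowπ (secIdeal J V) n hFr hO z
    subst hm
    have h1 : (Formal.modPowπ J n F).app ((f ⁻¹ᵁ V).ι ''ᵁ O) (show Γ(F, (f ⁻¹ᵁ V).ι ''ᵁ O) from m) = 0 :=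
      (restrictCmp_app f hf hV F n O m).symm.trans hz
    have h2 := (modPowπ_eq_iff hJ hF hO' n _ 0).1 (h1.trans (map_zero _).symm)
    rw [sub_zero, ← secIdeal_pow] at h2
    refine ((modPowπ_eq_iff (IsNoetherian.noetherian _) hFr hO n m 0).2 ?_).trans (map_zero _)
    rw [sub_zero, ← secIdeal_pow]
    exact mem_restrict f hf hV n O _ h2
  · obtain ⟨m, hm⟩ := surjective_modPowπ J n hF hO' z
    exact ⟨(Formal.modPowπ (secIdeal J V) n (F.restrict (f ⁻¹ᵁ V).ι)).app O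
      (toRes F (f ⁻¹ᵁ V) O m), (restrictCmp_app f hf hV F n O m).trans hm⟩

theorem restrictCmp_trans (F : X.Modules) (n : ℕ) :
    letI := LeadBC.preOver f hV
    Formal.modPowTrans (secIdeal J V) n (F.restrict (f ⁻¹ᵁ V).ι) ≫ restrictCmp f hf hV J F n =
      restrictCmp f hf hV J F (n + 1) ≫ (Scheme.Modules.restrictFunctor (f ⁻¹ᵁ V).ι).map (Formal.modPowTrans J n F) := by
  letI := LeadBC.preOver f hV
  refine (cancel_epi (Formal.modPowπ (secIdeal J V) (n + 1) (F.restrict (f ⁻¹ᵁ V).ι))).1 ?_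
  refine (Category.assoc _ _ _).symm.trans ((congrArg (· ≫ _) (Formal.modPowπ_trans _ n _)).trans ?_)
  refine (π_restrictCmp f hf hV F n).trans ?_
  refine Eq.trans ?_ ((congrArg (· ≫ _) (π_restrictCmp f hf hV F (n + 1))).symm.trans (Category.assoc _ _ _))
  exact (congrArg (Scheme.Modules.restrictFunctor (f ⁻¹ᵁ V).ι).map (Formal.modPowπ_trans J n F)).symm.trans
    (Functor.map_comp _ _ _)

/-- Cohomology in degree zero of a restriction to `f⁻¹V`. -/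
noncomputable def preEquiv (N : X.Modules) :
    Coh.HH (f ⁻¹ᵁ V).toScheme (N.restrict (f ⁻¹ᵁ V).ι) 0 ≃+ preSec f N V :=
  (LeadBC.secTopEquiv (N.restrict (f ⁻¹ᵁ V).ι)).trans
    { toFun := fun z => H10Coh.rs N (f ⁻¹ᵁ V).ι_image_top.ge (show Γ(N, (f ⁻¹ᵁ V).ι ''ᵁ ⊤) from z)
      invFun := fun w => H10Coh.rs N (f ⁻¹ᵁ V).ι_image_top.le w
      left_inv := fun z => (H10Coh.rs_rs _ _ _ _).trans (H10Coh.rs_self _ _ _)
      right_inv := fun w => (H10Coh.rs_rs _ _ _ _).trans (H10Coh.rs_self _ _ _)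
      map_add' := fun x y => map_add (H10Coh.rs N (f ⁻¹ᵁ V).ι_image_top.ge) _ _ }

theorem preEquiv_natural {M N : X.Modules} (g : M ⟶ N) :
    ∀ x, preEquiv f N (Hm ((Scheme.Modules.restrictFunctor (f ⁻¹ᵁ V).ι).map g) 0 x) =
      g.app (f ⁻¹ᵁ V) (preEquiv f M x) := by
  intro x
  refine (congrArg (fun z => H10Coh.rs N (f ⁻¹ᵁ V).ι_image_top.ge z)
    (LeadBC.secTopEquiv_natural ((Scheme.Modules.restrictFunctor (f ⁻¹ᵁ V).ι).map g) x)).trans ?_
  exact (H10Coh.app_rs g _ _).symm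

theorem preEquiv_smul (N : X.Modules) :
    letI := LeadBC.preOver f hV
    ∀ (r : Γ(Y, V)) (x : Coh.HH (f ⁻¹ᵁ V).toScheme (N.restrict (f ⁻¹ᵁ V).ι) 0),
      preEquiv f N (r • x) = r • preEquiv f N x := by
  letI := LeadBC.preOver f hV
  intro r x
  refine (congrArg (fun z => H10Coh.rs N (f ⁻¹ᵁ V).ι_image_top.ge z)
    (LeadBC.secTopEquiv_smul (N.restrict (f ⁻¹ᵁ V).ι) r x)).trans ?_
  have hs : scal ((f ⁻¹ᵁ V).toScheme ↘ Spec (CommRingCat.of Γ(Y, V))) ⊤ r =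
      H10Coh.gres (H10Coh.preΓ f V r) ⊤ := by
    rw [← LeadBC.toGlobal_preOver f hV]
    rfl
  rw [hs]
  refine (congrArg (H10Coh.rs N (f ⁻¹ᵁ V).ι_image_top.ge)
    (gres_smul_restrict f N r ⊤ (LeadBC.secTopEquiv (N.restrict (f ⁻¹ᵁ V).ι) x))).trans ?_
  refine (Scheme.Modules.map_smul _ (homOfLE _) _ _).trans ?_
  refine congrArg₂ (fun (c : Γ(X, f ⁻¹ᵁ V)) (x : Γ(N, f ⁻¹ᵁ V)) => c • x) ?_ rfl
  rw [← ConcreteCategory.comp_apply]
  erw [Scheme.Hom.appLE_map]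
  show f.appLE V (f ⁻¹ᵁ V) _ r = f.app V r
  rw [Scheme.Hom.app_eq_appLE]

variable [IsLocallyNoetherian Y] [IsProper f]

theorem properCoh_pre {F : X.Modules} (hF : Coh.IsCoh F) :
    letI := LeadBC.preOver f hV
    ProperCoh (A := Γ(Y, V)) ((f ∣_ V) ≫ hV.isoSpec.hom) (F.restrict (f ⁻¹ᵁ V).ι) := by
  letI := LeadBC.preOver f hV
  haveI : IsProper (f ∣_ V) := IsZariskiLocalAtTarget.restrict (P := @IsProper) ‹IsProper f› V
  haveI : IsProper ((f ⁻¹ᵁ V).toScheme ↘ Spec (CommRingCat.of Γ(Y, V))) :=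
    inferInstanceAs (IsProper ((f ∣_ V) ≫ hV.isoSpec.hom))
  exact properCoh_of_isProper _ (H10Coh.isCoh_restrict _ _ hF)

/-- The cohomological level map reads the projection on sections. -/
theorem preEquiv_toHH (F : X.Modules) (n : ℕ) :
    letI := LeadBC.preOver f hV
    ∀ x, preEquiv f (Formal.modPow J (n + 1) F)
        (Hm (restrictCmp f hf hV J F (n + 1)) 0 (Formal.toHHmodPow (secIdeal J V) (F.restrict (f ⁻¹ᵁ V).ι) 0 n x)) =
      (Formal.modPowπ J (n + 1) F).app (f ⁻¹ᵁ V) (preEquiv f F x) := by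
  letI := LeadBC.preOver f hV
  intro x
  refine (congrArg (preEquiv f (Formal.modPow J (n + 1) F)) ?_).trans (preEquiv_natural f (Formal.modPowπ J (n + 1) F) x)
  exact (Hm_comp (Formal.modPowπ (secIdeal J V) (n + 1) (F.restrict (f ⁻¹ᵁ V).ι)) (restrictCmp f hf hV J F (n + 1)) 0 x).symm.trans
    (congrArg (fun g => Hm g 0 x) (π_restrictCmp f hf hV F (n + 1)))

variable {F : X.Modules}

theorem mem_map_equiv {R : Type u} [CommRing R] {M N : Type u} [AddCommGroup M] [Module R M] [AddCommGroup N] [Module R N]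
    (e : M ≃ₗ[R] N) (I : Ideal R) {x : M} :
    e x ∈ I • (⊤ : Submodule R N) ↔ x ∈ I • (⊤ : Submodule R M) := by
  have h : (I • (⊤ : Submodule R M)).map (e : M →ₗ[R] N) = I • (⊤ : Submodule R N) := by
    rw [Submodule.map_smul'', Submodule.map_top, LinearEquiv.range]
  rw [← h]
  exact ⟨fun ⟨y, hy, hyx⟩ => e.injective hyx ▸ hy, fun hx => ⟨x, hx, rfl⟩⟩

include hf hV in
/-- Formal functions, injectivity. -/
theorem ff_injective (hF : Coh.IsCoh F) (h : ℕ → preSec f F V)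
    (hc : ∀ n, h (n + 1) - h n ∈ secIdeal J V ^ (n + 1) • (⊤ : Submodule Γ(Y, V) (preSec f F V)))
    (h0 : ∀ n, (Formal.modPowπ J (n + 1) F).app (f ⁻¹ᵁ V) (h n) = 0) (hJ : J.FG) (n : ℕ) :
    h n ∈ secIdeal J V ^ (n + 1) • (⊤ : Submodule Γ(Y, V) (preSec f F V)) := by
  letI := LeadBC.preOver f hV
  haveI := isNoetherianRing_base hV
  haveI : LocallyOfFiniteType ((f ⁻¹ᵁ V).toScheme ↘ Spec (CommRingCat.of Γ(Y, V))) :=
    inferInstanceAs (LocallyOfFiniteType ((f ∣_ V) ≫ hV.isoSpec.hom))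
  let e : Coh.HH (f ⁻¹ᵁ V).toScheme (F.restrict (f ⁻¹ᵁ V).ι) 0 ≃ₗ[Γ(Y, V)] preSec f F V :=
    { preEquiv f F with map_smul' := preEquiv_smul f hV F }
  let g : ℕ → Coh.HH (f ⁻¹ᵁ V).toScheme (F.restrict (f ⁻¹ᵁ V).ι) 0 := fun k => e.symm (h (k - 1))
  have hg : ∀ k, g k ≡ g (k + 1) [SMOD (secIdeal J V ^ k • ⊤ :
      Submodule Γ(Y, V) (Coh.HH (f ⁻¹ᵁ V).toScheme (F.restrict (f ⁻¹ᵁ V).ι) 0))] := fun k => by
    rcases k with _ | k
    · rw [SModEq.sub_mem, pow_zero, Ideal.one_eq_top, Submodule.top_smul]; trivial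
    rw [SModEq.sub_mem, ← mem_map_equiv e, map_sub, LinearEquiv.apply_symm_apply, LinearEquiv.apply_symm_apply,
      ← neg_sub]
    exact neg_mem (hc k)
  let x := AdicCompletion.mk (secIdeal J V) _ (AdicCompletion.AdicCauchySequence.mk _ _ g hg)
  have hx : x = 0 := by
    refine fromCompletion_injective _ _ 0 (properCoh_pre f hV hF) ?_
    rw [map_zero]
    refine Subtype.ext (funext fun k => ?_)
    show Formal.toHHmodPow (secIdeal J V) _ 0 k (g (k + 1)) = 0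
    haveI := isIso_restrictCmp f hf hV hJ hF (k + 1)
    have h1 : Hm (restrictCmp f hf hV J F (k + 1)) 0 (Formal.toHHmodPow (secIdeal J V) _ 0 k (g (k + 1))) = 0 := by
      refine (preEquiv f (Formal.modPow J (k + 1) F)).injective ?_
      rw [map_zero, preEquiv_toHH f hf hV]
      show (Formal.modPowπ J (k + 1) F).app (f ⁻¹ᵁ V) (e (e.symm (h k))) = 0
      rw [LinearEquiv.apply_symm_apply]
      exact h0 k
    have h2 := congrArg (Hm (inv (restrictCmp f hf hV J F (k + 1))) 0) h1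
    rw [← Hm_comp, IsIso.hom_inv_id, Hm_id, map_zero] at h2
    exact h2
  have h3 : AdicCompletion.eval (secIdeal J V) _ (n + 1) x = 0 := by rw [hx, map_zero]
  have h4 : g (n + 1) ∈ secIdeal J V ^ (n + 1) •
      (⊤ : Submodule Γ(Y, V) (Coh.HH (f ⁻¹ᵁ V).toScheme (F.restrict (f ⁻¹ᵁ V).ι) 0)) :=
    (Submodule.Quotient.mk_eq_zero _).1 h3
  rw [← mem_map_equiv e] at h4
  simpa [g] using h4

include hf hV in
/-- Formal functions, surjectivity. -/
theorem ff_surjective (hF : Coh.IsCoh F) (z : ∀ n : ℕ, preSec f (Formal.modPow J (n + 1) F) V)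
    (hz : ∀ n, (Formal.modPowTrans J (n + 1) F).app (f ⁻¹ᵁ V) (z (n + 1)) = z n) (hJ : J.FG) :
    ∃ h : ℕ → preSec f F V,
      (∀ n, h (n + 1) - h n ∈ secIdeal J V ^ (n + 1) • (⊤ : Submodule Γ(Y, V) (preSec f F V))) ∧
      ∀ n, (Formal.modPowπ J (n + 1) F).app (f ⁻¹ᵁ V) (h n) = z n := by
  letI := LeadBC.preOver f hV
  haveI := isNoetherianRing_base hV
  haveI : LocallyOfFiniteType ((f ⁻¹ᵁ V).toScheme ↘ Spec (CommRingCat.of Γ(Y, V))) :=
    inferInstanceAs (LocallyOfFiniteType ((f ∣_ V) ≫ hV.isoSpec.hom))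
  haveI : ∀ k, IsIso (restrictCmp f hf hV J F k) := fun k => isIso_restrictCmp f hf hV hJ hF k
  let w : ∀ k, Formal.HHmodPow (secIdeal J V) (F.restrict (f ⁻¹ᵁ V).ι) 0 k := fun k =>
    Hm (inv (restrictCmp f hf hV J F (k + 1))) 0 ((preEquiv f (Formal.modPow J (k + 1) F)).symm (z k))
  have hw : w ∈ Formal.HHlim (secIdeal J V) (F.restrict (f ⁻¹ᵁ V).ι) 0 := fun k => by
    show Hm (Formal.modPowTrans (secIdeal J V) (k + 1) _) 0 (w (k + 1)) = w k
    simp only [w]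
    rw [← Hm_comp]
    have e : inv (restrictCmp f hf hV J F (k + 1 + 1)) ≫ Formal.modPowTrans (secIdeal J V) (k + 1) (F.restrict (f ⁻¹ᵁ V).ι) =
        (Scheme.Modules.restrictFunctor (f ⁻¹ᵁ V).ι).map (Formal.modPowTrans J (k + 1) F) ≫
          inv (restrictCmp f hf hV J F (k + 1)) := by
      rw [IsIso.inv_comp_eq, ← Category.assoc, IsIso.eq_comp_inv]
      exact restrictCmp_trans f hf hV F (k + 1)
    rw [e, Hm_comp]
    congr 1
    refine (preEquiv f (Formal.modPow J (k + 1) F)).injective ?_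
    rw [preEquiv_natural f, AddEquiv.apply_symm_apply, AddEquiv.apply_symm_apply]
    exact hz k
  obtain ⟨x, hx⟩ := fromCompletion_surjective (secIdeal J V) (F.restrict (f ⁻¹ᵁ V).ι) 0
    (properCoh_pre f hV hF) ⟨w, hw⟩
  obtain ⟨g, rfl⟩ := AdicCompletion.mk_surjective (secIdeal J V) _ x
  let e : Coh.HH (f ⁻¹ᵁ V).toScheme (F.restrict (f ⁻¹ᵁ V).ι) 0 ≃ₗ[Γ(Y, V)] preSec f F V :=
    { preEquiv f F with map_smul' := preEquiv_smul f hV F }
  refine ⟨fun n => e (g (n + 1)), fun n => ?_, fun n => ?_⟩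
  · rw [← map_sub, mem_map_equiv e, ← neg_sub]
    exact neg_mem (SModEq.sub_mem.1 (g.2 (Nat.le_succ (n + 1))))
  · have h1 : Formal.toHHmodPow (secIdeal J V) (F.restrict (f ⁻¹ᵁ V).ι) 0 n (g (n + 1)) = w n :=
      congrFun (congrArg Subtype.val hx) n
    refine (preEquiv_toHH f hf hV F n (g (n + 1))).symm.trans ?_
    rw [h1]
    simp only [w]
    rw [← Hm_comp, IsIso.inv_hom_id, Hm_id, AddEquiv.apply_symm_apply]

end Groth.Agent.H24GE
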