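import Mathlib.AlgebraicGeometry.ValuativeCriterion
import Mathlib.AlgebraicGeometry.AffineScheme

/-!
# A chart of a universally closed map around the closure of a point

For a point of an affine open of the base over which the map is an isomorphism and a specialization of it,
there is an affine open of the source through which a valuation ring centred at the specialization lifts.
-/

set_option autoImplicit false
set_option linter.style.haveILetI false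
universe u

open CategoryTheory CategoryTheory.Limits AlgebraicGeometry Opposite

namespace Groth.Agent.H24GE

variable {X Y : Scheme.{u}} (f : X ⟶ Y) [UniversallyClosed f] {V : Y.Opens} (hV : IsAffineOpen V) (k : Γ(Y, V))
  [IsIso (f ∣_ Y.basicOpen k)] {R' : Type u} [CommRing R'] (c : Γ(Y, V) →+* R') {κ : Type u} [Field κ]
  (π : R' →+* κ)

include hV in
theorem range_fromSpec_subset {κ : Type u} [Field κ] (p : Γ(Y, V) →+* κ) {r : Γ(Y, V)} (hr : p r ≠ 0)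
    (t : Spec (CommRingCat.of κ)) : (Spec.map (CommRingCat.ofHom p) ≫ hV.fromSpec) t ∈ Y.basicOpen r := by
  show Spec.map (CommRingCat.ofHom p) t ∈ hV.fromSpec ⁻¹ᵁ Y.basicOpen r
  rw [hV.fromSpec_preimage_basicOpen]
  intro h
  have h1 : p r ∈ t.asIdeal := h
  exact t.isPrime.ne_top (Ideal.eq_top_of_isUnit_mem _ h1 (isUnit_iff_ne_zero.2 hr))

include hV in
/-- An affine chart of `X` through which the closure of a point of the base lifts. -/
theorem exists_chart (hk : π (c k) ≠ 0) (𝔫 : Ideal R') (hπ : RingHom.ker π ≤ 𝔫) (hn : 𝔫 ≠ ⊤) :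
    ∃ (U : X.Opens) (_ : IsAffineOpen U) (e : U ≤ f ⁻¹ᵁ V) (r₀ : Γ(Y, V)) (O : ValuationSubring κ),
      f ⁻¹ᵁ Y.basicOpen r₀ ≤ U ∧ IsIso (f.app (Y.basicOpen r₀)) ∧ π (c r₀) ≠ 0 ∧ (∀ r, π r ∈ O) ∧
        (∀ r ∈ 𝔫, π r ∈ O.nonunits) ∧
        ∀ g : Γ(X, U) →+* κ, g.comp (f.appLE V U e).hom = π.comp c → ∀ s, g s ∈ O := by
  have hI : (𝔫.map π.rangeRestrict) ≠ ⊤ := fun h => hn <| by
    have h1 := Ideal.comap_map_of_surjective π.rangeRestrict π.rangeRestrict_surjective 𝔫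
    rw [h, Ideal.comap_top] at h1
    refine top_le_iff.1 (h1.trans_le (sup_le le_rfl fun r hr => hπ ?_))
    exact congrArg Subtype.val (Ideal.mem_bot.1 hr)
  obtain ⟨O, hle, hnon⟩ := Ideal.image_subset_nonunits_valuationSubring _ hI
  have hO : ∀ r, π r ∈ O := fun r => hle ⟨r, rfl⟩
  have hOn : ∀ r ∈ 𝔫, π r ∈ O.nonunits := fun r hr =>
    hnon ⟨π.rangeRestrict r, Ideal.mem_map_of_mem _ hr, rfl⟩
  let ψ : Γ(Y, V) →+* O := (π.comp c).codRestrict O.toSubring fun r => hO (c r)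
  let i₂ : Spec (CommRingCat.of O) ⟶ Y := Spec.map (CommRingCat.ofHom ψ) ≫ hV.fromSpec
  let j : Spec (CommRingCat.of κ) ⟶ Y := Spec.map (CommRingCat.ofHom (π.comp c)) ≫ hV.fromSpec
  let D := Y.basicOpen k
  have hj : Set.range j ⊆ Set.range D.ι := by
    rintro _ ⟨t, rfl⟩
    rw [Scheme.Opens.range_ι]
    exact range_fromSpec_subset hV _ hk t
  let jD := IsOpenImmersion.lift D.ι j hj
  have hjD : jD ≫ D.ι = j := IsOpenImmersion.lift_fac _ _ _
  let i₁ : Spec (CommRingCat.of κ) ⟶ X := jD ≫ inv (f ∣_ D) ≫ (f ⁻¹ᵁ D).ι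
  have hi₁ : i₁ ≫ f = j := by
    show (jD ≫ inv (f ∣_ D) ≫ (f ⁻¹ᵁ D).ι) ≫ f = j
    rw [Category.assoc, Category.assoc, ← morphismRestrict_ι, IsIso.inv_hom_id_assoc, hjD]
  have hsq : CommSq i₁ (Spec.map (CommRingCat.ofHom (algebraMap O κ))) f i₂ := ⟨by
    rw [hi₁]
    show _ = Spec.map (CommRingCat.ofHom (algebraMap O κ)) ≫ Spec.map (CommRingCat.ofHom ψ) ≫ hV.fromSpec
    rw [← Spec.map_comp_assoc]
    rfl⟩
  have hex : ValuativeCriterion.Existence f :=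
    (UniversallyClosed.eq_valuativeCriterion.le _ _ f ‹UniversallyClosed f›).1
  haveI := hex { R := O, K := κ, i₁ := i₁, i₂ := i₂, commSq := hsq }
  let l : Spec (CommRingCat.of O) ⟶ X := hsq.lift
  have hl₁ : Spec.map (CommRingCat.ofHom (algebraMap O κ)) ≫ l = i₁ := hsq.fac_left
  have hl₂ : l ≫ f = i₂ := hsq.fac_right
  let x₁ : X := l (IsLocalRing.closedPoint O)
  have hx₁ : f x₁ ∈ V := by
    have h1 : f x₁ = i₂ (IsLocalRing.closedPoint O) := by rw [← hl₂]; rfl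
    rw [h1, ← SetLike.mem_coe, ← hV.range_fromSpec]
    exact ⟨_, rfl⟩
  obtain ⟨U, hU, hxU, hUV⟩ := exists_isAffineOpen_mem_and_subset (U := f ⁻¹ᵁ V) hx₁
  have hlU : Set.range l ⊆ Set.range U.ι := by
    rintro _ ⟨t, rfl⟩
    rw [Scheme.Opens.range_ι]
    exact (IsLocalRing.specializes_closedPoint t).mem_open (l ⁻¹ᵁ U).2 hxU
  let lU := IsOpenImmersion.lift U.ι l hlU
  let γ := Spec.preimage (lU ≫ hU.isoSpec.hom)
  have hγ : Spec.map γ ≫ hU.fromSpec = l := by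
    rw [Spec.map_preimage, ← hU.isoSpec_inv_ι, Category.assoc, Iso.hom_inv_id_assoc]
    exact IsOpenImmersion.lift_fac _ _ _
  -- the point of the chart
  let t₀ : Spec (CommRingCat.of κ) := IsLocalRing.closedPoint κ
  let W : Y.Opens := D.ι ''ᵁ (inv (f ∣_ D) ⁻¹ᵁ ((f ⁻¹ᵁ D).ι ⁻¹ᵁ U))
  have hW : j t₀ ∈ W := by
    refine ⟨jD t₀, ?_, congr($(congrArg (fun g : Spec (CommRingCat.of κ) ⟶ Y => g.base) hjD) t₀)⟩
    show i₁ t₀ ∈ U
    rw [← hl₁]
    have := hlU ⟨Spec.map (CommRingCat.ofHom (algebraMap O κ)) t₀, rfl⟩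
    rwa [Scheme.Opens.range_ι] at this
  have hjV : j t₀ ∈ V := by
    rw [← SetLike.mem_coe, ← hV.range_fromSpec]
    exact ⟨_, rfl⟩
  obtain ⟨r₀, hr₀, hjr⟩ := hV.exists_basicOpen_le ⟨j t₀, hW⟩ hjV
  have hr₀D : Y.basicOpen r₀ ≤ D := hr₀.trans ((D.ι.image_le_opensRange _).trans_eq D.opensRange_ι)
  refine ⟨U, hU, hUV, r₀, O, ?_, ?_, ?_, hO, hOn, ?_⟩
  · intro x hx
    obtain ⟨z, hz, hzx⟩ := hr₀ hx
    have hxD : x ∈ f ⁻¹ᵁ D := hr₀D hx
    have e : (f ∣_ D) ⟨x, hxD⟩ = z := Subtype.ext ((morphismRestrict_base_coe f D ⟨x, hxD⟩).trans hzx.symm)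
    rw [← e] at hz
    have e2 : inv (f ∣_ D) ((f ∣_ D) ⟨x, hxD⟩) = ⟨x, hxD⟩ :=
      congr($(congrArg (fun g : (f ⁻¹ᵁ D).toScheme ⟶ (f ⁻¹ᵁ D).toScheme => g.base) (IsIso.hom_inv_id (f ∣_ D))) ⟨x, hxD⟩)
    change (f ⁻¹ᵁ D).ι (inv (f ∣_ D) ((f ∣_ D) ⟨x, hxD⟩)) ∈ U at hz
    rwa [e2] at hz
  · have e : D.ι ''ᵁ (D.ι ⁻¹ᵁ Y.basicOpen r₀) = Y.basicOpen r₀ := by
      rw [Scheme.Hom.image_preimage_eq_opensRange_inf, Scheme.Opens.opensRange_ι]
      exact inf_eq_right.2 hr₀D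
    have h1 : IsIso ((f ∣_ D).app (D.ι ⁻¹ᵁ Y.basicOpen r₀)) := inferInstance
    rw [morphismRestrict_app] at h1
    have hmap : ∀ {P Q : (Opposite X.Opens)} (g : P ⟶ Q) [IsIso g], IsIso (X.presheaf.map g) :=
      fun g _ => Functor.map_isIso X.presheaf g
    have h2 : IsIso (f.app (D.ι ''ᵁ (D.ι ⁻¹ᵁ Y.basicOpen r₀))) :=
      @IsIso.of_isIso_comp_right _ _ _ _ _ _ _ (hmap _) h1
    rwa [e] at h2
  · intro h0
    have h1 : Spec.map (CommRingCat.ofHom (π.comp c)) t₀ ∈ hV.fromSpec ⁻¹ᵁ Y.basicOpen r₀ := hjr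
    rw [hV.fromSpec_preimage_basicOpen] at h1
    refine h1 ?_
    show (π.comp c) r₀ ∈ t₀.asIdeal
    rw [RingHom.comp_apply, h0]
    exact zero_mem _
  · intro g hg s
    have hg' : Spec.map (CommRingCat.ofHom g) ≫ hU.fromSpec = i₁ := by
      have ha : (Spec.map (CommRingCat.ofHom g) ≫ hU.fromSpec) ≫ f = j := by
        rw [Category.assoc, ← hV.SpecMap_appLE_fromSpec f hU hUV, ← Spec.map_comp_assoc]
        exact congrArg (fun p => Spec.map (CommRingCat.ofHom p) ≫ hV.fromSpec) hg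
      have hr : Set.range (Spec.map (CommRingCat.ofHom g) ≫ hU.fromSpec) ⊆ Set.range (f ⁻¹ᵁ D).ι := by
        rintro _ ⟨t, rfl⟩
        rw [Scheme.Opens.range_ι]
        show ((Spec.map (CommRingCat.ofHom g) ≫ hU.fromSpec) ≫ f) t ∈ D
        rw [ha]
        exact range_fromSpec_subset hV _ hk t
      have h2 : IsOpenImmersion.lift (f ⁻¹ᵁ D).ι _ hr ≫ (f ∣_ D) = jD := by
        rw [← cancel_mono D.ι, Category.assoc, morphismRestrict_ι, IsOpenImmersion.lift_fac_assoc, hjD]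
        exact ha
      show _ = jD ≫ inv (f ∣_ D) ≫ (f ⁻¹ᵁ D).ι
      rw [← h2, Category.assoc, IsIso.hom_inv_id_assoc, IsOpenImmersion.lift_fac]
    have key : Spec.map (γ ≫ CommRingCat.ofHom (algebraMap O κ)) = Spec.map (CommRingCat.ofHom g) := by
      rw [← cancel_mono hU.fromSpec, hg', Spec.map_comp, Category.assoc, hγ, hl₁]
    have h3 : γ ≫ CommRingCat.ofHom (algebraMap O κ) = CommRingCat.ofHom g := Spec.map_injective key
    have h4 : ((γ.hom s : O) : κ) = g s := congr($(congrArg CommRingCat.Hom.hom h3) s)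
    rw [← h4]
    exact (γ.hom s).2

end Groth.Agent.H24GE
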