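import Groth.Agent.H24GE.PushLim
import Groth.Agent.H24GE.PushAlg
import Groth.Agent.H24GE.PushBC
import Groth.Agent.H24GE.PushGeom
import Groth.Agent.H8Props.RelFP.PullSections
import Mathlib.AlgebraicGeometry.Morphisms.FiniteType

/-!
# Kernel and cokernel of the map to the completion of a direct image, on an affine open
-/

set_option autoImplicit false
set_option linter.style.haveILetI false
set_option linter.unusedSectionVars false
universe u

open CategoryTheory CategoryTheory.Limits AlgebraicGeometry Opposite TensorProduct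

namespace Groth.Agent.H24GE

open Groth.Agent.H24Formal Groth.Agent.H24Formal.HomC

/-- Elements killed in `S ⊗ M / J ^ n M` are divisible in the chart over the completion. -/
theorem one_tmul_mem {R R' S M Q : Type u} [CommRing R] [CommRing R'] [CommRing S] [Algebra R R'] [Algebra R S]
    [AddCommGroup M] [Module R M] [Module R' M] [IsScalarTower R R' M] [AddCommGroup Q] [Module R Q] (J : Ideal R)
    (n : ℕ) (p : M →ₗ[R] Q) (hp : Function.Surjective p) (hker : LinearMap.ker p ≤ J ^ n • (⊤ : Submodule R M))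
    (m : M) (hm : (1 : S) ⊗ₜ[R] p m = 0) :
    letI := Algebra.TensorProduct.rightAlgebra (R := R) (A := S) (B := R')
    (1 : S ⊗[R] R') ⊗ₜ[R'] m ∈
      (J.map (algebraMap R (S ⊗[R] R'))) ^ n • (⊤ : Submodule (S ⊗[R] R') ((S ⊗[R] R') ⊗[R'] M)) := by
  letI := Algebra.TensorProduct.rightAlgebra (R := R) (A := S) (B := R')
  let T : Submodule (S ⊗[R] R') ((S ⊗[R] R') ⊗[R'] M) := (J.map (algebraMap R (S ⊗[R] R'))) ^ n • ⊤
  let u : M →ₗ[R] ((S ⊗[R] R') ⊗[R'] M) ⧸ T :=
    (T.mkQ.restrictScalars R).comp ((TensorProduct.mk R' (S ⊗[R] R') M 1).restrictScalars R)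
  have hu : LinearMap.ker p ≤ LinearMap.ker u := fun x hx => by
    refine Submodule.smul_induction_on (hker hx) (fun a ha y _ => ?_) fun a b ha hb => add_mem ha hb
    rw [LinearMap.mem_ker, map_smul, ← algebraMap_smul (S ⊗[R] R') a]
    show algebraMap R (S ⊗[R] R') a • T.mkQ ((1 : S ⊗[R] R') ⊗ₜ[R'] y) = 0
    rw [← map_smul, Submodule.mkQ_apply, Submodule.Quotient.mk_eq_zero]
    refine Submodule.smul_mem_smul ?_ trivial
    rw [← Ideal.map_pow]
    exact Ideal.mem_map_of_mem _ ha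
  let u' : Q →ₗ[R] ((S ⊗[R] R') ⊗[R'] M) ⧸ T :=
    ((LinearMap.ker p).liftQ u hu).comp (p.quotKerEquivOfSurjective hp).symm.toLinearMap
  have hu' : u' (p m) = u m := by
    show (LinearMap.ker p).liftQ u hu ((p.quotKerEquivOfSurjective hp).symm (p m)) = u m
    rw [← LinearMap.quotKerEquivOfSurjective_apply_mk p hp m, LinearEquiv.symm_apply_apply]
    rfl
  have h2 := congrArg (LinearMap.liftBaseChange S u') hm
  rw [map_zero, LinearMap.liftBaseChange_tmul, one_smul, hu'] at h2
  exact (Submodule.Quotient.mk_eq_zero T).1 h2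

theorem isUnit_of_residue {R' : Type u} [CommRing R'] [IsLocalRing R'] {x : R'}
    (h : IsLocalRing.residue R' x ≠ 0) : IsUnit x :=
  not_not.1 fun hx => h ((IsLocalRing.residue_eq_zero_iff x).2 hx)

/-- The map of the chart over the completion to a local ring, and its units. -/
theorem exists_sigma {R R' S L : Type u} [CommRing R] [CommRing R'] [CommRing S] [Algebra R R'] [Algebra R S]
    [CommRing L] [IsLocalRing L] [Algebra R L] [Algebra R' L] [IsScalarTower R R' L] (J : Ideal R)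
    (σ₀ : S →+* L) (hσ₀ : ∀ r, σ₀ (algebraMap R S r) = algebraMap R L r)
    (O : ValuationSubring (IsLocalRing.ResidueField L))
    (hO : ∀ r, IsLocalRing.residue L (algebraMap R' L r) ∈ O)
    (hOn : ∀ a ∈ J, IsLocalRing.residue L (algebraMap R L a) ∈ O.nonunits)
    (hS : ∀ s, IsLocalRing.residue L (σ₀ s) ∈ O) :
    letI := Algebra.TensorProduct.rightAlgebra (R := R) (A := S) (B := R')
    ∃ σ : S ⊗[R] R' →ₐ[R'] L, (∀ s, σ (s ⊗ₜ 1) = σ₀ s) ∧
      ∀ j ∈ J.map (algebraMap R (S ⊗[R] R')), IsUnit (σ (1 + j)) := by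
  letI := Algebra.TensorProduct.rightAlgebra (R := R) (A := S) (B := R')
  let σR : S ⊗[R] R' →ₐ[R] L := Algebra.TensorProduct.lift ({ σ₀ with commutes' := hσ₀ } : S →ₐ[R] L)
    (IsScalarTower.toAlgHom R R' L) fun _ _ => Commute.all _ _
  have hσR : ∀ s r, σR (s ⊗ₜ r) = σ₀ s * algebraMap R' L r := fun s r => Algebra.TensorProduct.lift_tmul _ _ _ s r
  let σ : S ⊗[R] R' →ₐ[R'] L := { σR.toRingHom with
    commutes' := fun r => (hσR 1 r).trans (by rw [map_one, one_mul]) }
  have hval : ∀ x, IsLocalRing.residue L (σR x) ∈ O := fun x => by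
    induction x with
    | zero => rw [map_zero, map_zero]; exact zero_mem _
    | tmul s r => rw [hσR, map_mul]; exact mul_mem (hS s) (hO r)
    | add a b ha hb => rw [map_add, map_add]; exact add_mem ha hb
  let Λ : S ⊗[R] R' →+* O :=
    ((IsLocalRing.residue L).comp σR.toRingHom).codRestrict O.toSubring hval
  have hΛ : J.map (algebraMap R (S ⊗[R] R')) ≤ (IsLocalRing.maximalIdeal O).comap Λ := by
    rw [Ideal.map_le_iff_le_comap]
    intro a ha
    obtain ⟨z, hz, hza⟩ := O.image_maximalIdeal.symm.subset (hOn a ha)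
    have he : Λ (algebraMap R (S ⊗[R] R') a) = z :=
      Subtype.ext ((congrArg (IsLocalRing.residue L) (σR.commutes a)).trans hza.symm)
    show Λ (algebraMap R (S ⊗[R] R') a) ∈ IsLocalRing.maximalIdeal O
    rw [he]
    exact hz
  refine ⟨σ, fun s => (hσR s 1).trans (by rw [map_one, mul_one]), fun j hj => ?_⟩
  refine isUnit_of_residue fun h0 => ?_
  have h1 : Λ (1 + j) = 0 := Subtype.ext h0
  have h2 : Λ j ∈ IsLocalRing.maximalIdeal O := hΛ hj
  rw [map_add, map_one, add_eq_zero_iff_eq_neg] at h1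
  have h3 : (1 : O) ∈ IsLocalRing.maximalIdeal O := h1 ▸ neg_mem h2
  exact (IsLocalRing.maximalIdeal.isMaximal O).ne_top ((Ideal.eq_top_iff_one _).2 h3)

variable {A : Type u} [CommRing A] {X Y : Scheme.{u}} [X.Over (Spec (CommRingCat.of A))]
  [Y.Over (Spec (CommRingCat.of A))] (f : X ⟶ Y)
  (hf : f ≫ (Y ↘ Spec (CommRingCat.of A)) = X ↘ Spec (CommRingCat.of A)) (J : Ideal A) {F : X.Modules}
  {G : ℕᵒᵖ ⥤ Y.Modules} (β : (G ⋙ Scheme.Modules.pullback f) ≅ Formal.completion J F)

/-- The unit read on sections. -/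
theorem pushUnit_app_apply (n : ℕ) (V : Y.Opens) (g : Γ(G.obj (op n), V)) :
    ((pushUnit f J F β).app (op n)).app V g =
      (β.hom.app (op n)).app (f ⁻¹ᵁ V) (OmegaSh.pullSect f (G.obj (op n)) V g) := rfl

theorem nat_app_apply {M N : X.Modules} (φ : M ⟶ N) {U W : X.Opens} (h : U ≤ W) (x : Γ(M, W)) :
    φ.app U (M.presheaf.map (homOfLE h).op x) = N.presheaf.map (homOfLE h).op (φ.app W x) :=
  H11Tilde.app_map_apply φ h x

variable {V : Y.Opens} (hV : IsAffineOpen V) {U : X.Opens} (hU : IsAffineOpen U) (e : U ≤ f ⁻¹ᵁ V)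

/-- Restriction to an open of the source. -/
noncomputable def resLinU (F : X.Modules) :
    letI := Module.compHom Γ(F, U) (f.appLE V U e).hom
    preSec f F V →ₗ[Γ(Y, V)] Γ(F, U) :=
  letI := Module.compHom Γ(F, U) (f.appLE V U e).hom
  { toFun := F.presheaf.map (homOfLE e).op
    map_add' := map_add _
    map_smul' := fun r x => Scheme.Modules.map_smul F _ (f.app V r) x }

include hV hU in
/-- A section of a level which dies in the direct image dies in the chart. -/
theorem ker_level (hG : ∀ n : ℕ, Coh.IsCoh (G.obj (op n))) (n : ℕ) (g : Γ(G.obj (op n), V))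
    (hg : ((pushUnit f J F β).app (op n)).app V g = 0) :
    letI := (f.appLE V U e).hom.toAlgebra
    (1 : Γ(X, U)) ⊗ₜ[Γ(Y, V)] g = 0 := by
  letI := (f.appLE V U e).hom.toAlgebra
  letI := Module.compHom Γ((Scheme.Modules.pullback f).obj (G.obj (op n)), U) (f.appLE V U e).hom
  haveI : IsScalarTower Γ(Y, V) Γ(X, U) Γ((Scheme.Modules.pullback f).obj (G.obj (op n)), U) :=
    .of_algebraMap_smul fun _ _ => rfl
  have hb := H8Props.PullSections.isBaseChange_pullLin f (G.obj (op n)) e (hG n).1 hV hU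
  refine hb.equiv.injective ?_
  rw [IsBaseChange.equiv_tmul, one_smul, map_zero]
  have h0 : OmegaSh.pullSect f (G.obj (op n)) V g = 0 := by
    refine (H10Coh.injective_app_of_mono' (β.hom.app (op n)) (f ⁻¹ᵁ V)) ?_
    exact hg.trans (map_zero _).symm
  show ((Scheme.Modules.pullback f).obj (G.obj (op n))).presheaf.map (homOfLE e).op (OmegaSh.pullSect f _ V g) = 0
  rw [h0, map_zero]

include hf hV hU in
/-- The first level spans the chart. -/
theorem span_level [IsLocallyNoetherian X] (hJ : J.FG) (hF : Coh.IsCoh F) (hG : ∀ n : ℕ, Coh.IsCoh (G.obj (op n)))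
    (T : Set (preSec f F V))
    (hT : ∀ g : Γ(G.obj (op 0), V), ∃ h ∈ T, ((pushUnit f J F β).app (op 0)).app V g =
      (Formal.modPowπ J (0 + 1) F).app (f ⁻¹ᵁ V) h) :
    Submodule.span Γ(X, U) ((F.presheaf.map (homOfLE e).op : Γ(F, f ⁻¹ᵁ V) → Γ(F, U)) '' T) ⊔
      (secIdeal J V).map (f.appLE V U e).hom • (⊤ : Submodule Γ(X, U) Γ(F, U)) = ⊤ := by
  refine eq_top_iff.2 fun p _ => ?_
  rw [secIdeal_map f hf]
  let Tp := Submodule.span Γ(X, U) ((F.presheaf.map (homOfLE e).op : Γ(F, f ⁻¹ᵁ V) → Γ(F, U)) '' T)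
  let π := appL (Formal.modPowπ J (0 + 1) F) U
  haveI : ((Scheme.Modules.pullback f).obj (G.obj (op 0))).IsQuasicoherent := H29Fitt.isQCoh_pullback f _ (hG 0).1
  obtain ⟨z, hz⟩ : ∃ z, (β.hom.app (op 0)).app U z = π p := by
    refine ⟨(β.inv.app (op 0)).app U (π p), ?_⟩
    exact comp_app_eq (c := 𝟙 _) (β.inv_hom_id_app (op 0)) U (π p)
  letI := (f.appLE V U e).hom.toAlgebra
  letI := Module.compHom Γ((Scheme.Modules.pullback f).obj (G.obj (op 0)), U) (f.appLE V U e).hom
  haveI : IsScalarTower Γ(Y, V) Γ(X, U) Γ((Scheme.Modules.pullback f).obj (G.obj (op 0)), U) :=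
    .of_algebraMap_smul fun _ _ => rfl
  have hb := H8Props.PullSections.isBaseChange_pullLin f (G.obj (op 0)) e (hG 0).1 hV hU
  have hmem : π p ∈ Submodule.map π Tp := by
    rw [← hz]
    refine hb.inductionOn z (fun z => (β.hom.app (op 0)).app U z ∈ Submodule.map π Tp) ?_ (fun g => ?_)
      (fun s w hw => ?_) fun a b ha hb => ?_
    · rw [map_zero]; exact zero_mem _
    · obtain ⟨h, hh, hgh⟩ := hT g
      refine ⟨F.presheaf.map (homOfLE e).op h, Submodule.subset_span ⟨h, hh, rfl⟩, ?_⟩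
      refine (nat_app_apply (Formal.modPowπ J (0 + 1) F) e h).trans ?_
      refine (congrArg ((Formal.modPow J (0 + 1) F).presheaf.map (homOfLE e).op) hgh).symm.trans ?_
      rw [pushUnit_app_apply]
      exact (nat_app_apply (β.hom.app (op 0)) e _).symm
    · have e2 : (β.hom.app (op 0)).app U (s • w) = s • (β.hom.app (op 0)).app U w := Scheme.Modules.Hom.app_smul _ s w
      rw [e2]
      exact Submodule.smul_mem _ _ hw
    · rw [map_add]; exact add_mem ha hb
  obtain ⟨q, hq, hqp⟩ := hmem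
  have h1 : q - p ∈ secIdeal J U • (⊤ : Submodule Γ(X, U) Γ(F, U)) := by
    have h2 := (modPowπ_eq_iff hJ hF hU (0 + 1) q p).1 hqp
    rwa [zero_add, pow_one] at h2
  rw [← sub_sub_cancel q p]
  exact sub_mem (Submodule.mem_sup_left hq) (Submodule.mem_sup_right h1)

include hV in
/-- The maps from a chart to a localization. -/
theorem exists_sigma_tau (hH : Coh.IsQCoh ((Scheme.Modules.pushforward f).obj F)) (r₀ : Γ(Y, V))
    (hr₀U : f ⁻¹ᵁ Y.basicOpen r₀ ≤ U) (hiso : IsIso (f.app (Y.basicOpen r₀))) (L LN : Type u) [CommRing L]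
    [Algebra Γ(Y, V) L] [AddCommGroup LN] [Module Γ(Y, V) LN] [Module L LN] [IsScalarTower Γ(Y, V) L LN]
    (hu : IsUnit (algebraMap Γ(Y, V) L r₀)) (ψ : preSec f F V →ₗ[Γ(Y, V)] LN) :
    ∃ (σ : Γ(X, U) →+* L) (τ : Γ(F, U) →+ LN), σ.comp (f.appLE V U e).hom = algebraMap Γ(Y, V) L ∧
      (∀ s p, τ (s • p) = σ s • τ p) ∧ ∀ h, τ (F.presheaf.map (homOfLE e).op h) = ψ h := by
  haveI := hV.isLocalization_basicOpen r₀
  let D := Y.basicOpen r₀
  let lam : Γ(Y, D) →+* L := IsLocalization.Away.lift r₀ hu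
  have hlam : ∀ r, lam (algebraMap Γ(Y, V) Γ(Y, D) r) = algebraMap Γ(Y, V) L r :=
    IsLocalization.Away.lift_eq r₀ hu
  let resX : Γ(X, U) →+* Γ(X, f ⁻¹ᵁ D) := (X.presheaf.map (homOfLE hr₀U).op).hom
  have happ : ∀ t, (inv (f.app D)).hom ((f.app D).hom t) = t := fun t =>
    congr($(congrArg CommRingCat.Hom.hom (IsIso.hom_inv_id (f.app D))) t)
  have happ' : ∀ t, (f.app D).hom ((inv (f.app D)).hom t) = t := fun t =>
    congr($(congrArg CommRingCat.Hom.hom (IsIso.inv_hom_id (f.app D))) t)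
  let σ : Γ(X, U) →+* L := lam.comp ((inv (f.app D)).hom.comp resX)
  let H := (Scheme.Modules.pushforward f).obj F
  letI := Module.compHom Γ(H, D) (algebraMap Γ(Y, V) Γ(Y, D))
  haveI : IsScalarTower Γ(Y, V) Γ(Y, D) Γ(H, D) := .of_algebraMap_smul fun _ _ => rfl
  haveI := H29Fitt.isLocalizedModule_resLin H hH hV r₀
  have hunits : ∀ x : Submonoid.powers r₀, IsUnit (algebraMap Γ(Y, V) (Module.End Γ(Y, V) LN) x) := by
    rintro ⟨_, i, rfl⟩
    rw [map_pow]
    refine IsUnit.pow i ((Module.End.isUnit_iff _).2 ?_)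
    have he : ∀ z : LN, algebraMap Γ(Y, V) (Module.End Γ(Y, V) LN) r₀ z = algebraMap Γ(Y, V) L r₀ • z :=
      fun z => by rw [Module.algebraMap_end_apply, algebraMap_smul]
    obtain ⟨v, hv⟩ := hu
    refine Function.bijective_iff_has_inverse.2 ⟨fun z => (↑v⁻¹ : L) • z, fun z => ?_, fun z => ?_⟩
    · show (↑v⁻¹ : L) • _ = z
      rw [he, ← hv, smul_smul, Units.inv_mul, one_smul]
    · rw [he, ← hv, smul_smul, Units.mul_inv, one_smul]
  let g : Γ(H, D) →ₗ[Γ(Y, V)] LN :=
    IsLocalizedModule.lift (Submonoid.powers r₀) (H29Fitt.resLin H r₀) ψ hunits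
  have hg : ∀ h, g (H29Fitt.resLin H r₀ h) = ψ h :=
    IsLocalizedModule.lift_apply (Submonoid.powers r₀) (H29Fitt.resLin H r₀) ψ hunits
  have hgs : ∀ (t : Γ(Y, D)) (x : Γ(H, D)), g (t • x) = lam t • g x := fun t x => by
    obtain ⟨⟨a, s⟩, hs⟩ := IsLocalization.surj (Submonoid.powers r₀) t
    obtain ⟨i, hi⟩ := s.2
    have hsu : IsUnit (algebraMap Γ(Y, V) L s) := by
      rw [← hi, map_pow]; exact hu.pow i
    apply hsu.smul_left_cancel.1
    rw [algebraMap_smul, ← map_smul g, ← algebraMap_smul Γ(Y, D) (s : Γ(Y, V)), smul_smul, mul_comm, hs,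
      algebraMap_smul, map_smul g, smul_smul, ← hlam s, ← map_mul, mul_comm, hs, hlam, algebraMap_smul]
  let rP : Γ(F, U) →+ Γ(H, D) :=
    { toFun := fun p => (show Γ(H, D) from F.presheaf.map (homOfLE hr₀U).op p)
      map_zero' := map_zero (F.presheaf.map (homOfLE hr₀U).op).hom
      map_add' := fun a b => map_add (F.presheaf.map (homOfLE hr₀U).op).hom a b }
  refine ⟨σ, g.toAddMonoidHom.comp rP, RingHom.ext fun r => ?_, fun s p => ?_, fun h => ?_⟩
  · show lam ((inv (f.app D)).hom (resX ((f.appLE V U e).hom r))) = _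
    have e1 : resX ((f.appLE V U e).hom r) = (f.app D).hom (algebraMap Γ(Y, V) Γ(Y, D) r) := by
      show (f.appLE V U e ≫ X.presheaf.map (homOfLE hr₀U).op).hom r =
        (Y.presheaf.map (homOfLE (Y.basicOpen_le r₀)).op ≫ f.app D).hom r
      rw [Scheme.Hom.appLE_map, Scheme.Hom.app_eq_appLE, Scheme.Hom.map_appLE]
    rw [e1, happ, hlam]
  · show g (rP (s • p)) = lam ((inv (f.app D)).hom (resX s)) • g (rP p)
    rw [← hgs]
    refine congrArg g ?_
    show F.presheaf.map (homOfLE hr₀U).op (s • p) = (f.app D).hom ((inv (f.app D)).hom (resX s)) • _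
    rw [happ']
    exact Scheme.Modules.map_smul F _ s p
  · show g (rP (F.presheaf.map (homOfLE e).op h)) = ψ h
    refine Eq.trans ?_ (hg h)
    refine congrArg g ?_
    show F.presheaf.map (homOfLE hr₀U).op (F.presheaf.map (homOfLE e).op h) = F.presheaf.map _ h
    rw [← ConcreteCategory.comp_apply, ← F.presheaf.map_comp]
    rfl

variable [IsNoetherian Y] [IsLocallyNoetherian X] [IsProper f]

include hf hV in
/-- Over an affine open the kernel and the cokernel of the limit map are killed by powers of a function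
over whose nonvanishing locus the map is an isomorphism. -/
theorem exists_pow_local (hJ : J.FG) (hF : Coh.IsCoh F) (hG : Formal.IsCohFormal J G)
    (α : G ⟶ Formal.completion J ((Scheme.Modules.pushforward f).obj F))
    (hα : α ≫ pushCmp f hf J F = pushUnit f J F β) (k : Γ(Y, V)) [IsIso (f ∣_ Y.basicOpen k)] :
    ∃ N : ℕ, (∀ m : Γ(limit G, V), (limMap α).app V m = 0 → k ^ N • m = 0) ∧
      ∀ y, ∃ m : Γ(limit G, V), (limMap α).app V m = k ^ N • y := by
  let H := (Scheme.Modules.pushforward f).obj F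
  have hH : Coh.IsCoh H := isCoh_pushforward f hF
  have hHf := isCohFormal_compl (I := J) hH
  haveI := isNoetherianRing_sections (X := Y) hV
  haveI := finite_sections' hH hV
  haveI := finite_sections' (hG.1 0) hV
  let SM := secSys hJ hG hV
  let SN := secSys hJ hHf hV
  haveI : Module.Finite Γ(Y, V) Γ((Formal.completion J H).obj (op 0), V) := finite_sections' (hHf.1 0) hV
  letI := cmodule SM
  letI := cmodule SN
  haveI := isScalarTower_cmodule SM
  haveI := isScalarTower_cmodule SN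
  haveI := finite_limit SM
  haveI := finite_limit SN
  haveI := AdicCompletion.isAdicComplete_self (secIdeal J V) (IsNoetherian.noetherian (secIdeal J V))
  haveI := H24Adic.isNoetherianRing_adicCompletion (secIdeal J V)
  let R' := AdicCompletion (secIdeal J V) Γ(Y, V)
  let φ : Γ(limit G, V) →ₗ[R'] Γ(limit (Formal.completion J H), V) :=
    { toFun := fun m => (limMap α).app V m
      map_add' := fun a b => map_add _ a b
      map_smul' := fun r x => map_csmul SN SM (appL (limMap α) V) r x }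
  let ι : preSec f F V →ₗ[Γ(Y, V)] Γ(limit (Formal.completion J H), V) := appL (toLim J H) V
  have hιπ : ∀ n h, SN.π n (ι h) = (Formal.modPowπ J (n + 1) H).app V h := fun n h =>
    comp_app_eq (toLim_π J H n) V h
  have hι : IsBaseChange R' ι := isBaseChange_limit SN ι
    (fun n y => by
      obtain ⟨h, hh⟩ := surjective_modPowπ J (n + 1) hH hV y
      exact ⟨h, (hιπ n h).trans hh⟩)
    fun n h => by
      have h1 := modPowπ_eq_iff hJ hH hV (n + 1) h 0
      rw [sub_zero, map_zero] at h1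
      exact (Iff.of_eq (congrArg (· = 0) (hιπ n h))).trans h1
  have hlev : ∀ (n : ℕ) (g : Γ(G.obj (op n), V)), ((pushUnit f J F β).app (op n)).app V g =
      ((pushCmp f hf J F).app (op n)).app V ((α.app (op n)).app V g) := fun n g =>
    (comp_app_eq (congrArg (fun a => NatTrans.app a (op n)) hα) V g).symm
  have main : ∀ 𝔮 : Ideal R', 𝔮.IsPrime → algebraMap Γ(Y, V) R' k ∉ 𝔮 →
      (∀ m, φ m = 0 → ∃ u ∉ 𝔮, u • m = 0) ∧ ∀ y, ∃ u ∉ 𝔮, u • y ∈ LinearMap.range φ := by
    intro 𝔮 _ hk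
    obtain ⟨𝔫, h𝔫, hq𝔫⟩ := 𝔮.exists_le_maximal Ideal.IsPrime.ne_top'
    have hJ𝔫 : (secIdeal J V).map (algebraMap Γ(Y, V) R') ≤ 𝔫 := by
      refine (IsAdicComplete.le_jacobson_bot _).trans ?_
      exact sInf_le ⟨bot_le, h𝔫⟩
    let Lq := Localization.AtPrime 𝔮
    let π : R' →+* IsLocalRing.ResidueField Lq := (IsLocalRing.residue Lq).comp (algebraMap R' Lq)
    have hπker : ∀ r, π r = 0 ↔ r ∈ 𝔮 := fun r => by
      show IsLocalRing.residue Lq (algebraMap R' Lq r) = 0 ↔ _
      rw [IsLocalRing.residue_eq_zero_iff, IsLocalization.AtPrime.to_map_mem_maximal_iff Lq 𝔮]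
    obtain ⟨U, hU, e, r₀, O, hr₀U, hiso, hr₀, hO, hOn, hg⟩ :=
      exists_chart f hV k (algebraMap Γ(Y, V) R') π (fun h => hk ((hπker _).1 h)) 𝔫
        (fun r hr => hq𝔫 ((hπker r).1 hr)) h𝔫.ne_top
    letI := (f.appLE V U e).hom.toAlgebra
    letI := Module.compHom Γ(F, U) (f.appLE V U e).hom
    haveI : IsScalarTower Γ(Y, V) Γ(X, U) Γ(F, U) := .of_algebraMap_smul fun _ _ => rfl
    haveI := finite_sections' hF hU
    haveI : Algebra.FiniteType Γ(Y, V) Γ(X, U) := by
      rw [← RingHom.finiteType_algebraMap]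
      exact HasRingHomProperty.appLE @LocallyOfFiniteType f inferInstance ⟨V, hV⟩ ⟨U, hU⟩ e
    have hu0 : IsUnit (algebraMap Γ(Y, V) Lq r₀) := by
      rw [IsScalarTower.algebraMap_apply Γ(Y, V) R' Lq]
      refine (IsLocalization.AtPrime.isUnit_to_map_iff Lq 𝔮 _).2 fun h => hr₀ ((hπker _).2 h)
    let LN := LocalizedModule 𝔮.primeCompl Γ(limit (Formal.completion J H), V)
    let ψ : preSec f F V →ₗ[Γ(Y, V)] LN :=
      ((LocalizedModule.mkLinearMap 𝔮.primeCompl Γ(limit (Formal.completion J H), V)).restrictScalars Γ(Y, V)).comp ι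
    obtain ⟨σ₀, τ, hσ₀, hτ, hτρ⟩ := exists_sigma_tau f hV e hH.1 r₀ hr₀U hiso Lq LN hu0 ψ
    letI := Algebra.TensorProduct.rightAlgebra (R := Γ(Y, V)) (A := Γ(X, U)) (B := R')
    obtain ⟨σ, hσt, hσu⟩ := exists_sigma (R' := R') (secIdeal J V) σ₀ (fun r => RingHom.congr_fun hσ₀ r) O hO
      (fun a ha => by
        rw [IsScalarTower.algebraMap_apply Γ(Y, V) R' Lq]
        exact hOn _ (hJ𝔫 (Ideal.mem_map_of_mem _ ha)))
      (hg ((IsLocalRing.residue Lq).comp σ₀) (by
        rw [RingHom.comp_assoc, hσ₀, IsScalarTower.algebraMap_eq Γ(Y, V) R' Lq]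
        rfl))
    refine PushAlg.exists_smul (secIdeal J V) hι (resLinU f e F) φ ?_ ?_ 𝔮 σ ?_ τ ?_ ?_
    · intro m hm n
      rcases n with _ | n
      · rw [pow_zero, Ideal.one_eq_top, Submodule.top_smul]; trivial
      refine one_tmul_mem (secIdeal J V) (n + 1) (SM.π n) (SM.π_surjective n)
        (SM.ker_eq_of_fg (IsNoetherian.noetherian _) n).le m ?_
      refine ker_level f J β hV hU e hG.1 n _ ?_
      rw [hlev]
      refine (congrArg (((pushCmp f hf J F).app (op n)).app V) ?_).trans (map_zero _)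
      refine (limMap_π_app α n V m).symm.trans ?_
      exact (congrArg ((limit.π (Formal.completion J H) (op n)).app V) hm).trans (map_zero _)
    · refine span_level f hf J β hV hU e hJ hF hG.1 _ fun g => ?_
      obtain ⟨m, rfl⟩ := SM.π_surjective 0 g
      obtain ⟨h, hh⟩ := surjective_modPowπ J (0 + 1) hH hV ((limit.π (Formal.completion J H) (op 0)).app V (φ m))
      refine ⟨h, ⟨m, ?_⟩, ?_⟩
      · have h1 := mem_pow_of_π_eq_zero SN (n := 0) (x := φ m - ι h) (by
          rw [map_sub, hιπ]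
          exact sub_eq_zero.2 hh.symm)
        rwa [zero_add, pow_one] at h1
      · refine (hlev 0 _).trans ?_
        refine Eq.trans ?_ (pushCmp_app_apply f hf J F 0 V h)
        refine congrArg (((pushCmp f hf J F).app (op 0)).app V) ?_
        exact ((limMap_π_app α 0 V m).symm.trans hh.symm)
    · exact hσu
    · intro s p
      rw [hσt]
      exact hτ s p
    · intro h
      exact hτρ h
  obtain ⟨N₁, hN₁⟩ := exists_pow_smul_eq_zero (P := LinearMap.ker φ) (algebraMap Γ(Y, V) R' k) fun 𝔮 hq hk y => by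
    obtain ⟨u, hu, huy⟩ := (main 𝔮 hq hk).1 y.1 y.2
    exact ⟨u, hu, Subtype.ext huy⟩
  obtain ⟨N₂, hN₂⟩ := exists_pow_smul_eq_zero (P := Γ(limit (Formal.completion J H), V) ⧸ LinearMap.range φ)
    (algebraMap Γ(Y, V) R' k) fun 𝔮 hq hk y => by
      obtain ⟨y, rfl⟩ := Submodule.Quotient.mk_surjective _ y
      obtain ⟨u, hu, huy⟩ := (main 𝔮 hq hk).2 y
      exact ⟨u, hu, (Submodule.Quotient.mk_eq_zero _).2 huy⟩
  refine ⟨N₁ + N₂, fun m hm => ?_, fun y => ?_⟩
  · have h1 := congrArg Subtype.val (hN₁ ⟨m, hm⟩)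
    rw [Submodule.coe_smul, ← map_pow, algebraMap_smul, Submodule.coe_zero] at h1
    rw [pow_add, mul_comm, mul_smul, h1, smul_zero]
  · have h1 := hN₂ (Submodule.Quotient.mk y)
    rw [← Submodule.Quotient.mk_smul, Submodule.Quotient.mk_eq_zero, ← map_pow, algebraMap_smul] at h1
    obtain ⟨m, hm⟩ := h1
    refine ⟨k ^ N₁ • m, ?_⟩
    rw [pow_add, mul_smul, ← hm]
    exact Scheme.Modules.Hom.app_smul _ _ _

end Groth.Agent.H24GE
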