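import Groth.Agent.H24GE.Mod

/-!
# Coherent formal modules for ideals with the same vanishing locus
-/

set_option autoImplicit false
set_option linter.style.haveILetI false
set_option linter.unusedSectionVars false
universe u

open CategoryTheory CategoryTheory.Limits AlgebraicGeometry Opposite

namespace Groth.Agent.H24GE

open Groth.Agent.H24Formal Groth.Agent.H24Formal.HomC

variable {A : Type u} [CommRing A] {X : Scheme.{u}} [X.Over (Spec (CommRingCat.of A))] {I J : Ideal A}

theorem killedBy_antitone {J J' : Ideal A} (h : J' ≤ J) {M : X.Modules} (hM : Formal.KilledBy J M) :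
    Formal.KilledBy J' M := fun a ha => hM a (h ha)

variable (X I J) in
/-- Modules killed by `J ^ n` are killed by `I ^ (a * n)`. -/
def Dominates (a : ℕ) : Prop := ∀ (n : ℕ) (M : X.Modules), Formal.KilledBy (J ^ n) M → Formal.KilledBy (I ^ (a * n)) M

/-- The re-indexing. -/
def idx (a n : ℕ) : ℕ := a * (n + 1) + n

theorem idx_mono (a : ℕ) : Monotone (idx a) := fun _ _ h => by
  show _ + _ ≤ _ + _
  gcongr

theorem le_idx (a n : ℕ) : n ≤ idx a n := Nat.le_add_left _ _

theorem Dominates.killed {a : ℕ} (h : Dominates X I J a) {n : ℕ} {M : X.Modules}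
    (hM : Formal.KilledBy (J ^ (n + 1)) M) : Formal.KilledBy (I ^ (idx a n + 1)) M :=
  killedBy_antitone (Ideal.pow_le_pow_right (by unfold idx; omega)) (h _ M hM)

section

variable (J) (a : ℕ)

/-- The re-indexed system modulo powers of `J`. -/
noncomputable def reObj (G : ℕᵒᵖ ⥤ X.Modules) : ℕᵒᵖ ⥤ X.Modules where
  obj n := Formal.modPow J (n.unop + 1) (G.obj (op (idx a n.unop)))
  map {n n'} f := cokernel.desc _ (G.map (homOfLE (idx_mono a (leOfHom f.unop))).op ≫ Formal.modPowπ J _ _)
    (smulFamily_comp_eq_zero _ (killedBy_antitone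
      (Ideal.pow_le_pow_right (Nat.succ_le_succ (leOfHom f.unop))) (killedBy_modPow J _ _)))
  map_id n := coequalizer.hom_ext (((cokernel.π_desc _ _ _).trans ((congrArg (· ≫ _)
    ((congrArg G.map (Subsingleton.elim _ (𝟙 _))).trans (G.map_id _))).trans (Category.id_comp _))).trans
      (Category.comp_id _).symm)
  map_comp {n n' n''} f g := by
    refine coequalizer.hom_ext ((cokernel.π_desc _ _ _).trans (Eq.symm ?_))
    refine (Category.assoc _ _ _).symm.trans ((congrArg (· ≫ _) (cokernel.π_desc _ _ _)).trans ?_)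
    refine (Category.assoc _ _ _).trans ((congrArg (_ ≫ ·) (cokernel.π_desc _ _ _)).trans ?_)
    refine (Category.assoc _ _ _).symm.trans (congrArg (· ≫ _) ((G.map_comp _ _).symm.trans ?_))
    exact congrArg G.map (Subsingleton.elim _ _)

theorem π_reObj (G : ℕᵒᵖ ⥤ X.Modules) {n n' : ℕ} (h : n ≤ n') :
    Formal.modPowπ J (n' + 1) (G.obj (op (idx a n'))) ≫ (reObj J a G).map (homOfLE h).op =
      G.map (homOfLE (idx_mono a h)).op ≫ Formal.modPowπ J (n + 1) (G.obj (op (idx a n))) :=
  cokernel.π_desc _ _ _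

/-- The re-indexed system is functorial. -/
noncomputable def reMap {G H : ℕᵒᵖ ⥤ X.Modules} (η : G ⟶ H) : reObj J a G ⟶ reObj J a H where
  app n := cokernel.desc _ (η.app (op (idx a n.unop)) ≫ Formal.modPowπ J _ _)
    (smulFamily_comp_eq_zero _ (killedBy_modPow J _ _))
  naturality n n' f := coequalizer.hom_ext (by
    erw [cokernel.π_desc_assoc, cokernel.π_desc_assoc, Category.assoc, cokernel.π_desc, Category.assoc,
      cokernel.π_desc, ← η.naturality_assoc])

theorem π_reMap {G H : ℕᵒᵖ ⥤ X.Modules} (η : G ⟶ H) (n : ℕ) :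
    Formal.modPowπ J (n + 1) (G.obj (op (idx a n))) ≫ (reMap J a η).app (op n) =
      η.app (op (idx a n)) ≫ Formal.modPowπ J (n + 1) (H.obj (op (idx a n))) :=
  cokernel.π_desc _ _ _

end

variable {a b : ℕ}

theorem isCohFormal_reObj [IsLocallyNoetherian X] (h : Dominates X I J a) {G : ℕᵒᵖ ⥤ X.Modules} (hG : Formal.IsCohFormal I G) :
    Formal.IsCohFormal J (reObj J a G) := by
  refine ⟨fun n => isCoh_modPow J _ (hG.1 _), fun n => killedBy_modPow J _ _, fun n => ?_⟩
  have hz := smulFamily_comp_eq_zero (J := J ^ (n + 1))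
    ((reObj J a G).map (homOfLE (Nat.le_succ n)).op) (killedBy_modPow J _ _)
  refine ⟨hz, ?_⟩
  have hk : Formal.KilledBy (J ^ (n + 1)) (cokernel (Formal.smulFamily (J ^ (n + 1)) ((reObj J a G).obj (op (n + 1))))) :=
    killedBy_cokernel _ _
  obtain ⟨g, hg⟩ := (epi_and_factor hG (idx_mono a (Nat.le_succ n))).2
    (Formal.modPowπ J (n + 1 + 1) _ ≫ cokernel.π (Formal.smulFamily (J ^ (n + 1)) ((reObj J a G).obj (op (n + 1)))))
    (smulFamily_comp_eq_zero _ (h.killed hk))
  refine ⟨cokernel.desc _ g (smulFamily_comp_eq_zero g hk), ?_, ?_⟩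
  · refine coequalizer.hom_ext (coequalizer.hom_ext ?_)
    erw [cokernel.π_desc_assoc, Category.comp_id, cokernel.π_desc_assoc, Category.assoc, cokernel.π_desc, hg]
    rfl
  · haveI := (epi_and_factor hG (idx_mono a (Nat.le_succ n))).1
    refine coequalizer.hom_ext ?_
    rw [← cancel_epi (G.map (homOfLE (idx_mono a (Nat.le_succ n))).op)]
    erw [cokernel.π_desc_assoc, Category.comp_id, ← Category.assoc, hg, Category.assoc, cokernel.π_desc, π_reObj]
    rfl

/-- The two levels. -/
theorem exists_level_iso (h' : Dominates X J I b) {G : ℕᵒᵖ ⥤ X.Modules}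
    (hG : Formal.IsCohFormal I G) (n : ℕ) :
    ∃ e : G.obj (op n) ≅ (reObj I b (reObj J a G)).obj (op n),
      G.map (homOfLE ((le_idx b n).trans (le_idx a _))).op ≫ e.hom =
        Formal.modPowπ J (idx b n + 1) (G.obj (op (idx a (idx b n)))) ≫
          Formal.modPowπ I (n + 1) ((reObj J a G).obj (op (idx b n))) := by
  have hle : n ≤ idx a (idx b n) := (le_idx b n).trans (le_idx a _)
  obtain ⟨g, hg⟩ := (epi_and_factor hG hle).2
    (Formal.modPowπ J (idx b n + 1) _ ≫ Formal.modPowπ I (n + 1) ((reObj J a G).obj (op (idx b n))))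
    (smulFamily_comp_eq_zero _ (killedBy_modPow I _ _))
  haveI := (epi_and_factor hG hle).1
  refine ⟨⟨g, cokernel.desc _ (cokernel.desc _ (G.map (homOfLE hle).op)
    (smulFamily_comp_eq_zero _ (h'.killed (hG.2.1 n)))) (smulFamily_comp_eq_zero _ (hG.2.1 n)), ?_, ?_⟩, hg⟩
  · rw [← cancel_epi (G.map (homOfLE hle).op)]
    refine (Category.assoc _ _ _).symm.trans ((congrArg (· ≫ _) hg).trans ?_)
    refine (Category.assoc _ _ _).trans ((congrArg (_ ≫ ·) (cokernel.π_desc _ _ _)).trans ?_)
    exact (cokernel.π_desc _ _ _).trans (Category.comp_id _).symm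
  · refine coequalizer.hom_ext (coequalizer.hom_ext ?_)
    erw [cokernel.π_desc_assoc, Category.comp_id, cokernel.π_desc_assoc, hg]
    rfl

/-- The functor re-indexing coherent formal modules. -/
noncomputable def reFun [IsLocallyNoetherian X] (h : Dominates X I J a) :
    ObjectProperty.FullSubcategory (fun G : ℕᵒᵖ ⥤ X.Modules => Formal.IsCohFormal I G) ⥤
      ObjectProperty.FullSubcategory (fun G : ℕᵒᵖ ⥤ X.Modules => Formal.IsCohFormal J G) where
  obj G := ⟨reObj J a G.obj, isCohFormal_reObj h G.property⟩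
  map η := ObjectProperty.homMk (reMap J a η.hom)
  map_id G := ObjectProperty.hom_ext _ (NatTrans.ext (funext fun ⟨n⟩ => coequalizer.hom_ext (by
    erw [cokernel.π_desc, Category.comp_id, Category.id_comp]
    rfl)))
  map_comp η θ := ObjectProperty.hom_ext _ (NatTrans.ext (funext fun ⟨n⟩ => coequalizer.hom_ext (by
    erw [cokernel.π_desc, cokernel.π_desc_assoc, Category.assoc, Category.assoc, cokernel.π_desc])))

theorem exists_sys_iso (h' : Dominates X J I b) {G : ℕᵒᵖ ⥤ X.Modules}
    (hG : Formal.IsCohFormal I G) :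
    ∃ e : G ≅ reObj I b (reObj J a G), ∀ n : ℕ,
      G.map (homOfLE ((le_idx b n).trans (le_idx a _))).op ≫ e.hom.app (op n) =
        Formal.modPowπ J (idx b n + 1) (G.obj (op (idx a (idx b n)))) ≫
          Formal.modPowπ I (n + 1) ((reObj J a G).obj (op (idx b n))) := by
  choose e he using exists_level_iso (a := a) h' hG
  refine ⟨NatIso.ofComponents (fun n => e n.unop) ?_, fun n => he n⟩
  rintro ⟨n⟩ ⟨n'⟩ f
  obtain ⟨hn, rfl⟩ : ∃ hn : n' ≤ n, f = (homOfLE hn).op := ⟨leOfHom f.unop, Subsingleton.elim _ _⟩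
  have hle : n ≤ idx a (idx b n) := (le_idx b n).trans (le_idx a _)
  haveI := (epi_and_factor hG hle).1
  rw [← cancel_epi (G.map (homOfLE hle).op), ← Category.assoc, ← Functor.map_comp, ← Category.assoc]
  erw [he n]
  have e1 : (homOfLE hle).op ≫ (homOfLE hn).op =
      (homOfLE (idx_mono a (idx_mono b hn))).op ≫ (homOfLE ((le_idx b n').trans (le_idx a _))).op :=
    Subsingleton.elim _ _
  rw [e1, Functor.map_comp, Category.assoc]
  erw [he n']
  refine Eq.symm ((Category.assoc _ _ _).trans ((congrArg (_ ≫ ·) (π_reObj I b (reObj J a G) hn)).trans ?_))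
  refine (Category.assoc _ _ _).symm.trans ((congrArg (· ≫ _) (π_reObj J a G (idx_mono b hn))).trans ?_)
  exact Category.assoc _ _ _

/-- Re-indexing forwards and backwards is the identity. -/
theorem nonempty_unit [IsLocallyNoetherian X] (h : Dominates X I J a) (h' : Dominates X J I b) :
    Nonempty (𝟭 _ ≅ reFun h ⋙ reFun h') := by
  choose e he using fun (G : ObjectProperty.FullSubcategory (fun G : ℕᵒᵖ ⥤ X.Modules => Formal.IsCohFormal I G)) =>
    exists_sys_iso (a := a) h' G.property
  refine ⟨NatIso.ofComponents (fun G => ObjectProperty.isoMk _ (e G)) fun {G H} η =>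
    ObjectProperty.hom_ext _ (NatTrans.ext (funext fun ⟨n⟩ => ?_))⟩
  have hle : n ≤ idx a (idx b n) := (le_idx b n).trans (le_idx a _)
  haveI := (epi_and_factor G.property hle).1
  rw [← cancel_epi (G.obj.map (homOfLE hle).op)]
  show G.obj.map _ ≫ η.hom.app (op n) ≫ (e H).hom.app (op n) =
    G.obj.map _ ≫ (e G).hom.app (op n) ≫ (reMap I b (reMap J a η.hom)).app (op n)
  rw [η.hom.naturality_assoc, he H n, ← Category.assoc (G.obj.map _), he G n]
  refine Eq.symm ((Category.assoc _ _ _).trans ((congrArg (_ ≫ ·) (π_reMap I b (reMap J a η.hom) n)).trans ?_))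
  refine (Category.assoc _ _ _).symm.trans ((congrArg (· ≫ _) (π_reMap J a η.hom (idx b n))).trans ?_)
  exact Category.assoc _ _ _

theorem nonempty_equivalence [IsLocallyNoetherian X] (h : Dominates X I J a) (h' : Dominates X J I b) :
    Nonempty (ObjectProperty.FullSubcategory (fun G : ℕᵒᵖ ⥤ X.Modules => Formal.IsCohFormal I G) ≌
      ObjectProperty.FullSubcategory (fun G : ℕᵒᵖ ⥤ X.Modules => Formal.IsCohFormal J G)) := by
  obtain ⟨u⟩ := nonempty_unit h h'
  obtain ⟨v⟩ := nonempty_unit h' h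
  exact ⟨CategoryTheory.Equivalence.mk (reFun h) (reFun h') u v.symm⟩

/-- A power of an ideal sheaf with larger vanishing locus is contained in the other. -/
theorem exists_pow_le_of_support_le [IsNoetherian X] {K L : X.IdealSheafData} (h : L.support ≤ K.support) :
    ∃ n : ℕ, K ^ n ≤ L := by
  obtain ⟨r, U, hU, -, hcov⟩ := H10Coh.exists_finite_affine_cover (X := X) (W := ⊤) isCompact_univ
  have hle : K ≤ L.radical := (Scheme.IdealSheafData.le_support_iff_le_vanishingIdeal.1 h).trans_eq
    Scheme.IdealSheafData.vanishingIdeal_support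
  have hex : ∀ i, ∃ n : ℕ, K.ideal ⟨U i, hU i⟩ ^ n ≤ L.ideal ⟨U i, hU i⟩ := fun i => by
    haveI := isNoetherianRing_sections (hU i)
    exact Ideal.exists_pow_le_of_le_radical_of_fg (hle ⟨U i, hU i⟩) (IsNoetherian.noetherian _)
  choose n hn using hex
  refine ⟨Finset.univ.sup n, Scheme.IdealSheafData.le_of_iSup_eq_top (fun i => ⟨U i, hU i⟩)
    (top_le_iff.1 hcov) fun i => ?_⟩
  rw [Scheme.IdealSheafData.ideal_pow, Pi.pow_apply]
  exact (Ideal.pow_le_pow_right (Finset.le_sup (Finset.mem_univ i))).trans (hn i)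

theorem mem_support_idealOf (I : Ideal A) (x : X) :
    x ∈ (idealOf X I).support ↔ (X ↘ Spec (CommRingCat.of A)) x ∈ PrimeSpectrum.zeroLocus (I : Set A) := by
  rw [← SetLike.mem_coe, idealOf, Scheme.IdealSheafData.coe_support_ofIdealTop]
  refine (iff_of_eq (congrArg (x ∈ ·) (X.zeroLocus_span (U := ⊤)
    (⇑(Coh.toGlobal (X ↘ Spec (CommRingCat.of A))) '' (I : Set A))))).trans ?_
  rw [Scheme.mem_zeroLocus_iff]
  refine Set.forall_mem_image.trans ?_
  refine Iff.trans ?_ (PrimeSpectrum.mem_zeroLocus _ _).symm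
  refine forall₂_congr fun a _ => ?_
  have e : X.basicOpen (Coh.toGlobal (X ↘ Spec (CommRingCat.of A)) a) =
      (X ↘ Spec (CommRingCat.of A)) ⁻¹ᵁ PrimeSpectrum.basicOpen a :=
    (Scheme.preimage_basicOpen_top _ _).symm.trans (congrArg _ (basicOpen_eq_of_affine' _))|>.trans (by simp)
  rw [e]
  exact not_not

theorem exists_dominates [IsNoetherian X] (h : (idealOf X J).support ≤ (idealOf X I).support) :
    ∃ a : ℕ, Dominates X I J a := by
  obtain ⟨a, ha⟩ := exists_pow_le_of_support_le h
  refine ⟨a, fun n M hM => (killedByIdeal_iff I _ M).1 ?_⟩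
  intro U r hr m
  refine (killedByIdeal_iff J n M).2 hM U r ?_ m
  rw [Scheme.IdealSheafData.ideal_pow, Pi.pow_apply] at hr ⊢
  rw [pow_mul] at hr
  refine Ideal.pow_right_mono ?_ n hr
  have := ha U
  rwa [Scheme.IdealSheafData.ideal_pow, Pi.pow_apply] at this

end Groth.Agent.H24GE
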