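import Groth.Agent.H24GE.Left

/-!
# Algebraization from a map out of a completion with torsion kernels and cokernels
-/

set_option autoImplicit false
set_option linter.style.haveILetI false
set_option linter.unusedSectionVars false
universe u

open CategoryTheory CategoryTheory.Limits AlgebraicGeometry Opposite

namespace Groth.Agent.H24GE

open Groth.Agent.H24Formal Groth.Agent.H24Formal.HomC

variable {A : Type u} [CommRing A] {X : Scheme.{u}} [X.Over (Spec (CommRingCat.of A))] [IsNoetherian X] {I : Ideal A}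

theorem isIso_modPowπ {e : ℕ} {N : X.Modules} (hN : Formal.KilledBy (I ^ e) N) {n : ℕ} (h : e ≤ n) :
    IsIso (Formal.modPowπ I n N) := by
  have hk : Formal.KilledBy (I ^ n) N := fun a ha => hN a (Ideal.pow_le_pow_right h ha)
  have hz : Formal.smulFamily (I ^ n) N ≫ 𝟙 N = 0 := by rw [smulFamily_eq_zero hk, zero_comp]
  have h1 : Formal.modPowπ I n N ≫ cokernel.desc _ (𝟙 N) hz = 𝟙 N := cokernel.π_desc _ _ _
  exact ⟨cokernel.desc _ (𝟙 N) hz, h1, (cancel_epi (Formal.modPowπ I n N)).1
    ((Category.assoc _ _ _).symm.trans ((congrArg (· ≫ Formal.modPowπ I n N) h1).trans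
      ((Category.id_comp _).trans (Category.comp_id _).symm)))⟩

/-- Algebraization for the modules killed by a power of the defining ideal. -/
theorem algKilled_idealOf (e : ℕ) : AlgKilled I (idealOf X I ^ e) := by
  refine ⟨fun M N hM hN hkM hkN ψ => ?_, fun G hG hk => ?_⟩
  · rw [killedByIdeal_iff] at hkM hkN
    haveI := isIso_modPowπ hkN (Nat.le_succ e)
    haveI := isIso_modPowπ hkM (Nat.le_succ e)
    obtain ⟨ν, -, hν⟩ := (isIso_modPowπ hkN (Nat.le_succ e)).out
    refine ⟨Formal.modPowπ I (e + 1) M ≫ ψ.app (op e) ≫ ν, fun n => ?_, fun φ hφ => ?_⟩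
    · have he : Formal.modPowπ I (e + 1) M ≫ ψ.app (op e) =
          (Formal.modPowπ I (e + 1) M ≫ ψ.app (op e) ≫ ν) ≫ (Formal.modPowπ I (e + 1) N) :=
        (congrArg (Formal.modPowπ I (e + 1) M ≫ ·) (((Category.assoc _ _ _).trans
          (congrArg (ψ.app (op e) ≫ ·) hν)).trans (Category.comp_id _))).symm.trans
          (Category.assoc _ _ _).symm
      generalize Formal.modPowπ I (e + 1) M ≫ ψ.app (op e) ≫ ν = φ at he
      -- compare through the level `e + n`
      have hen : e ≤ e + n := Nat.le_add_right e n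
      haveI := isIso_modPowπ hkN (show e ≤ e + n + 1 by omega)
      haveI : Mono ((Formal.completion I N).map (homOfLE hen).op) := by
        haveI : IsIso (Formal.modPowπ I (e + n + 1) N ≫ (Formal.completion I N).map (homOfLE hen).op) := by
          rw [modPowπ_map I N hen]; exact isIso_modPowπ hkN (Nat.le_succ e)
        haveI : IsIso ((Formal.completion I N).map (homOfLE hen).op) :=
          IsIso.of_isIso_comp_left (Formal.modPowπ I (e + n + 1) N) _
        infer_instance
      have htop : Formal.modPowπ I (e + n + 1) M ≫ ψ.app (op (e + n)) = φ ≫ Formal.modPowπ I (e + n + 1) N := by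
        refine (cancel_mono ((Formal.completion I N).map (homOfLE hen).op)).1 ?_
        refine ((Category.assoc _ _ _).trans ((congrArg (Formal.modPowπ I (e + n + 1) M ≫ ·)
          (ψ.naturality _).symm).trans ((Category.assoc _ _ _).symm.trans
            (congrArg (· ≫ ψ.app (op e)) (modPowπ_map I M hen))))).trans ?_
        refine he.trans ?_
        exact ((congrArg (φ ≫ ·) (modPowπ_map I N hen)).symm).trans (Category.assoc _ _ _).symm
      have hne : n ≤ e + n := Nat.le_add_left n e
      refine ((congrArg (· ≫ ψ.app (op n)) (modPowπ_map I M hne)).symm.trans ?_)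
      refine (Category.assoc _ _ _).trans ((congrArg (Formal.modPowπ I (e + n + 1) M ≫ ·) (ψ.naturality _)).trans ?_)
      refine (Category.assoc _ _ _).symm.trans ((congrArg (· ≫ (Formal.completion I N).map (homOfLE hne).op) htop).trans ?_)
      exact (Category.assoc _ _ _).trans (congrArg (φ ≫ ·) (modPowπ_map I N hne))
    · refine (cancel_mono (Formal.modPowπ I (e + 1) N)).1 ((hφ e).symm.trans ?_)
      exact ((Category.assoc _ _ _).trans (congrArg (Formal.modPowπ I (e + 1) M ≫ ·) (((Category.assoc _ _ _).trans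
        (congrArg (ψ.app (op e) ≫ ·) hν)).trans (Category.comp_id _)))).symm
  · have hk' : ∀ n, Formal.KilledBy (I ^ e) (G.obj (op n)) := fun n => (killedByIdeal_iff I e _).1 (hk n)
    obtain ⟨M, hM, ⟨i⟩⟩ := exists_completion_iso_of_killedBy hG e hk'
    let π := Formal.modPowπ I e M
    have hM' := isCoh_modPow I e hM
    haveI : ∀ j, IsIso ((complMap I π).app j) := fun ⟨n⟩ => by
      have hn : Formal.KilledBy (I ^ e) ((Formal.completion I M).obj (op n)) := killedBy_of_iso (i.symm.app (op n)) (hk' n)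
      let g : Formal.modPow I e M ⟶ (Formal.completion I M).obj (op n) :=
        cokernel.desc _ (Formal.modPowπ I (n + 1) M) (smulFamily_comp_eq_zero _ hn)
      have hg : π ≫ g = Formal.modPowπ I (n + 1) M := cokernel.π_desc _ _ _
      let g' : (Formal.completion I (Formal.modPow I e M)).obj (op n) ⟶ (Formal.completion I M).obj (op n) :=
        cokernel.desc _ g (smulFamily_comp_eq_zero _ ((isCohFormal_compl hM).2.1 n))
      have hg' : Formal.modPowπ I (n + 1) (Formal.modPow I e M) ≫ g' = g := cokernel.π_desc _ _ _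
      refine ⟨g', ?_, ?_⟩
      · refine (cancel_epi (Formal.modPowπ I (n + 1) M)).1 ?_
        refine ((Category.assoc _ _ _).symm.trans (congrArg (· ≫ g') (π_complMap I π n))).trans ?_
        exact (Category.assoc _ _ _).trans ((congrArg (π ≫ ·) hg').trans (hg.trans (Category.comp_id _).symm))
      · refine (cancel_epi (Formal.modPowπ I (n + 1) (Formal.modPow I e M))).1 ((cancel_epi π).1 ?_)
        refine (congrArg (π ≫ ·) ((Category.assoc _ _ _).symm.trans (congrArg (· ≫ _) hg'))).trans ?_
        refine ((Category.assoc _ _ _).symm.trans (congrArg (· ≫ _) hg)).trans ?_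
        refine (π_complMap I π n).trans ?_
        exact congrArg (π ≫ ·) (Category.comp_id _).symm
    haveI : IsIso (complMap I π) := NatIso.isIso_of_isIso_app _
    exact ⟨_, hM', (killedByIdeal_iff I e _).2 (killedBy_modPow I e M), ⟨(asIso (complMap I π)).symm ≪≫ i⟩⟩

/-- Multiplication by a scalar on a system. -/
noncomputable def smulNat (G : ℕᵒᵖ ⥤ X.Modules) (a : A) : G ⟶ G where
  app j := Formal.smulMod A (G.obj j) a
  naturality _ _ f := (smulMod_comm (G.map f) a).symm

theorem smulNat_comm {G H : ℕᵒᵖ ⥤ X.Modules} (f : G ⟶ H) (a : A) : smulNat G a ≫ f = f ≫ smulNat H a := by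
  ext j : 2
  exact smulMod_comm (f.app j) a

theorem smulNat_mul (G : ℕᵒᵖ ⥤ X.Modules) (a b : A) : smulNat G b ≫ smulNat G a = smulNat G (a * b) := by
  ext j : 2
  exact smulMod_mul (G.obj j) a b

theorem complMap_smulMod (M : X.Modules) (a : A) :
    complMap I (Formal.smulMod A M a) = smulNat (Formal.completion I M) a :=
  complMap_ext I fun n => (π_complMap I _ n).trans (smulMod_comm (Formal.modPowπ I (n + 1) M) a)

theorem exists_quasiInverse {D : Type*} [Category D] [Abelian D] {P Q : D} (α : P ⟶ Q) {b b' : P ⟶ P} {c c' : Q ⟶ Q}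
    (hb : b ≫ α = α ≫ c) (hb' : b' ≫ α = α ≫ c') (hk : kernel.ι α ≫ b' = 0) (hc : c ≫ cokernel.π α = 0) :
    ∃ ρ : Q ⟶ P, α ≫ ρ = b ≫ b' ∧ ρ ≫ α = c ≫ c' := by
  let p := Abelian.factorThruImage α
  let ι := Abelian.image.ι α
  have hp : p ≫ ι = α := Abelian.image.fac α
  let s : Q ⟶ Abelian.image α := kernel.lift _ c hc
  have hs : s ≫ ι = c := kernel.lift_ι _ _ _
  have hkp : kernel.ι p ≫ b' = 0 := by
    have h0 : kernel.ι p ≫ α = 0 :=
      (congrArg (kernel.ι p ≫ ·) hp.symm).trans
        ((Category.assoc _ _ _).symm.trans ((congrArg (· ≫ ι) (kernel.condition p)).trans zero_comp))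
    rw [← kernel.lift_ι α (kernel.ι p) h0, Category.assoc, hk, comp_zero]
  let t := Abelian.epiDesc p b' hkp
  have ht : p ≫ t = b' := Abelian.comp_epiDesc p b' hkp
  have h1 : t ≫ α = ι ≫ c' := by
    rw [← cancel_epi p, ← Category.assoc, ht, hb', ← Category.assoc, hp]
  have h2 : α ≫ s = b ≫ p := by
    rw [← cancel_mono ι, Category.assoc, hs, Category.assoc, hp, hb]
  exact ⟨s ≫ t, by rw [← Category.assoc, h2, Category.assoc, ht], by rw [Category.assoc, h1, ← Category.assoc, hs]⟩

theorem exists_rho {G F : ℕᵒᵖ ⥤ X.Modules} (α : G ⟶ F) {c : ℕ}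
    (hk : ∀ n, Formal.KilledBy (I ^ c) (kernel (α.app (op n))))
    (hc : ∀ n, Formal.KilledBy (I ^ c) (cokernel (α.app (op n)))) {b b' : A} (hb : b ∈ I ^ c) (hb' : b' ∈ I ^ c) :
    ∃ ρ : F ⟶ G, α ≫ ρ = smulNat G (b' * b) ∧ ρ ≫ α = smulNat F (b' * b) := by
  rw [← smulNat_mul, ← smulNat_mul]
  refine exists_quasiInverse α (smulNat_comm α b) (smulNat_comm α b') ?_ ?_
  · ext ⟨n⟩ : 2
    have h0 : (kernel.ι α).app (op n) ≫ α.app (op n) = 0 := congr_app (kernel.condition α) (op n)
    show (kernel.ι α).app (op n) ≫ Formal.smulMod A _ b' = 0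
    rw [← kernel.lift_ι (α.app (op n)) _ h0, Category.assoc, ← smulMod_comm, hk n b' hb', zero_comp, comp_zero]
  · ext ⟨n⟩ : 2
    have h0 : α.app (op n) ≫ (cokernel.π α).app (op n) = 0 := congr_app (cokernel.condition α) (op n)
    show Formal.smulMod A _ b ≫ (cokernel.π α).app (op n) = 0
    rw [← cokernel.π_desc (α.app (op n)) _ h0, ← Category.assoc, smulMod_comm, hc n b hb, comp_zero, zero_comp]

/-- Multiplications generating the zero map. -/
theorem killedBy_of_gens (s : Finset A) (M : X.Modules) (h : ∀ a ∈ s, Formal.smulMod A M a = 0) :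
    Formal.KilledBy (Ideal.span (s : Set A)) M := fun a ha => by
  refine Submodule.span_induction (p := fun b _ => Formal.smulMod A M b = 0) (fun b hb => h b hb) (smulMod_zero M)
    (fun u v _ _ hu hv => by rw [smulMod_add, hu, hv, add_zero])
    (fun u v _ hv => by rw [smul_eq_mul, ← smulMod_mul, hv, zero_comp]) ha

/-- Maps from modules killed by a power of `I` to completions are algebraic. -/
theorem exists_hom_left (hI : I.FG) {e : ℕ} {Q C : X.Modules} (hQ : Coh.IsCoh Q) (hC : Coh.IsCoh C)
    (hk : Formal.KilledBy (I ^ e) Q) (ψ : Formal.completion I Q ⟶ Formal.completion I C) :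
    ∃ q : Q ⟶ C, complMap I q = ψ := by
  classical
  obtain ⟨s, hs⟩ := hI.pow (n := e)
  have hind : ∀ s' : Finset A, s' ⊆ s → ∃ (T : X.Modules) (i : T ⟶ C) (ψT : Formal.completion I Q ⟶ Formal.completion I T),
      Coh.IsCoh T ∧ Mono i ∧ ψT ≫ complMap I i = ψ ∧ ∀ a ∈ s', Formal.smulMod A T a = 0 := by
    intro s'
    induction s' using Finset.induction with
    | empty => exact fun _ => ⟨C, 𝟙 C, ψ, hC, inferInstance, by rw [complMap_id, Category.comp_id],
        fun a ha => absurd ha (Finset.notMem_empty a)⟩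
    | insert a s'' _ ih =>
      intro hsub
      obtain ⟨T, i, ψT, hT, hi, hψ, hkT⟩ := ih fun x hx => hsub (Finset.mem_insert_of_mem hx)
      have ha : a ∈ I ^ e := hs ▸ Submodule.subset_span (hsub (Finset.mem_insert_self _ _))
      have hT' := H10Coh.isCoh_kernel (Formal.smulMod A T a) hT hT.1
      let S := ShortComplex.mk (kernel.ι (Formal.smulMod A T a)) _ (kernel.condition _)
      haveI : Mono S.f := inferInstanceAs (Mono (kernel.ι (Formal.smulMod A T a)))
      obtain ⟨β, hβ⟩ : ∃ β, β ≫ complMap I (kernel.ι (Formal.smulMod A T a)) = ψT :=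
        exists_lift hI (S := S) (ShortComplex.exact_of_f_is_kernel S (kernelIsKernel _)) hT' hT hT
          (isCohFormal_compl hQ) ψT (by
            show ψT ≫ complMap I (Formal.smulMod A T a) = 0
            rw [complMap_smulMod, ← smulNat_comm, ← complMap_smulMod, hk a ha, complMap_zero, zero_comp])
      refine ⟨_, kernel.ι (Formal.smulMod A T a) ≫ i, β, hT', inferInstance,
        by rw [complMap_comp, ← Category.assoc, hβ, hψ], fun b hb => ?_⟩
      rw [← cancel_mono (kernel.ι (Formal.smulMod A T a)), zero_comp, smulMod_comm]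
      rcases Finset.mem_insert.1 hb with rfl | hb
      · exact kernel.condition _
      · rw [hkT b hb, comp_zero]
  obtain ⟨T, i, ψT, hT, -, hψ, hkT⟩ := hind s subset_rfl
  have hkT' : Formal.KilledBy (I ^ e) T := hs ▸ killedBy_of_gens s T hkT
  obtain ⟨q, hq, -⟩ := (algKilled_idealOf (X := X) (I := I) e).1 Q T hQ hT
    ((killedByIdeal_iff I e Q).2 hk) ((killedByIdeal_iff I e T).2 hkT') ψT
  exact ⟨q ≫ i, by rw [complMap_comp, ← eq_complMap hq, hψ]⟩

theorem scalA_smul_eq_zero {M : X.Modules} {a : A} (h : Formal.smulMod A M a = 0) (V : X.Opens) (x : Γ(M, V)) :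
    scalA A V a • x = 0 := by
  rw [← smulMod_app, h]; rfl

/-- The map to a completion with small kernels. -/
theorem exists_aug (hI : I.FG) {G : X.Modules} (hG : Coh.IsCoh G) {F : ℕᵒᵖ ⥤ X.Modules}
    (hF : Formal.IsCohFormal I F) (α : Formal.completion I G ⟶ F) {c : ℕ}
    (hk : ∀ n, Formal.KilledBy (I ^ c) (kernel (α.app (op n))))
    (hc : ∀ n, Formal.KilledBy (I ^ c) (cokernel (α.app (op n)))) (m : ℕ) (S : Finset A)
    (hS : ∀ p ∈ S, ∃ b ∈ I ^ c, ∃ b' ∈ I ^ c, b' * b = p) :
    ∃ (H : X.Modules) (α' : F ⟶ Formal.completion I H) (j : G ⟶ H), Coh.IsCoh H ∧ α ≫ α' = complMap I j ∧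
      (∀ n (V : X.affineOpens) (x : Γ(F.obj (op n), V.1)), (α'.app (op n)).app V.1 x = 0 →
        x ∈ (idealOf X I ^ m).ideal V • (⊤ : Submodule Γ(X, V.1) Γ(F.obj (op n), V.1)) ∧
          ∀ p ∈ S, scalA A V.1 p • x = 0) ∧
      ∀ p ∈ S, kernel.ι j ≫ Formal.smulMod A G p = 0 := by
  classical
  induction S using Finset.induction with
  | empty =>
    obtain ⟨M, hM, hMk, ⟨i⟩⟩ := (algKilled_idealOf (X := X) (I := I) m).2 (qmSys (idealOf X I ^ m) F)
      (isCohFormal_qmSys _ hF) fun n => killed_qm _ _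
    obtain ⟨j, hj⟩ := exists_hom (algKilled_idealOf (X := X) (I := I) m) hG hM hMk
      (α ≫ qmSysη (idealOf X I ^ m) F ≫ i.inv)
    refine ⟨M, qmSysη (idealOf X I ^ m) F ≫ i.inv, j, hM, hj.symm, fun n V x hx => ⟨?_, ?_⟩, ?_⟩
    · refine (qmη_eq_zero_iff _ (hF.1 n).1 V.2 x).1 ?_
      refine (app_congr (i.inv_hom_id_app (op n)) V.1 (((qmSysη (idealOf X I ^ m) F).app (op n)).app V.1 x)).symm.trans ?_
      exact (congrArg ((i.hom.app (op n)).app V.1) hx).trans (map_zero _)
    · exact fun p hp => absurd hp (Finset.notMem_empty p)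
    · exact fun p hp => absurd hp (Finset.notMem_empty p)
  | insert p S' _ ih =>
    obtain ⟨H, α', j, hH, hαj, hker, hkj⟩ := ih fun q hq => hS q (Finset.mem_insert_of_mem hq)
    obtain ⟨b, hb, b', hb', hp⟩ := hS p (Finset.mem_insert_self _ _)
    obtain ⟨ρ, hρ₁, hρ₂⟩ := exists_rho α hk hc hb hb'
    rw [hp] at hρ₁ hρ₂
    let j' : G ⟶ H ⊞ G := biprod.lift j (Formal.smulMod A G p)
    refine ⟨H ⊞ G, α' ≫ complMap I biprod.inl + ρ ≫ complMap I biprod.inr, j', LeadDev.isCoh_biprod hH hG, ?_, ?_, ?_⟩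
    · rw [Preadditive.comp_add, ← Category.assoc, hαj, ← Category.assoc, hρ₁, ← complMap_smulMod, ← complMap_comp,
        ← complMap_comp, ← complMap_add, show j' = j ≫ biprod.inl + Formal.smulMod A G p ≫ biprod.inr from
          biprod.lift_eq]
    · intro n V x hx
      have h1 : (α'.app (op n)).app V.1 x = 0 := app_eq_zero_of_comp
        (α' ≫ complMap I (biprod.inl : H ⟶ H ⊞ G) + ρ ≫ complMap I (biprod.inr : G ⟶ H ⊞ G))
        (complMap I biprod.fst) α' (by
          simp only [Preadditive.add_comp, Category.assoc, ← complMap_comp, biprod.inl_fst, biprod.inr_fst,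
            complMap_id, complMap_zero, Category.comp_id, comp_zero, add_zero]) n V.1 x hx
      have h2 : (ρ.app (op n)).app V.1 x = 0 := app_eq_zero_of_comp
        (α' ≫ complMap I (biprod.inl : H ⟶ H ⊞ G) + ρ ≫ complMap I (biprod.inr : G ⟶ H ⊞ G))
        (complMap I biprod.snd) ρ (by
          simp only [Preadditive.add_comp, Category.assoc, ← complMap_comp, biprod.inl_snd, biprod.inr_snd,
            complMap_id, complMap_zero, Category.comp_id, comp_zero, zero_add]) n V.1 x hx
      obtain ⟨h3, h4⟩ := hker n V x h1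
      refine ⟨h3, fun q hq => ?_⟩
      rcases Finset.mem_insert.1 hq with rfl | hq
      · exact (app_comp_eq ρ α _ hρ₂ n V.1 x).symm.trans ((congrArg ((α.app (op n)).app V.1) h2).trans (map_zero _))
      · exact h4 q hq
    · intro q hq
      have h0 := kernel.condition j'
      rcases Finset.mem_insert.1 hq with rfl | hq
      · have h := h0 =≫ biprod.snd
        rwa [Category.assoc, biprod.lift_snd, zero_comp] at h
      · have h := h0 =≫ biprod.fst
        rw [Category.assoc, biprod.lift_fst, zero_comp] at h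
        rw [← kernel.lift_ι j (kernel.ι j') h, Category.assoc, hkj q hq, comp_zero]

/-- Algebraization from a map out of a completion with torsion kernels and cokernels. -/
theorem right (hI : I.FG) {G : X.Modules} (hG : Coh.IsCoh G) {F : ℕᵒᵖ ⥤ X.Modules}
    (hF : Formal.IsCohFormal I F) (α : Formal.completion I G ⟶ F) {c : ℕ}
    (hk : ∀ n, Formal.KilledBy (I ^ c) (kernel (α.app (op n))))
    (hc : ∀ n, Formal.KilledBy (I ^ c) (cokernel (α.app (op n)))) :
    ∃ (F' : X.Modules) (a : G ⟶ F') (β : Formal.completion I F' ≅ F), Coh.IsCoh F' ∧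
      Formal.KilledBy (I ^ (c + c)) (kernel a) ∧ Formal.KilledBy (I ^ c) (cokernel a) ∧
      α = complMap I a ≫ β.hom := by
  classical
  obtain ⟨s, hs⟩ := hI.pow (n := c)
  let S : Finset A := (s ×ˢ s).image fun p => p.1 * p.2
  have hspan : I ^ (c + c) = Ideal.span (S : Set A) := by
    rw [pow_add, ← hs, Finset.coe_image, Finset.coe_product, Submodule.span_mul_span]
    congr 1
    ext x
    simp [Set.mem_mul]
  obtain ⟨m, hm⟩ := exists_mono_bound hI hF (idealOf X I) (c + c)
  obtain ⟨H, α', j, hH, hαj, hker, hkj⟩ := exists_aug hI hG hF α hk hc m S (by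
    intro p hp
    obtain ⟨⟨b, b'⟩, hbb, rfl⟩ := Finset.mem_image.1 hp
    rw [Finset.mem_product] at hbb
    exact ⟨b', hs ▸ Submodule.subset_span hbb.2, b, hs ▸ Submodule.subset_span hbb.1, rfl⟩)
  haveI : Mono (limMap α') := by
    refine hm _ α' (fun n => ((isCohFormal_compl (I := I) hH).1 n).1) fun n V x hx => ⟨fun a ha => ?_, (hker n V x hx).1⟩
    rw [ideal_idealOf_pow] at ha
    change a ∈ Ideal.map (scalA A V.1) (I ^ (c + c)) at ha
    rw [hspan, Ideal.map_span] at ha
    refine Submodule.span_induction (p := fun b _ => b • x = 0) ?_ (zero_smul _ x)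
      (fun u v _ _ hu hv => by rw [add_smul, hu, hv, add_zero])
      (fun u v _ hv => by rw [smul_eq_mul, mul_smul, hv, smul_zero]) ha
    rintro _ ⟨p, hp, rfl⟩
    exact (hker n V x hx).2 p hp
  -- the cokernel of `j`
  let C := cokernel j
  let π : H ⟶ C := cokernel.π j
  have hC : Coh.IsCoh C := H10Coh.isCoh_cokernel j hG.1 hH
  have hκ : α ≫ α' ≫ complMap I π = 0 := by
    rw [← Category.assoc, hαj, ← complMap_comp, cokernel.condition, complMap_zero]
  obtain ⟨Q, hQ, hQk, ⟨i⟩⟩ := (algKilled_idealOf (X := X) (I := I) c).2 (qmSys (idealOf X I ^ c) F)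
    (isCohFormal_qmSys _ hF) fun n => killed_qm _ _
  have hψex : ∀ n : ℕ, ∃ g : (qmSys (idealOf X I ^ c) F).obj (op n) ⟶ (Formal.completion I C).obj (op n),
      (qmSysη (idealOf X I ^ c) F).app (op n) ≫ g = (α' ≫ complMap I π).app (op n) := fun n => by
    obtain ⟨g, hg⟩ := exists_qm_desc (idealOf X I ^ c)
      (H10Coh.isCoh_cokernel (α.app (op n)) ((isCohFormal_compl (I := I) hG).1 n).1 (hF.1 n)).1
      ((killedByIdeal_iff I c _).2 (hc n)) (cokernel.π (α.app (op n)))
    refine ⟨g ≫ cokernel.desc _ ((α' ≫ complMap I π).app (op n)) (congr_app hκ (op n)), ?_⟩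
    refine (Category.assoc _ _ _).symm.trans ((congrArg (· ≫ _) hg).trans ?_)
    exact cokernel.π_desc _ _ _
  choose g hg using hψex
  let ψ : qmSys (idealOf X I ^ c) F ⟶ Formal.completion I C :=
    NatTrans.ofOpSequence g fun n => by
      haveI : Epi ((qmSysη (idealOf X I ^ c) F).app (op (n + 1))) := epi_qmη _ (hF.1 (n + 1)).1
      rw [← cancel_epi ((qmSysη (idealOf X I ^ c) F).app (op (n + 1))), ← Category.assoc, ← NatTrans.naturality,
        Category.assoc, hg, ← Category.assoc, hg]
      exact (α' ≫ complMap I π).naturality _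
  have hψ : qmSysη (idealOf X I ^ c) F ≫ ψ = α' ≫ complMap I π := by
    ext k : 2
    exact hg k.unop
  obtain ⟨q, hq⟩ := exists_hom_left hI hQ hC ((killedByIdeal_iff I c Q).1 hQk) (i.hom ≫ ψ)
  let C' := cokernel q
  let π' : C ⟶ C' := cokernel.π q
  have hC' : Coh.IsCoh C' := H10Coh.isCoh_cokernel q hQ.1 hC
  let u : H ⟶ C' := π ≫ π'
  have hu : α' ≫ complMap I u = 0 := by
    show α' ≫ complMap I (π ≫ π') = 0
    rw [complMap_comp, ← Category.assoc, ← hψ, Category.assoc,
      show ψ = i.inv ≫ complMap I q by rw [hq, Iso.inv_hom_id_assoc], Category.assoc, ← complMap_comp,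
      cokernel.condition, complMap_zero, comp_zero, comp_zero]
  have hw : ∀ n, α'.app (op n) ≫ (complMap I u).app (op n) = 0 := fun n => by
    rw [← NatTrans.comp_app, hu]; rfl
  have hexact : ∀ n, (ShortComplex.mk _ _ (hw n)).Exact := fun n => by
    refine H11Tilde.exact_of_locally _ fun W s hs x hx => ?_
    obtain ⟨V, hV, hle, hxV⟩ := exists_affine_le hx
    refine ⟨V, hle, hxV, ?_⟩
    let y : Γ((Formal.completion I H).obj (op n), V) :=
      ((Formal.completion I H).obj (op n)).presheaf.map (homOfLE hle).op s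
    have hy : ((complMap I u).app (op n)).app V y = 0 :=
      (H11Tilde.app_map_apply ((complMap I u).app (op n)) hle s).trans ((congrArg _ hs).trans (map_zero _))
    let z := ((complMap I π).app (op n)).app V y
    haveI : Epi π' := inferInstanceAs (Epi (cokernel.π q))
    haveI : Epi π := inferInstanceAs (Epi (cokernel.π j))
    obtain ⟨x₀, hx₀⟩ := exists_app_complMap q hI hQ hC hC' π' (cokernel.condition q) (ShortComplex.exact_cokernel q)
      hV n z ((app_comp_eq _ _ _ (complMap_comp I π π').symm n V y).trans hy)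
    obtain ⟨f, hf⟩ := surjective_qmη (idealOf X I ^ c) (hF.1 n).1 hV
      ((i.hom.app (op n)).app V ((Formal.modPowπ I (n + 1) Q).app V x₀))
    have hfz : ((complMap I π).app (op n)).app V ((α'.app (op n)).app V f) = z := by
      refine (app_comp_eq α' _ _ hψ.symm n V f).trans ?_
      refine ((app_comp_eq _ ψ _ rfl n V f).symm).trans ((congrArg ((ψ.app (op n)).app V) hf).trans ?_)
      refine (app_comp_eq i.hom ψ _ hq.symm n V _).trans hx₀
    obtain ⟨g₀, hg₀⟩ := exists_app_complMap j hI hG hH hC π (cokernel.condition j) (ShortComplex.exact_cokernel j)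
      hV n (y - (α'.app (op n)).app V f) ((map_sub _ _ _).trans (sub_eq_zero.2 hfz.symm))
    refine ⟨f + (α.app (op n)).app V ((Formal.modPowπ I (n + 1) G).app V g₀), ?_⟩
    show (α'.app (op n)).app V _ = y
    refine (map_add _ _ _).trans ?_
    refine (congrArg ((α'.app (op n)).app V f + ·) ((app_comp_eq α α' _ hαj n V _).trans hg₀)).trans ?_
    exact add_sub_cancel _ _
  obtain ⟨e, he⟩ := main hI hH hC' u hF α' hw hexact
  have hju : j ≫ u = 0 := by
    show j ≫ cokernel.π j ≫ π' = 0
    rw [← Category.assoc, cokernel.condition, zero_comp]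
  let a : G ⟶ kernel u := kernel.lift u j hju
  have hF' := H10Coh.isCoh_kernel u hH hC'.1
  refine ⟨kernel u, a, e.symm, hF', ?_, ?_, ?_⟩
  · rw [hspan]
    refine killedBy_of_gens S _ fun p hp => ?_
    have h0 : kernel.ι a ≫ j = 0 := by
      rw [← kernel.lift_ι u j hju, ← Category.assoc, kernel.condition, zero_comp]
    rw [← cancel_mono (kernel.ι a), zero_comp, smulMod_comm, ← kernel.lift_ι j (kernel.ι a) h0, Category.assoc,
      hkj p hp, comp_zero]
  · refine (killedByIdeal_iff I c _).1 fun V b hb s => ?_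
    haveI : (kernel u).IsQuasicoherent := hF'.1
    haveI : (cokernel a).IsQuasicoherent := (H10Coh.isCoh_cokernel a hG.1 hF').1
    obtain ⟨x, rfl⟩ := H10Coh.surjective_app_of_epi (cokernel.π a) V.2 s
    refine ((cokernel.π a).app_smul b x).symm.trans ?_
    let w := (kernel.ι u).app V.1 x
    obtain ⟨x₀, hx₀⟩ := exists_app_eq (ShortComplex.exact_cokernel q) hQ.1 hC.1 V.2 (π.app V.1 w)
      (app_congr (kernel.condition u) V.1 x)
    have hbw : π.app V.1 (b • w) = 0 := (π.app_smul b w).trans (by
      rw [← show q.app V.1 x₀ = π.app V.1 w from hx₀]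
      exact (q.app_smul b x₀).symm.trans ((congrArg (q.app V.1) (hQk V b hb x₀)).trans (map_zero _)))
    obtain ⟨g₀, hg₀⟩ := exists_app_eq (ShortComplex.exact_cokernel j) hG.1 hH.1 V.2 (b • w) hbw
    have hbx : b • x = a.app V.1 g₀ := H10Coh.injective_app_of_mono' (kernel.ι u) V.1
      (((kernel.ι u).app_smul b x).trans (hg₀.symm.trans (app_congr (kernel.lift_ι u j hju) V.1 g₀).symm))
    exact (congrArg ((cokernel.π a).app V.1) hbx).trans (app_congr (cokernel.condition a) V.1 g₀)
  · refine hom_ext_of_mono hI (isCohFormal_compl hG) hF α' ?_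
    have he' : e.inv ≫ α' = complMap I (kernel.ι u) := (Iso.inv_comp_eq e).2 he.symm
    rw [hαj, Category.assoc, Iso.symm_hom, he', ← complMap_comp, kernel.lift_ι]

end Groth.Agent.H24GE
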